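import Cfsg.Agent.Fusion91.Simple

set_option autoImplicit false

/-! The simplicity criterion in a form for Sylow subgroups with no outer automisers. -/

namespace Cfsg.Agent.Fusion91

open Cfsg Cfsg.FusionSystem
open scoped Pointwise

variable {G : Type*} [Group G]

/-- Every nontrivial subgroup of `S` closed under `G`-fusion in `S` is `S`. -/
def NoClosed (S : Subgroup G) : Prop :=
  ∀ T : Subgroup G, T ≤ S → T ≠ ⊥ → (∀ x ∈ T, ∀ a : G, a * x * a⁻¹ ∈ S → a * x * a⁻¹ ∈ T) → T = S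

/-- Elements of odd order normalizing `S` centralize it. -/
def OddNormCentral (S : Subgroup G) : Prop :=
  ∀ g : G, g ∈ Subgroup.normalizer (S : Set G) → Odd (orderOf g) → ∀ x ∈ S, g * x = x * g

theorem NoClosed.smul {S : Subgroup G} (h : NoClosed S) (c : G) :
    NoClosed (S.map (MulAut.conj c).toMonoidHom) := by
  intro T hTS hT hcl
  have hT₀ : T.map (MulAut.conj c⁻¹).toMonoidHom = S := by
    refine h _ ?_ (fun hb => hT ?_) ?_
    · rintro _ ⟨x, hx, rfl⟩
      obtain ⟨s, hs, rfl⟩ := hTS hx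
      convert hs using 1
      simp [mul_assoc]
    · exact (Subgroup.map_eq_bot_iff_of_injective _ (MulAut.conj c⁻¹).injective).mp hb
    · rintro _ ⟨x, hx, rfl⟩ a ha
      refine ⟨(c * a * c⁻¹) * x * (c * a * c⁻¹)⁻¹, hcl x hx _ ?_, ?_⟩
      · refine ⟨_, ha, ?_⟩
        simp [mul_assoc]
      · simp [mul_assoc]
  rw [← hT₀, Subgroup.map_map]
  convert (Subgroup.map_id T).symm
  ext x
  simp [mul_assoc]

theorem OddNormCentral.smul {S : Subgroup G} (h : OddNormCentral S) (c : G) :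
    OddNormCentral (S.map (MulAut.conj c).toMonoidHom) := by
  intro g hg ho
  rintro _ ⟨s, hs, rfl⟩
  have hn : c⁻¹ * g * c ∈ Subgroup.normalizer (S : Set G) := by
    refine Subgroup.mem_normalizer_iff.mpr fun x => ?_
    have := Subgroup.mem_normalizer_iff.mp hg (c * x * c⁻¹)
    constructor
    · intro hx
      obtain ⟨y, hy, hye⟩ := this.mp ⟨x, hx, rfl⟩
      have : c * y * c⁻¹ = g * (c * x * c⁻¹) * g⁻¹ := hye
      rw [show c⁻¹ * g * c * x * (c⁻¹ * g * c)⁻¹ = y from
        calc c⁻¹ * g * c * x * (c⁻¹ * g * c)⁻¹ = c⁻¹ * (g * (c * x * c⁻¹) * g⁻¹) * c := by group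
          _ = c⁻¹ * (c * y * c⁻¹) * c := by rw [this]
          _ = y := by group]
      exact hy
    · intro hx
      obtain ⟨y, hy, hye⟩ := this.mpr ⟨_, hx, by simp [mul_assoc]⟩
      have : c * y * c⁻¹ = c * x * c⁻¹ := hye
      rw [mul_left_inj, mul_right_inj] at this; exact this ▸ hy
  have hord : orderOf (c⁻¹ * g * c) = orderOf g := by
    have h1 := orderOf_injective (MulAut.conj c⁻¹).toMonoidHom (MulAut.conj c⁻¹).injective g
    simpa using h1
  have h2 := h _ hn (hord ▸ ho) s hs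
  show g * (c * s * c⁻¹) = c * s * c⁻¹ * g
  calc g * (c * s * c⁻¹) = c * (c⁻¹ * g * c * s) * c⁻¹ := by group
    _ = c * (s * (c⁻¹ * g * c)) * c⁻¹ := by rw [h2]
    _ = c * s * c⁻¹ * g := by group

theorem exists_inner_of_oddNormCentral [Finite G] {p : ℕ} (hp : p = 2) [Fact p.Prime]
    (S : Sylow p G) (h : OddNormCentral (S : Subgroup G)) {g : G}
    (hg : g ∈ Subgroup.normalizer ((S : Subgroup G) : Set G)) :
    ∃ s ∈ (S : Subgroup G), ∀ x ∈ (S : Subgroup G), g * x * g⁻¹ = s * x * s⁻¹ := by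
  subst hp
  have hpos : orderOf g ≠ 0 := (orderOf_pos g).ne'
  set a := 2 ^ (orderOf g).factorization 2 with ha
  set o := orderOf g / a with ho
  have hao : a * o = orderOf g := Nat.ordProj_mul_ordCompl_eq_self _ _
  have hodd : Odd o := Nat.odd_iff.mpr (Nat.two_dvd_ne_zero.mp (Nat.not_dvd_ordCompl Nat.prime_two hpos))
  have hcop : Nat.Coprime a o := Nat.coprime_ordCompl Nat.prime_two hpos |>.pow_left _
  have hgo : g ^ o ∈ (S : Subgroup G) := by
    have hzp : IsPGroup 2 (Subgroup.zpowers (g ^ o)) := by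
      intro x
      obtain ⟨i, hi⟩ := Subgroup.mem_zpowers_iff.mp x.2
      refine ⟨(orderOf g).factorization 2, Subtype.ext ?_⟩
      rw [SubmonoidClass.coe_pow, ← hi, OneMemClass.coe_one, ← zpow_natCast, ← zpow_mul, mul_comm,
        zpow_mul, zpow_natCast, ← ha, ← pow_mul, mul_comm o a, hao, pow_orderOf_eq_one, one_zpow]
    have hle : Subgroup.zpowers (g ^ o) ≤ Subgroup.normalizer ((S : Subgroup G) : Set G) :=
      Subgroup.zpowers_le.mpr (pow_mem hg o)
    have hP : IsPGroup 2 ((S : Subgroup G) ⊔ Subgroup.zpowers (g ^ o) : Subgroup G) := by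
      rw [sup_comm]
      exact hzp.to_sup_of_normal_right' S.isPGroup' hle
    have h1 := S.is_maximal' hP le_sup_left
    have h2 : g ^ o ∈ (S : Subgroup G) ⊔ Subgroup.zpowers (g ^ o) :=
      Subgroup.mem_sup_right (Subgroup.mem_zpowers _)
    rwa [h1] at h2
  have hodd' : Odd (orderOf (g ^ a)) := by
    rw [orderOf_pow' _ (pow_ne_zero _ two_ne_zero), Nat.gcd_eq_right (Dvd.intro _ hao),
      show orderOf g / a = o from rfl]
    exact hodd
  have hcent := h _ (pow_mem hg a) hodd'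
  set u := Nat.gcdA a o
  set v := Nat.gcdB a o
  have hbez : (a : ℤ) * u + (o : ℤ) * v = 1 := by
    rw [← Nat.gcd_eq_gcd_ab, hcop.gcd_eq_one]; rfl
  refine ⟨(g ^ o) ^ v, zpow_mem hgo v, fun x hx => ?_⟩
  have hgdec : g = (g ^ o) ^ v * (g ^ a) ^ u := by
    rw [← zpow_natCast, ← zpow_natCast, ← zpow_mul, ← zpow_mul, ← zpow_add, add_comm, hbez, zpow_one]
  have hc : (g ^ a) ^ u * x = x * (g ^ a) ^ u :=
    ((Commute.zpow_left (show Commute (g ^ a) x from hcent x hx) u)).eq
  conv_lhs => rw [hgdec]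
  calc (g ^ o) ^ v * (g ^ a) ^ u * x * ((g ^ o) ^ v * (g ^ a) ^ u)⁻¹
      = (g ^ o) ^ v * ((g ^ a) ^ u * x * ((g ^ a) ^ u)⁻¹) * ((g ^ o) ^ v)⁻¹ := by group
    _ = _ := by rw [hc]; group

/-- Simplicity when all automorphisms of `S` induced by `G` are inner and fusion is transitive
enough. -/
theorem groupFusion_simple_of_local [Finite G] (p : ℕ) [Fact p.Prime] (S : Sylow p G)
    (hsat : (Cfsg.groupFusionSystem (S : Subgroup G)).IsSaturated p)
    (hFA : ∀ P, (Cfsg.groupFusionSystem (S : Subgroup G)).IsFullyNormalized P →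
      (Cfsg.groupFusionSystem (S : Subgroup G)).IsFullyAutomized p P)
    (hER : ∀ E : Cfsg.FusionSystem (S : Subgroup G), E.IsSaturated p →
      ∀ P, E.IsFullyCentralized P → E.IsReceptive P)
    (hS1 : (S : Subgroup G) ≠ ⊥) (ha : NoClosed (S : Subgroup G))
    (hb : ∀ g ∈ Subgroup.normalizer ((S : Subgroup G) : Set G),
      ∃ s ∈ (S : Subgroup G), ∀ x ∈ (S : Subgroup G), g * x * g⁻¹ = s * x * s⁻¹) :
    (Cfsg.groupFusionSystem (S : Subgroup G)).IsSimple p := by
  set F := Cfsg.groupFusionSystem (S : Subgroup G) with hF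
  refine groupFusion_simple_of p S hsat hFA hER hS1 ?_ ?_
  · intro T hT
    by_cases hbot : T = ⊥
    · exact Or.inl hbot
    refine Or.inr (ha T hT.1 hbot fun x hx a hax => ?_)
    have hle : Subgroup.zpowers x ≤ T := Subgroup.zpowers_le.mpr hx
    have hmaps : ∀ y : Subgroup.zpowers x, a * (y : G) * a⁻¹ ∈ (S : Subgroup G) := by
      rintro ⟨y, hy⟩
      obtain ⟨i, rfl⟩ := Subgroup.mem_zpowers_iff.mp hy
      have : a * x ^ i * a⁻¹ = (a * x * a⁻¹) ^ i := conj_zpow.symm
      show a * x ^ i * a⁻¹ ∈ _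
      rw [this]
      exact zpow_mem hax i
    exact hT.2 _ hle (conjHom _ a) ⟨hle.trans hT.1, hmaps, a, fun _ => rfl⟩
      ⟨x, Subgroup.mem_zpowers x⟩
  · have hR : F.IsFullyNormalized (S : Subgroup G) ∧ F.IsRadical p (S : Subgroup G) ∧
        F.IsCentric (S : Subgroup G) := by
      have hconj : ∀ Q, F.IsConj (S : Subgroup G) Q → Q = (S : Subgroup G) := by
        rintro Q ⟨φ, hφ, rfl⟩
        exact range_eq_of_card (F.injective_of_mem hφ) (val_mem F hφ) le_rfl
      refine ⟨⟨le_rfl, fun Q hQ => by rw [hconj Q hQ]⟩, ⟨le_rfl, ?_⟩,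
        ⟨le_rfl, fun Q hQ => by rw [hconj Q hQ]; exact inf_le_left⟩⟩
      have hInn : F.autGroup (S : Subgroup G) = Cfsg.Inn ↥(S : Subgroup G) := by
        apply le_antisymm
        · intro α hα
          obtain ⟨-, -, g, hg⟩ := hom_of_aut F le_rfl hα
          have hgn : g ∈ Subgroup.normalizer ((S : Subgroup G) : Set G) := by
            refine Subgroup.mem_normalizer_iff.mpr fun x => ⟨fun hx => ?_, fun hx => ?_⟩
            · exact (hg ⟨x, hx⟩).symm ▸ (α ⟨x, hx⟩).2
            · obtain ⟨y, hy⟩ := α.surjective ⟨_, hx⟩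
              have : g * (y : G) * g⁻¹ = g * x * g⁻¹ := (hg y).symm.trans (congrArg Subtype.val hy)
              rw [mul_left_inj, mul_right_inj] at this
              exact this ▸ y.2
          obtain ⟨s, hs, hse⟩ := hb g hgn
          refine ⟨⟨s, hs⟩, MulEquiv.ext fun x => Subtype.ext ?_⟩
          exact ((hg x).trans (hse x x.2)).symm
        · rintro _ ⟨s, rfl⟩
          exact (mem_autGroup_iff F le_rfl).mpr
            ⟨le_rfl, fun x => (MulAut.conj s x).2, (s : G), fun x => rfl⟩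
      rw [hInn]
      have hp' : IsPGroup p (Cfsg.Inn ↥(S : Subgroup G)) :=
        S.isPGroup'.of_surjective (MulAut.conj : ↥(S : Subgroup G) →* _).rangeRestrict
          (MonoidHom.rangeRestrict_surjective _)
      have htop : Cfsg.pCore p (Cfsg.Inn ↥(S : Subgroup G)) = ⊤ :=
        le_antisymm le_top (le_sSup ⟨inferInstance, hp'.to_subgroup ⊤⟩)
      rw [htop, ← MonoidHom.range_eq_map, Subgroup.range_subtype]
    apply le_antisymm
    · refine (Subgroup.closure_le _).mpr ?_
      rintro α ⟨g, -, hgα⟩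
      have hgn : g ∈ Subgroup.normalizer ((S : Subgroup G) : Set G) := by
        refine Subgroup.mem_normalizer_iff.mpr fun x => ⟨fun hx => ?_, fun hx => ?_⟩
        · exact (hgα ⟨x, hx⟩) ▸ (α ⟨x, hx⟩).2
        · obtain ⟨y, hy⟩ := α.surjective ⟨_, hx⟩
          have : g * (y : G) * g⁻¹ = g * x * g⁻¹ := (hgα y).symm.trans (congrArg Subtype.val hy)
          rw [mul_left_inj, mul_right_inj] at this
          exact this ▸ y.2
      obtain ⟨s, hs, hse⟩ := hb g hgn
      refine le_iSup₂ (f := fun R (_ : F.IsFullyNormalized R ∧ F.IsRadical p R ∧ F.IsCentric R) =>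
        autInducedBy (Subgroup.closure {g : G | g ∈ Subgroup.normalizer (R : Set G) ∧
          ∃ k : ℕ, orderOf g = p ^ k}) (S : Subgroup G)) (S : Subgroup G) hR ?_
      refine Subgroup.subset_closure ⟨s, Subgroup.subset_closure
        ⟨Subgroup.le_normalizer hs, ?_⟩, fun x => (hgα x).trans (hse x x.2)⟩
      obtain ⟨k, hk⟩ := IsPGroup.iff_orderOf.mp S.isPGroup' ⟨s, hs⟩
      exact ⟨k, by rw [← hk, ← Subgroup.orderOf_coe]⟩
    · exact iSup₂_le fun R _ => Subgroup.closure_mono fun α ⟨g, _, h⟩ => ⟨g, Subgroup.mem_top g, h⟩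

end Cfsg.Agent.Fusion91
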