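import Cfsg.Agent.Fusion91.Essential
import Cfsg.Agent.Lib.Fusion.Normal
import Cfsg.Agent.Lib.PGroup.Extraspecial
import Cfsg.Agent.Lib.PGroup.Basic
import Cfsg.Agent.Lib.SmallGroups.Order168
import Mathlib.GroupTheory.SpecificGroups.Quaternion

set_option autoImplicit false

/-! An essential subgroup has no automizer-invariant series with factors of order at most `p`. -/

namespace Cfsg.Agent.Fusion91

open Cfsg Cfsg.Agent.Fusion
open scoped commutatorElement

variable {Ω : Type*} [Group Ω] {S : Subgroup Ω} {F : Cfsg.FusionSystem S} {p : ℕ} [Fact p.Prime]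

/-- A permutation of `p`-power order with a fixed point on at most `p` points is trivial. -/
theorem perm_eq_one {Y : Type*} [Finite Y] (hY : Nat.card Y ≤ p) {σ : Equiv.Perm Y} {k : ℕ}
    (hk : σ ^ p ^ k = 1) {y₀ : Y} (hy₀ : σ y₀ = y₀) : σ = 1 := by
  refine Equiv.ext fun y => ?_
  by_contra hne
  have hG : IsPGroup p (Subgroup.zpowers σ) := by
    obtain ⟨j, -, hj⟩ := (Nat.dvd_prime_pow Fact.out).mp (orderOf_dvd_of_pow_eq_one hk)
    exact IsPGroup.of_card (n := j) (by rw [Nat.card_zpowers, hj])
  let O := MulAction.orbit (Subgroup.zpowers σ) y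
  obtain ⟨n, hn⟩ := hG.card_orbit y
  have hn1 : n ≠ 0 := by
    rintro rfl
    rw [pow_zero, Nat.card_eq_one_iff_unique] at hn
    exact hne (congrArg Subtype.val (hn.1.elim (⟨σ y, ⟨σ, Subgroup.mem_zpowers σ⟩, rfl⟩ : O)
      ⟨y, MulAction.mem_orbit_self y⟩))
  have hy : y₀ ∉ O := by
    intro h
    obtain ⟨⟨g, hg⟩, hgy⟩ := MulAction.orbit_eq_iff.mpr h ▸ MulAction.mem_orbit_self y
    obtain ⟨i, rfl⟩ := hg
    have hfix : (σ ^ i) y₀ = y₀ := Equiv.Perm.zpow_apply_eq_self_of_apply_eq_self hy₀ i
    have : y₀ = y := hfix.symm.trans hgy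
    exact hne (this ▸ hy₀)
  have h1 : Nat.card O < Nat.card Y := by
    rw [Nat.card_coe_set_eq, ← Set.ncard_univ]
    exact Set.ncard_lt_ncard ((Set.ssubset_univ_iff).mpr fun h => hy (h ▸ Set.mem_univ _))
  have h2 : p ≤ Nat.card O := hn ▸ Nat.le_self_pow hn1 p
  omega

/-- An essential subgroup has no invariant series with all indices at most `p`. -/
theorem no_invariant_series [Finite S] (hS : IsPGroup p S) {P : Subgroup Ω} (hP : F.IsEssential p P)
    (D : ℕ → Subgroup Ω) (n : ℕ) (hDP : ∀ i, D i ≤ P) (h0 : D 0 = ⊥) (hn : D n = P)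
    (hinv : ∀ i ≤ n, ∀ α ∈ F.autGroup P, autFun α '' (D i : Set Ω) = (D i : Set Ω))
    (hidx : ∀ i < n, (D i).relIndex (D (i + 1)) ≤ p) : False := by
  obtain ⟨hc, -, hnorm, E, hE⟩ := hP
  have : Finite P := finite_of_le hc.1
  have : Finite (MulAut P) := finite_mulAut P
  let N := (Cfsg.Inn P).subgroupOf (F.autGroup P)
  let K := chainStab F D n hinv hDP
  have hKN : K ≤ N := by
    have := eq_bot_of_spe hE ((chainStab_normal D n hinv hDP).map _ (QuotientGroup.mk'_surjective N))
      ((chainStab_isPGroup (hS.to_le hc.1) D n hinv hDP h0 hn).map _)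
    rwa [Subgroup.map_eq_bot_iff, QuotientGroup.ker_mk'] at this
  obtain ⟨R⟩ : Nonempty (Sylow p (F.autGroup P)) := inferInstance
  have hRK : (R : Subgroup (F.autGroup P)) ≤ K := by
    intro a ha i hi x hx
    let A := D (i + 1)
    let B := (D i).subgroupOf A
    obtain ⟨k, hk⟩ := R.isPGroup' ⟨a, ha⟩
    have hak : a ^ p ^ k = 1 := congrArg Subtype.val hk
    have hAfin : Finite A := finite_of_le ((hDP _).trans hc.1)
    have hmaps : ∀ (j : ℕ), j ≤ n → ∀ y ∈ D j, autFun (a : MulAut P) y ∈ D j := fun j hj y hy => by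
      rw [← SetLike.mem_coe, ← hinv j hj _ a.2]
      exact ⟨y, hy, rfl⟩
    let e : A → A := fun y => ⟨autFun (a : MulAut P) y, hmaps (i + 1) hi y y.2⟩
    have he_mul : ∀ y z : A, e (y * z) = e y * e z := fun y z => Subtype.ext (by
      show autFun (a : MulAut P) ((y : Ω) * z) = _
      exact ((mem_autGroup hc.1).mp a.2).1.map_mul (hDP _ y.2) (hDP _ z.2))
    have he_inj : Function.Injective e := fun y z h => Subtype.ext
      (((mem_autGroup hc.1).mp a.2).1.injOn (hDP _ y.2) (hDP _ z.2) (congrArg Subtype.val h))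
    let eh : A →* A := MonoidHom.mk' e he_mul
    have he : B ≤ B.comap eh := fun y hy => hmaps i hi.le y hy
    let ebar : A ⧸ B → A ⧸ B := Quotient.map' e fun y z h => by
      rw [QuotientGroup.leftRel_apply] at h ⊢
      have := he h
      rwa [Subgroup.mem_comap, map_mul, map_inv] at this
    have ebar_mk : ∀ y : A, ebar (y : A ⧸ B) = (e y : A ⧸ B) := fun _ => rfl
    have hsurj : Function.Surjective ebar := by
      intro y
      obtain ⟨y, rfl⟩ := QuotientGroup.mk_surjective y
      obtain ⟨z, rfl⟩ := (Finite.surjective_of_injective he_inj) y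
      exact ⟨z, ebar_mk z⟩
    have hbij : Function.Bijective ebar := ⟨Finite.injective_iff_surjective.mpr hsurj, hsurj⟩
    let σ : Equiv.Perm (A ⧸ B) := Equiv.ofBijective ebar hbij
    have hpow : ∀ (j : ℕ) (y : A), (σ ^ j) (y : A ⧸ B) = ((e^[j] y : A) : A ⧸ B) := by
      intro j
      induction j with
      | zero => intro y; rfl
      | succ j ih =>
        intro y
        rw [pow_succ', Equiv.Perm.mul_apply, ih, Function.iterate_succ_apply']
        exact ebar_mk _
    have hiter : ∀ (j : ℕ) (y : A), ((e^[j] y : A) : Ω) = autFun ((a ^ j : F.autGroup P) : MulAut P) y := by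
      intro j
      induction j with
      | zero =>
        intro y
        rw [pow_zero, OneMemClass.coe_one, autFun_one (hDP _ y.2)]
        rfl
      | succ j ih =>
        intro y
        rw [Function.iterate_succ_apply', pow_succ', Subgroup.coe_mul, autFun_mul _ _ (hDP _ y.2),
          Function.comp_apply, ← ih]
    have hσ : σ ^ p ^ k = 1 := by
      refine Equiv.ext fun y => ?_
      obtain ⟨y, rfl⟩ := QuotientGroup.mk_surjective y
      rw [hpow]
      refine congrArg _ (Subtype.ext ?_)
      rw [hiter, hak, OneMemClass.coe_one, autFun_one (hDP _ y.2)]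
      rfl
    have hσ1 := perm_eq_one (hidx i hi) hσ (y₀ := ((1 : A) : A ⧸ B)) (by
      simp only [σ, Equiv.ofBijective_apply]
      rw [ebar_mk]
      exact congrArg _ (map_one eh))
    have h1 : ebar ((⟨x, hx⟩ : A) : A ⧸ B) = ((⟨x, hx⟩ : A) : A ⧸ B) := by
      have h := Equiv.ext_iff.mp hσ1 ((⟨x, hx⟩ : A) : A ⧸ B)
      simpa only [σ, Equiv.ofBijective_apply, Equiv.Perm.one_apply] using h
    rw [ebar_mk, QuotientGroup.eq] at h1
    have h2 := (D i).inv_mem (Subgroup.mem_subgroupOf.mp h1)
    simpa [e] using h2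
  refine Sylow.ne_bot_of_dvd_card (R.mapSurjective (QuotientGroup.mk'_surjective N)) hE.1 ?_
  rw [Sylow.coe_mapSurjective, Subgroup.map_eq_bot_iff, QuotientGroup.ker_mk']
  exact hRK.trans hKN

/-- An essential subgroup has no characteristic series with indices at most `p`. -/
theorem no_char_series [Finite S] (hS : IsPGroup p S) {P : Subgroup Ω} (hP : F.IsEssential p P)
    (L : ℕ → Subgroup P) (n : ℕ) (hchar : ∀ i, (L i).Characteristic) (h0 : L 0 = ⊥) (hn : L n = ⊤)
    (hidx : ∀ i < n, (L i).relIndex (L (i + 1)) ≤ p) : False := by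
  refine no_invariant_series hS hP (fun i => (L i).map P.subtype) n
    (fun i => Subgroup.map_subtype_le _) (by rw [h0, Subgroup.map_bot])
    (by rw [hn, ← MonoidHom.range_eq_map, Subgroup.range_subtype]) (fun i _ α _ => ?_) fun i hi => ?_
  · have hfix := Subgroup.characteristic_iff_map_eq.mp (hchar i) α
    ext y
    constructor
    · rintro ⟨_, ⟨z, hz, rfl⟩, rfl⟩
      rw [show autFun α ((P.subtype z : Ω)) = (α z : Ω) from autFun_coe α z]
      exact ⟨α z, hfix.le ⟨z, hz, rfl⟩, rfl⟩
    · rintro ⟨z, hz, rfl⟩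
      obtain ⟨w, hw, rfl⟩ := hfix.ge hz
      exact ⟨w, ⟨w, hw, rfl⟩, autFun_coe α w⟩
  · rw [Subgroup.relIndex_map_map_of_injective _ _ P.subtype_injective]
    exact hidx i hi

theorem no_char_series_cube [Finite S] (hS : IsPGroup p S) {P : Subgroup Ω} (hP : F.IsEssential p P)
    (hcard : Nat.card P = p ^ 3) {A B : Subgroup P} (hAB : A ≤ B) (hA : A.Characteristic)
    (hB : B.Characteristic) (cA : Nat.card A = p) (cB : Nat.card B = p ^ 2) : False := by
  have hp := (Fact.out : p.Prime)
  refine no_char_series hS hP (fun i => if i = 0 then ⊥ else if i = 1 then A else if i = 2 then B else ⊤) 3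
    (fun i => ?_) rfl rfl fun i hi => ?_
  · show (if i = 0 then (⊥ : Subgroup P) else _).Characteristic
    by_cases h0 : i = 0
    · rw [if_pos h0]; infer_instance
    by_cases h1 : i = 1
    · rw [if_neg h0, if_pos h1]; exact hA
    by_cases h2 : i = 2
    · rw [if_neg h0, if_neg h1, if_pos h2]; exact hB
    · rw [if_neg h0, if_neg h1, if_neg h2]; infer_instance
  · have : i = 0 ∨ i = 1 ∨ i = 2 := by omega
    have h1 := Subgroup.relIndex_mul_relIndex ⊥ A B bot_le hAB
    rw [Subgroup.relIndex_bot_left, Subgroup.relIndex_bot_left, cA, cB, sq] at h1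
    have h2 := Subgroup.card_mul_index B
    rw [cB, hcard, pow_succ] at h2
    rcases this with rfl | rfl | rfl <;> simp only [if_true, if_false, Nat.reduceAdd, Nat.reduceEqDiff]
    · rw [Subgroup.relIndex_bot_left, cA]
    · exact (Nat.eq_of_mul_eq_mul_left hp.pos h1).le
    · rw [Subgroup.relIndex_top_right]
      exact (Nat.eq_of_mul_eq_mul_left (pow_pos hp.pos 2) h2).le

omit [Fact p.Prime] in
theorem characteristic_of_pow {G : Type*} [Group G] {A : Subgroup G} (f : ∀ x : G, x ∈ A ↔ x ^ p = 1) :
    A.Characteristic :=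
  Subgroup.characteristic_iff_le_comap.mpr fun φ x hx => by
    rw [Subgroup.mem_comap, f, MulEquiv.coe_toMonoidHom, ← map_pow, (f x).mp hx, map_one]

theorem quaternion_xs : Cfsg.IsExtraspecial 2 (QuaternionGroup 2) ∧
    ∀ x : QuaternionGroup 2, x ^ 2 = 1 → x ∈ Subgroup.center (QuaternionGroup 2) := by
  have hsq : ∀ x : QuaternionGroup 2, x ^ 2 = 1 → x ∈ Subgroup.center (QuaternionGroup 2) := by
    intro x hx
    rw [Subgroup.mem_center_iff]
    revert x
    decide
  refine ⟨?_, hsq⟩
  have : Fact (Nat.Prime 2) := ⟨Nat.prime_two⟩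
  have hcard : Nat.card (QuaternionGroup 2) = 2 ^ 3 := by
    rw [Nat.card_eq_fintype_card]
    rfl
  have hp : IsPGroup 2 (QuaternionGroup 2) := IsPGroup.of_card hcard
  have hZ : Nat.card (Subgroup.center (QuaternionGroup 2)) = 2 := by
    rw [Nat.card_eq_fintype_card]
    decide
  have hle : commutator (QuaternionGroup 2) ≤ Subgroup.center (QuaternionGroup 2) := by
    rw [commutator_def]
    have h : ∀ a b g : QuaternionGroup 2, g * ⁅a, b⁆ = ⁅a, b⁆ * g := by decide
    exact Subgroup.commutator_le.mpr fun a _ b _ => Subgroup.mem_center_iff.mpr (h a b)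
  refine ⟨⟨hp, le_antisymm (PGroup.frattini_le_of_quotient (p := 2) hle fun x => ?_) ?_, le_antisymm hle ?_⟩, hZ⟩
  · rw [Subgroup.mem_center_iff]
    revert x
    decide
  · intro z hz
    have h : ∀ z : QuaternionGroup 2, z ∈ Subgroup.center (QuaternionGroup 2) → ∃ y, y ^ 2 = z := by
      intro z hz
      rw [Subgroup.mem_center_iff] at hz
      revert z
      decide
    obtain ⟨y, rfl⟩ := h z hz
    exact PGroup.pow_mem_frattini hp y
  · intro z hz
    have h : ∀ z : QuaternionGroup 2, z ∈ Subgroup.center (QuaternionGroup 2) →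
        ∃ a b : QuaternionGroup 2, ⁅a, b⁆ = z := by
      intro z hz
      rw [Subgroup.mem_center_iff] at hz
      revert z
      decide
    obtain ⟨a, b, rfl⟩ := h z hz
    exact Subgroup.commutator_mem_commutator (Subgroup.mem_top a) (Subgroup.mem_top b)

theorem extraspecial_of_card_cube {G : Type*} [Group G] [Finite G] (hcard : Nat.card G = p ^ 3)
    (hna : ¬ IsMulCommutative G) : Cfsg.IsExtraspecial p G := by
  have hp := (Fact.out : p.Prime)
  have hG : IsPGroup p G := IsPGroup.of_card hcard
  have : Nontrivial G := Finite.one_lt_card_iff_nontrivial.mp (hcard ▸ Nat.one_lt_pow (by norm_num) hp.one_lt)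
  have hZ : Nat.card (Subgroup.center G) = p := by
    obtain ⟨k, hk, hZk⟩ := (Nat.dvd_prime_pow hp).mp (hcard ▸ Subgroup.card_subgroup_dvd_card (Subgroup.center G))
    have hk0 : k ≠ 0 := by
      rintro rfl
      have := hG.center_nontrivial
      exact absurd hZk (by simpa using (Finite.one_lt_card (α := Subgroup.center G)).ne')
    have hk2 : k ≠ 2 ∧ k ≠ 3 := by
      have key : ¬ IsCyclic (G ⧸ Subgroup.center G) := fun _ =>
        hna ((QuotientGroup.mk' (Subgroup.center G)).isMulCommutative_of_isCyclic_of_ker_le_center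
          (QuotientGroup.ker_mk' _).le)
      have h := Subgroup.card_eq_card_quotient_mul_card_subgroup (Subgroup.center G)
      rw [hcard, hZk] at h
      constructor <;> rintro rfl
      · refine key (isCyclic_of_prime_card (p := p) (Nat.eq_of_mul_eq_mul_right (pow_pos hp.pos 2) ?_))
        rw [← h]; ring
      · refine key ?_
        have h1 : Nat.card (G ⧸ Subgroup.center G) = 1 :=
          Nat.eq_of_mul_eq_mul_right (pow_pos hp.pos 3) (by rw [← h]; ring)
        have := (Nat.card_eq_one_iff_unique.mp h1).1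
        exact isCyclic_of_subsingleton
    obtain rfl : k = 1 := by omega
    simpa using hZk
  have hq : Nat.card (G ⧸ Subgroup.center G) = p ^ 2 := by
    have h := Subgroup.card_eq_card_quotient_mul_card_subgroup (Subgroup.center G)
    rw [hcard, hZ] at h
    exact Nat.eq_of_mul_eq_mul_right hp.pos (by rw [← h]; ring)
  have hqc : IsMulCommutative (G ⧸ Subgroup.center G) :=
    IsPGroup.isMulCommutative_of_card_eq_prime_sq hq
  have hle : commutator G ≤ Subgroup.center G := by
    rw [commutator_def]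
    refine Subgroup.commutator_le.mpr fun a _ b _ => ?_
    rw [← QuotientGroup.eq_one_iff, ← QuotientGroup.mk'_apply, map_commutatorElement,
      commutatorElement_eq_one_iff_mul_comm]
    exact hqc.is_comm.comm _ _
  have hpow : ∀ x : G, x ^ p ∈ Subgroup.center G := by
    intro x
    rw [← QuotientGroup.eq_one_iff, QuotientGroup.mk_pow]
    obtain ⟨j, hj, hjo⟩ := (Nat.dvd_prime_pow hp).mp (hq ▸ orderOf_dvd_natCard (x : G ⧸ Subgroup.center G))
    rcases Nat.lt_or_ge j 2 with h | h
    · exact orderOf_dvd_iff_pow_eq_one.mp (hjo ▸ (by simpa using pow_dvd_pow p (show j ≤ 1 by omega)))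
    · obtain rfl : j = 2 := by omega
      have : IsCyclic (G ⧸ Subgroup.center G) := isCyclic_of_orderOf_eq_card _ (hjo.trans hq.symm)
      exact absurd ((QuotientGroup.mk' (Subgroup.center G)).isMulCommutative_of_isCyclic_of_ker_le_center
        (QuotientGroup.ker_mk' _).le) hna
  have hne : commutator G ≠ ⊥ := by
    intro h
    refine hna ⟨⟨fun a b => commutatorElement_eq_one_iff_mul_comm.mp ?_⟩⟩
    rw [← Subgroup.mem_bot, ← h]
    exact Subgroup.commutator_mem_commutator (Subgroup.mem_top a) (Subgroup.mem_top b)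
  have heq : commutator G = Subgroup.center G := by
    refine Subgroup.eq_of_le_of_card_ge hle ?_
    rw [hZ]
    have hd := hZ ▸ Subgroup.card_dvd_of_le hle
    rcases (Nat.dvd_prime hp).mp hd with h | h
    · exact absurd (Subgroup.card_eq_one.mp h) hne
    · exact h.ge
  exact ⟨⟨hG, le_antisymm (PGroup.frattini_le_of_quotient hle hpow)
    (heq.symm.le.trans (PGroup.commutator_le_frattini hG)), heq⟩, hZ⟩

/-- The essential subgroups of order `p³`. -/
theorem essential_cube [Finite S] (hS : IsPGroup p S) {H : Subgroup Ω} (hH : F.IsEssential p H)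
    (hcard : Nat.card H = p ^ 3) :
    Cfsg.IsElementaryAbelian p H ∨ (Odd p ∧ Cfsg.IsExtraspecial p ↥H ∧ ∀ x ∈ H, x ^ p = 1) ∨
      (p = 2 ∧ Nonempty (↥H ≃* QuaternionGroup 2)) := by
  classical
  have hp := (Fact.out : p.Prime)
  have : Finite H := finite_of_le hH.1.1
  have hHp : IsPGroup p H := IsPGroup.of_card hcard
  by_cases hab : IsMulCommutative H
  · left
    refine ⟨hab, ?_⟩
    by_contra hex
    push Not at hex
    obtain ⟨a, ha, hap⟩ := hex
    letI : CommGroup H := { (inferInstance : Group H) with mul_comm := hab.is_comm.comm }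
    let φ : H →* H := powMonoidHom p
    have hker : φ.ker.Characteristic := characteristic_of_pow fun x => Iff.rfl
    have hran : φ.range.Characteristic := Subgroup.characteristic_iff_map_le.mpr fun ψ y hy => by
      obtain ⟨_, ⟨x, rfl⟩, rfl⟩ := hy
      exact ⟨ψ x, (map_pow ψ x p).symm⟩
    have hmul : Nat.card φ.ker * Nat.card φ.range = p ^ 3 := by
      rw [← Subgroup.index_ker, Subgroup.card_mul_index, hcard]
    obtain ⟨i, hi, hik⟩ := (Nat.dvd_prime_pow hp).mp (hcard ▸ Subgroup.card_subgroup_dvd_card φ.ker)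
    obtain ⟨j, hj, hjk⟩ := (Nat.dvd_prime_pow hp).mp (hcard ▸ Subgroup.card_subgroup_dvd_card φ.range)
    rw [hik, hjk, ← pow_add] at hmul
    have hij := Nat.pow_right_injective hp.two_le hmul
    have hj0 : j ≠ 0 := by
      rintro rfl
      have h1 : φ.range = ⊥ := Subgroup.card_eq_one.mp (by simpa using hjk)
      have : φ ⟨a, ha⟩ ∈ (⊥ : Subgroup H) := h1 ▸ ⟨_, rfl⟩
      exact hap (congrArg Subtype.val (Subgroup.mem_bot.mp this))
    have hi0 : i ≠ 0 := by
      rintro rfl
      obtain ⟨x, hx⟩ := exists_prime_orderOf_dvd_card' (G := H) p (hcard ▸ dvd_pow_self p (by norm_num))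
      have h1 : φ.ker = ⊥ := Subgroup.card_eq_one.mp (by simpa using hik)
      have h2 : x ∈ φ.ker := by
        show x ^ p = 1
        rw [← hx, pow_orderOf_eq_one]
      rw [h1, Subgroup.mem_bot] at h2
      rw [h2, orderOf_one] at hx
      exact hp.one_lt.ne hx
    rcases (by omega : (j = 1 ∧ i = 2) ∨ (j = 2 ∧ i = 1)) with ⟨rfl, rfl⟩ | ⟨rfl, rfl⟩
    · refine no_char_series_cube hS hH hcard ?_ hran hker (by simpa using hjk) hik
      intro y hy
      rw [pow_one] at hjk
      have : (⟨y, hy⟩ : φ.range) ^ p = 1 := by rw [← hjk]; exact pow_card_eq_one'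
      exact congrArg Subtype.val this
    · refine no_char_series_cube hS hH hcard ?_ hker hran (by simpa using hik) hjk
      obtain ⟨x, hx⟩ := exists_prime_orderOf_dvd_card' (G := φ.range) p (hjk ▸ dvd_pow_self p (by norm_num))
      have hxk : (x : H) ∈ φ.ker := by
        show (x : H) ^ p = 1
        rw [← hx, Subgroup.orderOf_coe _ |>.symm, pow_orderOf_eq_one]
      rw [pow_one] at hik
      have hz : Subgroup.zpowers (x : H) = φ.ker := Subgroup.eq_of_le_of_card_ge
        (Subgroup.zpowers_le.mpr hxk) (by rw [Nat.card_zpowers, Subgroup.orderOf_coe, hx, hik])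
      exact hz ▸ Subgroup.zpowers_le.mpr x.2
  · have hxs := extraspecial_of_card_cube hcard hab
    have hZc : (Subgroup.center H).Characteristic := inferInstance
    rcases hp.eq_two_or_odd' with h2 | hodd
    · subst h2
      by_cases hinv : ∀ x : H, x ^ 2 = 1 → x ∈ Subgroup.center H
      · exact Or.inr (Or.inr ⟨rfl, PGroup.xs_two_small hxs quaternion_xs.1 (by rw [hcard]; rfl)
          (by rw [Nat.card_eq_fintype_card]; rfl)
          (iff_of_true hinv quaternion_xs.2)⟩)
      exfalso
      push Not at hinv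
      obtain ⟨s, hs, hsc⟩ := hinv
      obtain ⟨e⟩ := SmallGroups.dihedral_of_card_eight (by rw [hcard]; rfl) s
        (orderOf_eq_prime hs fun h => hsc (h ▸ Subgroup.one_mem _)) hsc
      let r : H := e.symm (DihedralGroup.r 1)
      have hro : orderOf r = 4 := by
        rw [MulEquiv.orderOf_eq, DihedralGroup.orderOf_r_one]
      have hmem : ∀ x : H, orderOf x = 4 → x ∈ Subgroup.zpowers r := by
        intro x hx
        have hx' : orderOf (e x) = 4 := by rw [MulEquiv.orderOf_eq, hx]
        obtain ⟨j, hj⟩ : ∃ j : ℕ, e x = DihedralGroup.r 1 ^ j := by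
          cases hxe : e x with
          | r i => exact ⟨i.val, by rw [DihedralGroup.r_one_pow, ZMod.natCast_zmod_val]⟩
          | sr i => rw [hxe, DihedralGroup.orderOf_sr] at hx'; omega
        refine ⟨(j : ℤ), ?_⟩
        show r ^ (j : ℤ) = x
        rw [zpow_natCast, ← map_pow, ← hj, MulEquiv.symm_apply_apply]
      have hB : (Subgroup.zpowers r).Characteristic := Subgroup.characteristic_iff_map_le.mpr fun ψ => by
        rw [MonoidHom.map_zpowers, Subgroup.zpowers_le]
        exact hmem _ (by rw [MulEquiv.coe_toMonoidHom, MulEquiv.orderOf_eq, hro])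
      refine no_char_series_cube hS hH hcard ?_ hZc hB hxs.2 (by rw [Nat.card_zpowers, hro]; rfl)
      intro z hz
      by_cases hz1 : z = 1
      · rw [hz1]; exact Subgroup.one_mem _
      have hr2 : r ^ 2 ∈ Subgroup.center H := PGroup.xs_pow_mem hxs r
      have hne : r ^ 2 ≠ 1 := fun h => by
        have := orderOf_dvd_of_pow_eq_one h
        rw [hro] at this
        norm_num at this
      rw [PGroup.xs_two_eq_of_mem_center hxs hz hz1 hr2 hne]
      exact Subgroup.pow_mem _ (Subgroup.mem_zpowers r) 2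
    · refine Or.inr (Or.inl ⟨hodd, hxs, fun x hx => ?_⟩)
      by_contra hxp
      have hcomm : ∀ a b : H, ⁅a, b⁆ ∈ Subgroup.center H := PGroup.xs_comm_mem hxs
      have hchoose : p ∣ p.choose 2 := hp.dvd_choose_self two_ne_zero (by
        rcases hodd with ⟨m, rfl⟩
        have := hp.two_le
        omega)
      have hmulp : ∀ a b : H, (a * b) ^ p = a ^ p * b ^ p := fun a b => by
        rw [PGroup.mul_pow_of_commute_commutator
          (Subgroup.mem_center_iff.mp (hcomm b a) a).symm
          (Subgroup.mem_center_iff.mp (hcomm b a) b).symm]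
        obtain ⟨m, hm⟩ := hchoose
        rw [hm, pow_mul, PGroup.xs_comm_pow hxs, one_pow, mul_one]
      let φ : H →* H := MonoidHom.mk' (fun a => a ^ p) hmulp
      have hker : φ.ker.Characteristic := characteristic_of_pow fun x => Iff.rfl
      have hran : φ.range = Subgroup.center H := by
        refine Subgroup.eq_of_le_of_card_ge ?_ ?_
        · rintro _ ⟨y, rfl⟩
          exact PGroup.xs_pow_mem hxs y
        · rw [hxs.2]
          have h1 : φ ⟨x, hx⟩ ≠ 1 := fun h => hxp (congrArg Subtype.val h)
          obtain ⟨m, hm, hmk⟩ := (Nat.dvd_prime_pow hp).mp (hcard ▸ Subgroup.card_subgroup_dvd_card φ.range)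
          rw [hmk]
          refine Nat.le_self_pow ?_ p
          rintro rfl
          have h2 : φ.range = ⊥ := Subgroup.card_eq_one.mp (by simpa using hmk)
          exact h1 (Subgroup.mem_bot.mp (h2 ▸ ⟨_, rfl⟩))
      refine no_char_series_cube hS hH hcard (fun z hz => ?_) hZc hker hxs.2 ?_
      · show z ^ p = 1
        exact PGroup.xs_center_pow hxs hz
      · have h1 := Subgroup.card_mul_index φ.ker
        rw [Subgroup.index_ker, hran, hxs.2, hcard] at h1
        exact Nat.eq_of_mul_eq_mul_right hp.pos (by rw [h1]; ring)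

end Cfsg.Agent.Fusion91
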