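import Cfsg.Agent.Fusion91.Basic

set_option autoImplicit false

/-! The core and the centre of a fusion system over a finite group. -/

namespace Cfsg.Agent.Fusion91

open Cfsg Cfsg.FusionSystem

variable {Ω : Type*} [Group Ω] {S : Subgroup Ω}

theorem isNormal_bot (F : Cfsg.FusionSystem S) : F.IsNormal ⊥ := by
  refine ⟨bot_le, fun P φ hφ => ?_⟩
  refine ⟨φ.comp (Subgroup.inclusion (sup_bot_eq P).le), restrict_mem F hφ (sup_bot_eq P).le,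
    fun x => rfl, ?_⟩
  rw [Subgroup.bot_subgroupOf, Subgroup.map_bot]

theorem isCentral_bot (F : Cfsg.FusionSystem S) : F.IsCentral ⊥ := by
  refine ⟨bot_le, fun P φ hφ => ?_⟩
  refine ⟨φ.comp (Subgroup.inclusion (sup_bot_eq P).le), restrict_mem F hφ (sup_bot_eq P).le,
    fun x => rfl, fun x => ?_⟩
  obtain rfl : x = 1 := Subsingleton.elim _ _
  simp

theorem IsNormal.sup (F : Cfsg.FusionSystem S) {Q₁ Q₂ : Subgroup Ω} (h₁ : F.IsNormal Q₁)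
    (h₂ : F.IsNormal Q₂) : F.IsNormal (Q₁ ⊔ Q₂) := by
  refine ⟨sup_le h₁.1 h₂.1, fun P φ hφ => ?_⟩
  obtain ⟨ψ₁, hψ₁, e₁, m₁⟩ := h₁.2 P φ hφ
  obtain ⟨ψ₂, hψ₂, e₂, m₂⟩ := h₂.2 _ ψ₁ hψ₁
  have hle : P ⊔ (Q₁ ⊔ Q₂) ≤ (P ⊔ Q₁) ⊔ Q₂ := (sup_assoc _ _ _).ge
  refine ⟨ψ₂.comp (Subgroup.inclusion hle), restrict_mem F hψ₂ hle, fun x => ?_, ?_⟩
  · exact (e₂ (Subgroup.inclusion le_sup_left x)).trans (e₁ x)
  · have hl₁ : Q₁ ≤ P ⊔ (Q₁ ⊔ Q₂) := le_sup_left.trans le_sup_right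
    have hl₂ : Q₂ ≤ P ⊔ (Q₁ ⊔ Q₂) := le_sup_right.trans le_sup_right
    rw [← Subgroup.map_map, Subgroup.subgroupOf_sup hl₁ hl₂, Subgroup.map_sup, Subgroup.map_sup]
    have k₁ : ((Q₁.subgroupOf (P ⊔ (Q₁ ⊔ Q₂))).map (Subgroup.inclusion hle)).map ψ₂ = Q₁ := by
      conv_rhs => rw [← m₁]
      ext y
      simp only [Subgroup.mem_map, Subgroup.mem_subgroupOf]
      constructor
      · rintro ⟨_, ⟨x, hx, rfl⟩, rfl⟩
        exact ⟨⟨x, le_sup_right (a := P) hx⟩, hx, (e₂ _).symm⟩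
      · rintro ⟨x, hx, rfl⟩
        exact ⟨_, ⟨⟨x, hl₁ hx⟩, hx, rfl⟩, e₂ _⟩
    have k₂ : ((Q₂.subgroupOf (P ⊔ (Q₁ ⊔ Q₂))).map (Subgroup.inclusion hle)).map ψ₂ = Q₂ := by
      conv_rhs => rw [← m₂]
      ext y
      simp only [Subgroup.mem_map, Subgroup.mem_subgroupOf]
      constructor
      · rintro ⟨_, ⟨x, hx, rfl⟩, rfl⟩
        exact ⟨_, hx, rfl⟩
      · rintro ⟨x, hx, rfl⟩
        exact ⟨_, ⟨⟨x, hl₂ hx⟩, hx, rfl⟩, rfl⟩
    rw [k₁, k₂]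

theorem IsCentral.sup (F : Cfsg.FusionSystem S) {Q₁ Q₂ : Subgroup Ω} (h₁ : F.IsCentral Q₁)
    (h₂ : F.IsCentral Q₂) : F.IsCentral (Q₁ ⊔ Q₂) := by
  refine ⟨sup_le h₁.1 h₂.1, fun P φ hφ => ?_⟩
  obtain ⟨ψ₁, hψ₁, e₁, m₁⟩ := h₁.2 P φ hφ
  obtain ⟨ψ₂, hψ₂, e₂, m₂⟩ := h₂.2 _ ψ₁ hψ₁
  have hle : P ⊔ (Q₁ ⊔ Q₂) ≤ (P ⊔ Q₁) ⊔ Q₂ := (sup_assoc _ _ _).ge
  refine ⟨ψ₂.comp (Subgroup.inclusion hle), restrict_mem F hψ₂ hle, fun x => ?_, fun x => ?_⟩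
  · exact (e₂ (Subgroup.inclusion le_sup_left x)).trans (e₁ x)
  · set χ := (ψ₂.comp (Subgroup.inclusion hle)).comp (Subgroup.inclusion (le_sup_right (a := P))) with hχ
    have : Q₁ ⊔ Q₂ ≤ (MonoidHom.eqLocus χ (Q₁ ⊔ Q₂).subtype).map (Q₁ ⊔ Q₂).subtype := by
      refine sup_le (fun q hq => ⟨⟨q, le_sup_left (b := Q₂) hq⟩, ?_, rfl⟩)
        (fun q hq => ⟨⟨q, le_sup_right (a := Q₁) hq⟩, ?_, rfl⟩)
      · exact (e₂ ⟨q, le_sup_right (a := P) hq⟩).trans (m₁ ⟨q, hq⟩)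
      · exact m₂ ⟨q, hq⟩
    obtain ⟨y, hy, hyx⟩ := this x.2
    obtain rfl : y = x := Subtype.ext hyx
    exact hy

theorem isNormal_core [Finite S] (F : Cfsg.FusionSystem S) : F.IsNormal F.core := by
  have hfin : {Q : Subgroup Ω | F.IsNormal Q}.Finite :=
    finite_subgroups_le.subset fun _ h => h.1
  have : F.core = hfin.toFinset.sup id := by
    rw [Finset.sup_id_eq_sSup, Set.Finite.coe_toFinset]; rfl
  rw [this]
  exact Finset.sup_induction (isNormal_bot F) (fun _ a _ b => IsNormal.sup F a b)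
    (fun Q hQ => hfin.mem_toFinset.mp hQ)

theorem isCentral_center [Finite S] (F : Cfsg.FusionSystem S) : F.IsCentral F.center := by
  have hfin : {Q : Subgroup Ω | F.IsCentral Q}.Finite :=
    finite_subgroups_le.subset fun _ h => h.1
  have : F.center = hfin.toFinset.sup id := by
    rw [Finset.sup_id_eq_sSup, Set.Finite.coe_toFinset]; rfl
  rw [this]
  exact Finset.sup_induction (isCentral_bot F) (fun _ a _ b => IsCentral.sup F a b)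
    (fun Q hQ => hfin.mem_toFinset.mp hQ)

theorem le_core {F : Cfsg.FusionSystem S} {Q : Subgroup Ω} (h : F.IsNormal Q) : Q ≤ F.core :=
  le_sSup h

end Cfsg.Agent.Fusion91
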