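import Cfsg.Agent.Fusion91.Basic

set_option autoImplicit false

/-! Existence of factor systems modulo strongly closed subgroups. -/

namespace Cfsg.Agent.Fusion91

open Cfsg Cfsg.FusionSystem

variable {Ω : Type*} [Group Ω] {S : Subgroup Ω} {Ω' : Type*} [Group Ω']

theorem le_preimage_of_kernel {S₀ : Subgroup Ω} (h₀ : S₀ ≤ S) {θ : S →* Ω'}
    (hker : ∀ s : S, θ s = 1 ↔ (s : Ω) ∈ S₀) (P' : Subgroup Ω') : S₀ ≤ preimageAlong θ P' := by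
  intro x hx
  refine mem_preimageAlong.mpr ⟨h₀ hx, ?_⟩
  rw [(hker ⟨x, h₀ hx⟩).mpr hx]
  exact P'.one_mem

/-- The factor system of `F` modulo a strongly closed subgroup `S₀`, read through `θ`. -/
def factorSys [Finite S] (F : Cfsg.FusionSystem S) {S₀ : Subgroup Ω} (hS₀ : F.StronglyClosed S₀)
    (θ : S →* Ω') (hker : ∀ s : S, θ s = 1 ↔ (s : Ω) ∈ S₀) {S' : Subgroup Ω'}
    (hr : θ.range = S') : Cfsg.FusionSystem S' where
  Hom P' := {φ' | P' ≤ S' ∧ ∃ φ ∈ F.Hom (preimageAlong θ P'), InducedAlong θ φ φ'}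
  le_of_mem := by
    rintro P' φ' ⟨hP', φ, hφ, hP, hv, hi, he⟩
    refine ⟨hP', fun y => ?_⟩
    obtain ⟨y, hy⟩ := y
    obtain ⟨x, hx⟩ := (hr ▸ hP' : P' ≤ θ.range) hy
    subst hx
    have hmem : (x : Ω) ∈ preimageAlong θ P' := mem_preimageAlong.mpr ⟨x.2, hy⟩
    have h1 := he ⟨x, hmem⟩
    rw [show φ' ⟨θ x, hy⟩ = θ ⟨φ ⟨x, hmem⟩, hv _⟩ from h1]
    exact hr ▸ ⟨_, rfl⟩
  injective_of_mem := by
    rintro P' φ' ⟨hP', φ, hφ, hP, hv, hi, he⟩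
    refine (injective_iff_map_eq_one φ').mpr ?_
    rintro ⟨y, hy⟩ hone
    obtain ⟨x, hx⟩ := (hr ▸ hP' : P' ≤ θ.range) hy
    subst hx
    have hmem : (x : Ω) ∈ preimageAlong θ P' := mem_preimageAlong.mpr ⟨x.2, hy⟩
    have h1 : φ ⟨x, hmem⟩ ∈ S₀ := (hker ⟨_, hv _⟩).mp ((he ⟨x, hmem⟩).symm.trans hone)
    have hle := le_preimage_of_kernel hS₀.1 hker P'
    have hmap := map_eq_of_maps_to F hle hφ (fun z hz => strongClosed_map_mem hS₀ hφ hz)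
    rw [← hmap] at h1
    obtain ⟨z, hz, hz'⟩ := h1
    obtain rfl := F.injective_of_mem hφ hz'
    exact Subtype.ext ((hker x).mpr hz)
  conj_mem := by
    intro P' g hP' hg
    rw [← hr] at hg
    obtain ⟨s, rfl⟩ := hg
    refine ⟨hP', conjHom _ (s : Ω), F.conj_mem (preimageAlong_le θ P') s.2,
      preimageAlong_le θ P', fun x => val_mem F (F.conj_mem (preimageAlong_le θ P') s.2) x,
      fun x => (mem_preimageAlong.mp x.2).2, fun x => ?_⟩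
    show θ s * θ ⟨x, preimageAlong_le θ P' x.2⟩ * (θ s)⁻¹ = _
    rw [← map_inv, ← map_mul, ← map_mul]
    rfl
  comp_mem := by
    rintro P' Q' φ' ψ' ⟨hP', φ, hφ, hP, hv, hi, he⟩ ⟨hQ', ψ, hψ, hQ, hw, hj, hf⟩ h
    have hin : ∀ x, φ x ∈ preimageAlong θ Q' :=
      fun x => mem_preimageAlong.mpr ⟨hv x, he x ▸ h _⟩
    refine ⟨hP', _, F.comp_mem hφ hψ hin, hP, fun x => hw _, hi, fun x => ?_⟩
    show ψ' ⟨φ' ⟨θ ⟨x, hP x.2⟩, hi x⟩, h _⟩ = θ ⟨ψ ⟨φ x, hin x⟩, _⟩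
    rw [← hf ⟨φ x, hin x⟩]
    exact congrArg ψ' (Subtype.ext (he x))
  inv_mem := by
    rintro P' φ' ⟨hP', φ, hφ, hP, hv, hi, he⟩
    obtain ⟨ψ, hψ, hψi⟩ := F.inv_mem hφ
    have hle := le_preimage_of_kernel hS₀.1 hker P'
    have hmap := map_eq_of_maps_to F hle hφ (fun z hz => strongClosed_map_mem hS₀ hφ hz)
    have hrange : φ.range = preimageAlong θ φ'.range := by
      ext y
      constructor
      · rintro ⟨x, rfl⟩
        exact mem_preimageAlong.mpr ⟨hv x, _, he x⟩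
      · intro hy
        obtain ⟨hyS, ⟨z, hz⟩, hzy⟩ := mem_preimageAlong.mp hy
        obtain ⟨x, hx⟩ := (hr ▸ hP' : P' ≤ θ.range) hz
        subst hx
        have hmem : (x : Ω) ∈ preimageAlong θ P' := mem_preimageAlong.mpr ⟨x.2, hz⟩
        have hq : (φ ⟨x, hmem⟩)⁻¹ * y ∈ S₀ := by
          refine (hker ((⟨φ ⟨x, hmem⟩, hv _⟩ : S)⁻¹ * ⟨y, hyS⟩)).mp ?_
          rw [map_mul, map_inv, ← he ⟨x, hmem⟩, ← hzy, inv_mul_eq_one]
        rw [← hmap] at hq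
        obtain ⟨k, -, hk⟩ := hq
        exact ⟨⟨x, hmem⟩ * k, by rw [map_mul, hk, mul_inv_cancel_left]⟩
    obtain ⟨ψ₀, hψ₀, hψ₀i⟩ : ∃ ψ₀ ∈ F.Hom (preimageAlong θ φ'.range),
        ∀ (x : preimageAlong θ P') (h : φ x ∈ preimageAlong θ φ'.range), ψ₀ ⟨φ x, h⟩ = x := by
      refine ⟨ψ.comp (Subgroup.inclusion hrange.ge), restrict_mem F hψ hrange.ge, ?_⟩
      exact fun x _ => hψi x
    -- the inverse of `φ'`
    have hinj : Function.Injective φ' := by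
      refine (injective_iff_map_eq_one φ').mpr ?_
      rintro ⟨y, hy⟩ hone
      obtain ⟨x, hx⟩ := (hr ▸ hP' : P' ≤ θ.range) hy
      subst hx
      have hmem : (x : Ω) ∈ preimageAlong θ P' := mem_preimageAlong.mpr ⟨x.2, hy⟩
      have h1 : φ ⟨x, hmem⟩ ∈ S₀ := (hker ⟨_, hv _⟩).mp ((he ⟨x, hmem⟩).symm.trans hone)
      rw [← hmap] at h1
      obtain ⟨z, hz, hz'⟩ := h1
      obtain rfl := F.injective_of_mem hφ hz'
      exact Subtype.ext ((hker x).mpr hz)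
    let e := MonoidHom.ofInjective hinj
    refine ⟨P'.subtype.comp e.symm.toMonoidHom, ⟨?_, ψ₀, hψ₀, preimageAlong_le _ _,
      fun x => val_mem F hψ₀ x, fun x => (mem_preimageAlong.mp x.2).2, ?_⟩, ?_⟩
    · rintro _ ⟨⟨z, hz⟩, rfl⟩
      obtain ⟨x, hx⟩ := (hr ▸ hP' : P' ≤ θ.range) hz
      subst hx
      rw [← hr]
      exact ⟨⟨_, hv ⟨x, mem_preimageAlong.mpr ⟨x.2, hz⟩⟩⟩, (he ⟨x, mem_preimageAlong.mpr ⟨x.2, hz⟩⟩).symm⟩
    · rintro ⟨y, hy⟩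
      have hy' := hy
      rw [← hrange] at hy'
      obtain ⟨x, rfl⟩ := hy'
      show ((e.symm ⟨θ ⟨φ x, _⟩, _⟩ : P') : Ω') = θ ⟨ψ₀ ⟨φ x, hy⟩, _⟩
      have : (⟨θ ⟨φ x, preimageAlong_le _ _ hy⟩, (mem_preimageAlong.mp hy).2⟩ : φ'.range) =
          e ⟨θ ⟨x, hP x.2⟩, hi x⟩ := Subtype.ext (he x).symm
      simp only [this, MulEquiv.symm_apply_apply]
      exact congrArg θ (Subtype.ext (hψ₀i x hy).symm)
    · intro x
      show ((e.symm _ : P') : Ω') = x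
      exact congrArg Subtype.val (e.symm_apply_apply x)

theorem factorSys_isFactor [Finite S] (F : Cfsg.FusionSystem S) {S₀ : Subgroup Ω}
    (hS₀ : F.StronglyClosed S₀) (θ : S →* Ω') (hker : ∀ s : S, θ s = 1 ↔ (s : Ω) ∈ S₀)
    {S' : Subgroup Ω'} (hr : θ.range = S') :
    F.IsFactorSystem S₀ θ (factorSys F hS₀ θ hker hr) :=
  ⟨hS₀.1, hker, hr, fun _ _ => Iff.rfl⟩

theorem exists_factor_mk' [Finite S] (F : Cfsg.FusionSystem S) {S₀ : Subgroup Ω}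
    (hS₀ : F.StronglyClosed S₀) [(S₀.subgroupOf S).Normal] :
    ∃ E : Cfsg.FusionSystem (⊤ : Subgroup (S ⧸ S₀.subgroupOf S)),
      F.IsFactorSystem S₀ (QuotientGroup.mk' (S₀.subgroupOf S)) E := by
  refine ⟨_, factorSys_isFactor F hS₀ _ (fun s => ?_) (QuotientGroup.range_mk' _)⟩
  rw [QuotientGroup.mk'_apply, QuotientGroup.eq_one_iff, Subgroup.mem_subgroupOf]

end Cfsg.Agent.Fusion91
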