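import Cfsg.Prelude.Def_FusionComponents

set_option autoImplicit false

/-! Small helpers on fusion systems used by the statements S5130-S5194. -/

namespace Cfsg.Agent.Fusion91

open Cfsg Cfsg.FusionSystem

variable {Ω : Type*} [Group Ω] {S : Subgroup Ω} {Ω' : Type*} [Group Ω'] {S' : Subgroup Ω'}

theorem dom_le (F : Cfsg.FusionSystem S) {P : Subgroup Ω} {φ : P →* Ω} (h : φ ∈ F.Hom P) : P ≤ S :=
  (F.le_of_mem h).1

theorem val_mem (F : Cfsg.FusionSystem S) {P : Subgroup Ω} {φ : P →* Ω} (h : φ ∈ F.Hom P) (x : P) :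
    φ x ∈ S :=
  (F.le_of_mem h).2 x

theorem range_le_S (F : Cfsg.FusionSystem S) {P : Subgroup Ω} {φ : P →* Ω} (h : φ ∈ F.Hom P) :
    φ.range ≤ S := by
  rintro _ ⟨x, rfl⟩
  exact val_mem F h x

theorem subtype_mem (F : Cfsg.FusionSystem S) {P : Subgroup Ω} (h : P ≤ S) : P.subtype ∈ F.Hom P := by
  have h1 : conjHom P 1 = P.subtype := by ext x; simp [conjHom]
  exact h1 ▸ F.conj_mem h S.one_mem

/-- Restriction of a map to a smaller source. -/
theorem restrict_mem (F : Cfsg.FusionSystem S) {P R : Subgroup Ω} {φ : P →* Ω} (h : φ ∈ F.Hom P)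
    (hR : R ≤ P) : φ.comp (Subgroup.inclusion hR) ∈ F.Hom R := by
  have := F.comp_mem (subtype_mem F (hR.trans (dom_le F h))) h (fun x => hR x.2)
  exact this

/-- Composite of two maps. -/
theorem exists_comp (F : Cfsg.FusionSystem S) {P Q : Subgroup Ω} {φ : P →* Ω} {ψ : Q →* Ω}
    (hφ : φ ∈ F.Hom P) (hψ : ψ ∈ F.Hom Q) (h : ∀ x : P, φ x ∈ Q) :
    ∃ χ ∈ F.Hom P, ∀ x : P, χ x = ψ ⟨φ x, h x⟩ :=
  ⟨_, F.comp_mem hφ hψ h, fun _ => rfl⟩

/-- Transport of a map along an equality of sources. -/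
theorem mem_congr (F : Cfsg.FusionSystem S) {P Q : Subgroup Ω} (e : P = Q) {φ : P →* Ω}
    (h : φ ∈ F.Hom P) {ψ : Q →* Ω} (hv : ∀ (x : Ω) (hP : x ∈ P) (hQ : x ∈ Q), ψ ⟨x, hQ⟩ = φ ⟨x, hP⟩) :
    ψ ∈ F.Hom Q := by
  subst e
  have : ψ = φ := MonoidHom.ext fun x => hv x x.2 x.2
  exact this ▸ h

theorem exists_extend_eq {P : Subgroup Ω} {φ ψ : P →* Ω} (h : ∀ x : P, φ x = ψ x) : φ = ψ :=
  MonoidHom.ext h

theorem mem_imageAlong {α : S →* Ω'} {P : Subgroup Ω} {y : Ω'} :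
    y ∈ imageAlong α P ↔ ∃ x : S, (x : Ω) ∈ P ∧ α x = y := by
  simp [imageAlong, Subgroup.mem_subgroupOf]

theorem mem_preimageAlong {α : S →* Ω'} {P' : Subgroup Ω'} {x : Ω} :
    x ∈ preimageAlong α P' ↔ ∃ h : x ∈ S, α ⟨x, h⟩ ∈ P' := by
  simp [preimageAlong]

theorem preimageAlong_le (α : S →* Ω') (P' : Subgroup Ω') : preimageAlong α P' ≤ S :=
  fun _ hx => (mem_preimageAlong.mp hx).1

theorem imageAlong_preimageAlong (α : S →* Ω') {P' : Subgroup Ω'} (h : P' ≤ α.range) :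
    imageAlong α (preimageAlong α P') = P' := by
  ext y
  rw [mem_imageAlong]
  constructor
  · rintro ⟨x, hx, rfl⟩
    obtain ⟨h1, h2⟩ := mem_preimageAlong.mp hx
    exact h2
  · intro hy
    obtain ⟨x, rfl⟩ := h hy
    exact ⟨x, mem_preimageAlong.mpr ⟨x.2, hy⟩, rfl⟩

theorem le_preimageAlong_imageAlong (α : S →* Ω') {P : Subgroup Ω} (h : P ≤ S) :
    P ≤ preimageAlong α (imageAlong α P) :=
  fun x hx => mem_preimageAlong.mpr ⟨h hx, mem_imageAlong.mpr ⟨⟨x, h hx⟩, hx, rfl⟩⟩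

theorem finite_of_le [Finite S] {P : Subgroup Ω} (h : P ≤ S) : Finite P :=
  Finite.of_injective (Subgroup.inclusion h) (Subgroup.inclusion_injective h)

theorem finite_subgroups_le [Finite S] : {Q : Subgroup Ω | Q ≤ S}.Finite := by
  apply Set.Finite.ofFinset (s := (Set.finite_range (fun H : Subgroup S => H.map S.subtype)).toFinset)
  intro Q
  simp only [Set.Finite.mem_toFinset, Set.mem_range, Set.mem_setOf_eq]
  constructor
  · rintro ⟨H, rfl⟩; exact Subgroup.map_subtype_le H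
  · intro h; exact ⟨Q.subgroupOf S, Subgroup.map_subgroupOf_eq_of_le h⟩

/-- An injective map of a finite subgroup `P` with values in a subgroup `Q` of the same order has image `Q`. -/
theorem range_eq_of_card {P Q : Subgroup Ω} [Finite Q] {φ : P →* Ω} (hinj : Function.Injective φ)
    (h : ∀ x : P, φ x ∈ Q) (hc : Nat.card Q ≤ Nat.card P) : φ.range = Q := by
  apply Subgroup.eq_of_le_of_card_ge
  · rintro _ ⟨x, rfl⟩; exact h x
  · rw [← Nat.card_congr (MonoidHom.ofInjective hinj).toEquiv]; exact hc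

theorem card_range_eq {P : Subgroup Ω} {φ : P →* Ω} (hinj : Function.Injective φ) :
    Nat.card φ.range = Nat.card P :=
  (Nat.card_congr (MonoidHom.ofInjective hinj).toEquiv).symm

/-- A map carrying a finite subgroup of its source into itself carries it onto itself. -/
theorem map_eq_of_maps_to (F : Cfsg.FusionSystem S) [Finite S] {P Q : Subgroup Ω} (hQP : Q ≤ P)
    {φ : P →* Ω} (h : φ ∈ F.Hom P) (hQ : ∀ (x : P), (x : Ω) ∈ Q → φ x ∈ Q) :
    (Q.subgroupOf P).map φ = Q := by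
  have : Finite Q := finite_of_le (hQP.trans (dom_le F h))
  have e := range_eq_of_card (φ := φ.comp (Subgroup.inclusion hQP))
    ((F.injective_of_mem h).comp (Subgroup.inclusion_injective hQP)) (fun x => hQ _ x.2) le_rfl
  rw [MonoidHom.range_comp, Subgroup.inclusion_range] at e
  exact e

theorem strongClosed_map_mem {F : Cfsg.FusionSystem S} {T : Subgroup Ω} (hT : F.StronglyClosed T)
    {P : Subgroup Ω} {φ : P →* Ω} (h : φ ∈ F.Hom P) {x : P} (hx : (x : Ω) ∈ T) : φ x ∈ T :=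
  hT.2 (P ⊓ T) inf_le_right _ (restrict_mem F h inf_le_left) ⟨x, x.2, hx⟩

end Cfsg.Agent.Fusion91
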