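import Cfsg.Agent.Fusion91.Image
import Cfsg.Agent.Fusion91.Factor
import Cfsg.Agent.Fusion91.Core
import Cfsg.Agent.Lib.Fusion.Normal
import Cfsg.Agent.S5134
import Cfsg.Agent.Fusion92.InducedAut
import Cfsg.Agent.Lib.Fusion.Constrained

set_option autoImplicit false
set_option linter.style.haveILetI false

/-! Solvable fusion systems. -/

namespace Cfsg.Agent.Fusion91

open Cfsg Cfsg.FusionSystem
open Cfsg.Agent.Fusion (IsMap IsIso)
open scoped commutatorElement

variable {Ω : Type*} [Group Ω] {S : Subgroup Ω} {F : Cfsg.FusionSystem S}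
  {Ω' : Type*} [Group Ω'] {S' : Subgroup Ω'} {α : S →* Ω'}

theorem stronglyClosed_bot (F : Cfsg.FusionSystem S) : F.StronglyClosed ⊥ :=
  Fusion.stronglyClosed_iff.mpr ⟨bot_le, fun R f hf x _ hx => by
    rw [Subgroup.mem_bot] at hx ⊢
    rw [hx, hf.map_one]⟩

theorem subgroupOf_normal_of_closed [Finite S] {T : Subgroup Ω} (hT : F.StronglyClosed T) :
    (T.subgroupOf S).Normal :=
  (Subgroup.normal_subgroupOf_iff_le_normalizer hT.1).mpr (Fusion.stronglyClosed_le_normalizer hT)

theorem stronglyClosed_preimage {F' : Cfsg.FusionSystem S'} (hα : F.IsSurjectiveMorphism F' α)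
    {T' : Subgroup Ω'} (hT' : F'.StronglyClosed T') : F.StronglyClosed (preimageAlong α T') := by
  refine Fusion.stronglyClosed_iff.mpr ⟨preimageAlong_le α T', fun R f hf x hx hxT => ?_⟩
  obtain ⟨g, hg, hgp⟩ := exists_push_map hα hf
  refine mem_preimage_push.mpr ⟨hf.apply_mem hx, ?_⟩
  rw [← hgp x hx]
  exact (Fusion.stronglyClosed_iff.mp hT').2 _ g hg _ ((mem_imageAlong_push hf.dom_le).mpr ⟨x, hx, rfl⟩)
    (mem_preimage_push.mp hxT).2

theorem stronglyClosed_image {F' : Cfsg.FusionSystem S'} (hα : F.IsSurjectiveMorphism F' α)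
    {T : Subgroup Ω} (hT : F.StronglyClosed T) : F'.StronglyClosed (imageAlong α T) := by
  refine Fusion.stronglyClosed_iff.mpr ⟨fun y hy => ?_, fun R g hg y hy hyT => ?_⟩
  · obtain ⟨x, hx, rfl⟩ := (mem_imageAlong_push hT.1).mp hy
    exact push_mem hα.2.1 (hT.1 hx)
  obtain ⟨x, hx, rfl⟩ := (mem_imageAlong_push hT.1).mp hyT
  obtain ⟨f, hf, hfe⟩ := exists_lift_map hα hg
  have hxR : x ∈ preimageAlong α R := mem_preimage_push.mpr ⟨hT.1 hx, hy⟩
  exact (mem_imageAlong_push hT.1).mpr
    ⟨f x, (Fusion.stronglyClosed_iff.mp hT).2 _ f hf x hxR hx, hfe x hxR⟩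

theorem isNormal_of_central {Q : Subgroup Ω} (h : F.IsCentral Q) : F.IsNormal Q := by
  obtain ⟨hQ, hext⟩ := Fusion.isCentral_iff.mp h
  refine Fusion.isNormal_iff.mpr ⟨hQ, fun P f hf => ?_⟩
  obtain ⟨f', hf', he, hfix⟩ := hext P f hf
  refine ⟨f', hf', he, Set.ext fun y => ⟨?_, fun hy => ⟨y, hy, hfix y hy⟩⟩⟩
  rintro ⟨x, hx, rfl⟩
  exact (hfix x hx).symm ▸ hx

theorem stronglyClosed_center [Finite S] (F : Cfsg.FusionSystem S) : F.StronglyClosed F.center :=
  Fusion.stronglyClosed_of_normal (isNormal_of_central (isCentral_center F))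

/-- A chain of strongly closed subgroups with abelian factors ending at `R`. -/
def HasAbelianChain (F : Cfsg.FusionSystem S) (R : Subgroup Ω) : Prop :=
  ∃ (n : ℕ) (T : Fin (n + 1) → Subgroup Ω), T 0 = ⊥ ∧ T (Fin.last n) = R ∧ Monotone T ∧
    (∀ i, F.StronglyClosed (T i)) ∧ ∀ i : Fin n, ⁅T i.succ, T i.succ⁆ ≤ T (Fin.castSucc i)

theorem HasAbelianChain.bot (F : Cfsg.FusionSystem S) : HasAbelianChain F ⊥ :=
  ⟨0, fun _ => ⊥, rfl, rfl, monotone_const, fun _ => stronglyClosed_bot F, fun i => i.elim0⟩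

theorem HasAbelianChain.snoc {R R' : Subgroup Ω} (h : HasAbelianChain F R) (hle : R ≤ R')
    (hR' : F.StronglyClosed R') (hc : ⁅R', R'⁆ ≤ R) : HasAbelianChain F R' := by
  obtain ⟨n, T, h0, hl, hm, hcl, hab⟩ := h
  refine ⟨n + 1, Fin.snoc T R', ?_, Fin.snoc_last _ _, ?_, fun i => ?_, fun i => ?_⟩
  · rw [← Fin.castSucc_zero, Fin.snoc_castSucc, h0]
  · refine Fin.monotone_iff_le_succ.mpr fun i => ?_
    rw [Fin.snoc_castSucc]
    refine Fin.lastCases ?_ (fun j => ?_) i
    · rw [Fin.succ_last, Fin.snoc_last, hl]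
      exact hle
    · rw [← Fin.castSucc_succ, Fin.snoc_castSucc]
      exact hm (Fin.castSucc_le_succ j)
  · refine Fin.lastCases ?_ (fun j => ?_) i
    · rw [Fin.snoc_last]; exact hR'
    · rw [Fin.snoc_castSucc]; exact hcl j
  · refine Fin.lastCases ?_ (fun j => ?_) i
    · rw [Fin.succ_last, Fin.snoc_last, Fin.snoc_castSucc, hl]; exact hc
    · rw [← Fin.castSucc_succ, Fin.snoc_castSucc, Fin.snoc_castSucc]
      exact hab j

/-- The least member of a chain not inside a given subgroup. -/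
theorem exists_first_not_le {n : ℕ} {T : Fin (n + 1) → Subgroup Ω} {R : Subgroup Ω} (h0 : T 0 = ⊥)
    (hl : ¬ T (Fin.last n) ≤ R) :
    ∃ i : Fin n, T (Fin.castSucc i) ≤ R ∧ ¬ T i.succ ≤ R := by
  by_contra h
  push Not at h
  refine hl (Fin.induction (motive := fun i => T i ≤ R) (h0 ▸ bot_le) (fun i hi => h i hi) (Fin.last n))

theorem exists_closed_step {p : ℕ} [Fact p.Prime] [Finite S] (hS : IsPGroup p S) (hF : F.IsSaturated p)
    (hsol : F.IsSolvableSystem) {R : Subgroup Ω} (hR : F.StronglyClosed R) (hne : R ≠ S) :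
    ∃ R', R < R' ∧ F.StronglyClosed R' ∧ ⁅R', R'⁆ ≤ R := by
  have hn := subgroupOf_normal_of_closed hR
  obtain ⟨E, hE⟩ := exists_factor_mk' F hR
  have hα := S5134.result p hS F hF R hR _ E hE
  have hcore := hsol R hR hne E hE
  haveI : Finite (S ⧸ R.subgroupOf S) := Quotient.finite _
  have hp : IsPGroup p (⊤ : Subgroup (S ⧸ R.subgroupOf S)) := (hS.to_quotient _).to_subgroup _
  have hEsat := isSaturated_image hS hF hα
  let Q := E.core
  let W : Subgroup (S ⧸ R.subgroupOf S) := (Subgroup.center Q).map Q.subtype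
  have hW : E.IsNormal W := by
    refine Fusion.isNormal_char (isNormal_core E) (Subgroup.map_subtype_le _) ?_
    show (((Subgroup.center Q).map Q.subtype).comap Q.subtype).Characteristic
    rw [Subgroup.comap_map_eq_self_of_injective Q.subtype_injective]
    infer_instance
  have hWne : W ≠ ⊥ := by
    haveI : Nontrivial Q := (Subgroup.nontrivial_iff_ne_bot Q).mpr hcore
    haveI := ((hS.to_quotient (R.subgroupOf S)).to_subgroup Q).center_nontrivial
    intro h
    exact (Subgroup.nontrivial_iff_ne_bot (Subgroup.center Q)).mp inferInstance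
      ((Subgroup.map_eq_bot_iff_of_injective _ Q.subtype_injective).mp h)
  refine ⟨preimageAlong _ W, ?_, stronglyClosed_preimage hα (Fusion.stronglyClosed_of_normal hW), ?_⟩
  · refine lt_of_le_of_ne (fun x hx => ?_) fun he => hWne ?_
    · refine mem_preimageAlong.mpr ⟨hR.1 hx, ?_⟩
      rw [(hE.2.1 _).mpr hx]
      exact W.one_mem
    · refine (Subgroup.eq_bot_iff_forall _).mpr fun w hw => ?_
      obtain ⟨s, rfl⟩ := QuotientGroup.mk'_surjective (R.subgroupOf S) w
      refine (hE.2.1 s).mpr ?_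
      rw [he]
      exact mem_preimageAlong.mpr ⟨s.2, hw⟩
  · refine Subgroup.commutator_le.mpr fun x hx y hy => ?_
    obtain ⟨hxS, hxW⟩ := mem_preimageAlong.mp hx
    obtain ⟨hyS, hyW⟩ := mem_preimageAlong.mp hy
    obtain ⟨a, ha, hax⟩ := hxW
    obtain ⟨b, hb, hby⟩ := hyW
    have : ((⁅(⟨x, hxS⟩ : S), ⟨y, hyS⟩⁆ : S) : Ω) ∈ R := by
      refine (hE.2.1 _).mp ?_
      rw [map_commutatorElement, ← hax, ← hby, ← map_commutatorElement]
      have : ⁅a, b⁆ = 1 := commutatorElement_eq_one_iff_mul_comm.mpr (Subgroup.mem_center_iff.mp hb a)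
      rw [this, map_one]
    simpa [commutatorElement_def] using this

theorem hasAbelianChain_of_solvable {p : ℕ} [Fact p.Prime] [Finite S] (hS : IsPGroup p S)
    (hF : F.IsSaturated p) (hsol : F.IsSolvableSystem) : HasAbelianChain F S := by
  suffices ∀ k, ∀ R : Subgroup Ω, F.StronglyClosed R → Nat.card S - Nat.card R = k →
      HasAbelianChain F R → HasAbelianChain F S from
    this _ ⊥ (stronglyClosed_bot F) rfl (HasAbelianChain.bot F)
  intro k
  induction k using Nat.strong_induction_on with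
  | _ k ih =>
    intro R hR hk hch
    by_cases hne : R = S
    · exact hne ▸ hch
    obtain ⟨R', hlt, hR', hc⟩ := exists_closed_step hS hF hsol hR hne
    have := finite_of_le hR'.1
    have h1 : Nat.card R < Nat.card R' := by
      refine lt_of_le_of_ne (Subgroup.card_le_of_le hlt.le) fun he => hlt.ne ?_
      exact Subgroup.eq_of_le_of_card_ge hlt.le he.ge
    have h2 : Nat.card R' ≤ Nat.card S := Subgroup.card_le_of_le hR'.1
    exact ih _ (by omega) R' hR' rfl (hch.snoc hlt.le hR' hc)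

theorem solvable_of_hasAbelianChain {p : ℕ} [Fact p.Prime] [Finite S] (hS : IsPGroup p S)
    (hF : F.IsSaturated p) (h : HasAbelianChain F S) : F.IsSolvableSystem := by
  intro R hR hne hn E hE
  obtain ⟨n, T, h0, hl, -, hcl, hab⟩ := h
  obtain ⟨i, hi, hi'⟩ := exists_first_not_le (R := R) h0 (fun hle => hne (le_antisymm hR.1 (hl ▸ hle)))
  have hα := S5134.result p hS F hF R hR _ E hE
  haveI : Finite (S ⧸ R.subgroupOf S) := Quotient.finite _
  have hp : IsPGroup p (⊤ : Subgroup (S ⧸ R.subgroupOf S)) := (hS.to_quotient _).to_subgroup _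
  have hN := Fusion.isNormal_of_abelian hp (isSaturated_image hS hF hα)
    (stronglyClosed_image hα (hcl i.succ)) (fun a ha b hb => by
      obtain ⟨x, hx, rfl⟩ := mem_imageAlong.mp ha
      obtain ⟨y, hy, rfl⟩ := mem_imageAlong.mp hb
      have h1 : ((⁅x, y⁆ : S) : Ω) ∈ R := by
        have := hi (hab i (Subgroup.commutator_mem_commutator hx hy))
        simpa [commutatorElement_def] using this
      have h2 := (hE.2.1 _).mpr h1
      rw [map_commutatorElement] at h2
      exact commutatorElement_eq_one_iff_mul_comm.mp h2)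
  intro hbot
  refine hi' fun x hx => ?_
  have h1 : QuotientGroup.mk' (R.subgroupOf S) ⟨x, (hcl i.succ).1 hx⟩ ∈ E.core :=
    le_core hN (mem_imageAlong.mpr ⟨_, hx, rfl⟩)
  rw [hbot, Subgroup.mem_bot] at h1
  exact (hE.2.1 _).mp h1

theorem isConstrained_of_chain {p : ℕ} [Fact p.Prime] [Finite S] (hS : IsPGroup p S)
    (hF : F.IsSaturated p) (h : HasAbelianChain F S) : F.IsConstrained p := by
  have hQ : F.IsNormal F.core := isNormal_core F
  have hQc := Fusion.stronglyClosed_of_normal hQ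
  refine ⟨hF, F.core, hQ, hQ.1, fun Q' hQ' => ?_⟩
  obtain ⟨f, hf⟩ := Fusion.isConj_iff.mp hQ'
  obtain rfl : F.core = Q' := by
    apply SetLike.coe_injective
    rw [← hf.2]
    refine (Set.Subset.antisymm ?_ fun y hy => ?_).symm
    · rintro _ ⟨x, hx, rfl⟩
      exact (Fusion.stronglyClosed_iff.mp hQc).2 _ f hf.1 x hx hx
    · exact Fusion.surjOn_of_card_le hQ.1 hf.1.injOn
        (fun x hx => (Fusion.stronglyClosed_iff.mp hQc).2 _ f hf.1 x hx hx) le_rfl y hy
  by_contra hC
  -- the centralizer of the core is strongly closed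
  have hCcl : F.StronglyClosed (centralizerIn S F.core) := by
    refine Fusion.stronglyClosed_iff.mpr ⟨inf_le_left, fun P g hg x hx hxC => ⟨hg.apply_mem hx, ?_⟩⟩
    obtain ⟨g', hg', he, him⟩ := Fusion.normal_extendsStab hQ hg
    rw [← he hx]
    refine Subgroup.mem_centralizer_iff.mpr fun y hy => ?_
    obtain ⟨z, hz, rfl⟩ : y ∈ g' '' (F.core : Set Ω) := him.symm ▸ hy
    rw [← hg'.map_mul (le_sup_right (a := P) hz) (le_sup_left (b := F.core) hx),
      ← hg'.map_mul (le_sup_left (b := F.core) hx) (le_sup_right (a := P) hz),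
      Subgroup.mem_centralizer_iff.mp hxC.2 z hz]
  obtain ⟨n, T, h0, hl, -, hcl, hab⟩ := h
  obtain ⟨i, hi, hi'⟩ := exists_first_not_le (R := F.core)
    (T := fun j => centralizerIn S F.core ⊓ T j) (by simp [h0])
    (fun hle => hC fun x hx => hle ⟨hx, hl.symm ▸ hx.1⟩)
  have hU : ∀ j, F.StronglyClosed (centralizerIn S F.core ⊓ T j) := fun j =>
    Fusion.stronglyClosed_iff.mpr ⟨inf_le_left.trans inf_le_left, fun P g hg x hx hxU =>
      ⟨(Fusion.stronglyClosed_iff.mp hCcl).2 P g hg x hx hxU.1,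
        (Fusion.stronglyClosed_iff.mp (hcl j)).2 P g hg x hx hxU.2⟩⟩
  let U := centralizerIn S F.core ⊓ T i.succ
  refine hi' (le_core (Fusion.isNormal_of_series hS hF (Q := U)
    (fun k => if k = 0 then ⊥ else if k = 1 then U ⊓ F.core else U) 2 rfl rfl (fun k _ => ?_) ?_))
  · by_cases hk0 : k = 0
    · rw [if_pos hk0]; exact stronglyClosed_bot F
    by_cases hk1 : k = 1
    · rw [if_neg hk0, if_pos hk1]
      exact Fusion.stronglyClosed_iff.mpr ⟨inf_le_right.trans hQ.1, fun P g hg x hx hxU =>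
        ⟨(Fusion.stronglyClosed_iff.mp (hU i.succ)).2 P g hg x hx hxU.1,
          (Fusion.stronglyClosed_iff.mp hQc).2 P g hg x hx hxU.2⟩⟩
    · rw [if_neg hk0, if_neg hk1]; exact hU i.succ
  · intro k hk
    obtain rfl | rfl : k = 0 ∨ k = 1 := by omega
    · refine Subgroup.commutator_le.mpr fun a ha b hb => ?_
      simp only [Nat.zero_add, one_ne_zero, if_false, if_true] at hb
      simp only [if_true, Subgroup.mem_bot]
      exact commutatorElement_eq_one_iff_mul_comm.mpr
        (Subgroup.mem_centralizer_iff.mp ha.1.2 b hb.2).symm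
    · refine Subgroup.commutator_le.mpr fun a ha b hb => ?_
      simp only [if_false, OfNat.ofNat_ne_zero, Nat.reduceAdd,
        OfNat.ofNat_ne_one] at hb
      simp only [one_ne_zero, if_false, if_true]
      have h1 : ⁅a, b⁆ ∈ U := by
        rw [commutatorElement_def]
        exact U.mul_mem (U.mul_mem (U.mul_mem ha hb) (U.inv_mem ha)) (U.inv_mem hb)
      exact ⟨h1, hi ⟨h1.1, hab i (Subgroup.commutator_mem_commutator ha.2 hb.2)⟩⟩

/-- A system over an abelian group whose factor system modulo the centre is simple has trivial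
hyperfocal subgroup. -/
theorem hyperfocal_eq_bot_of_factor_trivial {p : ℕ} [Fact p.Prime] [Finite S] (hS : IsPGroup p S)
    (hfix : ∀ (P : Subgroup Ω) (f : Ω → Ω), IsMap F P f → ∀ x ∈ P, x⁻¹ * f x ∈ F.center) :
    F.hyperfocalSubgroup p = ⊥ := by
  refine eq_bot_iff.mpr ((Subgroup.closure_le _).mpr ?_)
  rintro _ ⟨P, α, x, hP, hα, rfl⟩
  haveI : Finite P := finite_of_le hP
  haveI : Finite (MulAut P) := Fusion.finite_mulAut P
  have key : α = 1 := by
    refine Fusion92.pResidual_induction (fun a : F.autGroup P => a = (1 : F.autGroup P)) rfl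
      (fun a ha => ?_) (fun a b ha hb => ?_) hα
    swap
    · subst ha hb
      exact one_mul _
    apply Subtype.ext
    refine MulEquiv.ext fun x => Subtype.ext ?_
    obtain ⟨w, hw⟩ : ∃ w : P, w = x⁻¹ * (a : MulAut P) x := ⟨_, rfl⟩
    have hm := ((Fusion.mem_autGroup hP).mp a.2).1
    have hwZ : (w : Ω) ∈ F.center := by
      have := hfix P _ hm x x.2
      rw [Fusion.autFun_coe] at this
      rw [hw]
      exact this
    have haw : (a : MulAut P) w = w := by
      apply Subtype.ext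
      obtain ⟨g', hg', he, hfx⟩ := (Fusion.isCentral_iff.mp (isCentral_center F)).2 P _ hm
      rw [← Fusion.autFun_coe, ← he w.2, hfx _ hwZ]
    have hax : (a : MulAut P) x = x * w := by rw [hw, mul_inv_cancel_left]
    have hpow : ∀ k : ℕ, ((a : MulAut P) ^ k) x = x * w ^ k := by
      intro k
      induction k with
      | zero => simp
      | succ k ih =>
        rw [pow_succ', MulAut.mul_apply, ih, map_mul, map_pow, haw, hax, mul_assoc, ← pow_succ']
    have h1 := hpow (orderOf a)
    rw [← Subgroup.coe_pow, pow_orderOf_eq_one, Subgroup.coe_one, MulAut.one_apply] at h1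
    obtain ⟨k, hk⟩ := (hS.to_le hP) w
    have hwo : orderOf w = 1 :=
      Nat.eq_one_of_dvd_coprimes (Nat.Coprime.pow_right k ha)
        (orderOf_dvd_of_pow_eq_one (mul_eq_left.mp h1.symm)) (orderOf_dvd_of_pow_eq_one hk)
    rw [orderOf_eq_one_iff] at hwo
    show (((a : MulAut P) x : P) : Ω) = x
    rw [hax, hwo, mul_one]
  simp [key]

end Cfsg.Agent.Fusion91
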