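import Cfsg.Agent.Fusion91.Basic

set_option autoImplicit false

/-! Lifting fusion from a quotient by a normal subgroup. -/

namespace Cfsg.Agent.Fusion91

open Cfsg Cfsg.FusionSystem
open scoped Pointwise

variable {G : Type*} [Group G] [Finite G] {p : ℕ} [Fact p.Prime]

theorem exists_conj_into_sylow_of_le_sup (S : Sylow p G) (H : Subgroup G) [H.Normal] (Q : Subgroup G)
    (hQ : IsPGroup p Q) (hQle : Q ≤ (S : Subgroup G) ⊔ H) :
    ∃ h ∈ H, ∀ x ∈ Q, h * x * h⁻¹ ∈ (S : Subgroup G) := by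
  obtain ⟨R, hR⟩ := (hQ.comap_subtype (K := (S : Subgroup G) ⊔ H)).exists_le_sylow
  obtain ⟨⟨t, ht⟩, hm⟩ := MulAction.exists_smul_eq ↥((S : Subgroup G) ⊔ H) R
    (S.subtype le_sup_left)
  have hconj : ∀ x ∈ Q, t * x * t⁻¹ ∈ (S : Subgroup G) := by
    intro x hx
    have h1 : (⟨x, hQle hx⟩ : ↥((S : Subgroup G) ⊔ H)) ∈ (R : Subgroup ↥((S : Subgroup G) ⊔ H)) :=
      hR (Subgroup.mem_subgroupOf.mpr hx)
    have h2 : MulAut.conj (⟨t, ht⟩ : ↥((S : Subgroup G) ⊔ H)) ⟨x, hQle hx⟩ ∈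
        ((S.subtype le_sup_left : Sylow p ↥((S : Subgroup G) ⊔ H)) : Subgroup _) := by
      rw [← hm, Sylow.coe_subgroup_smul]
      exact Subgroup.smul_mem_pointwise_smul _ _ _ h1
    simpa [Sylow.coe_subtype, Subgroup.mem_subgroupOf] using h2
  obtain ⟨s, hs, h, hh, rfl⟩ := Subgroup.mem_sup_of_normal_right.mp ht
  refine ⟨h, hh, fun x hx => ?_⟩
  have : s⁻¹ * (s * h * x * (s * h)⁻¹) * s ∈ (S : Subgroup G) :=
    mul_mem (mul_mem (inv_mem hs) (hconj x hx)) hs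
  convert this using 1
  group

/-- Conjugation in `G ⧸ H` carrying the image of `P ≤ S` into the image of `S` lifts to `G`. -/
theorem exists_lift_conj (S : Sylow p G) (H : Subgroup G) [H.Normal] (P : Subgroup G)
    (hP : P ≤ (S : Subgroup G)) (γ : G ⧸ H)
    (hγ : ∀ x ∈ P, γ * QuotientGroup.mk x * γ⁻¹ ∈ (S : Subgroup G).map (QuotientGroup.mk' H)) :
    ∃ g : G, ∀ x ∈ P, g * x * g⁻¹ ∈ (S : Subgroup G) ∧
      (QuotientGroup.mk (g * x * g⁻¹) : G ⧸ H) = γ * QuotientGroup.mk x * γ⁻¹ := by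
  obtain ⟨g₀, rfl⟩ := QuotientGroup.mk'_surjective H γ
  let Q := P.map (MulAut.conj g₀).toMonoidHom
  have hQp : IsPGroup p Q := (S.isPGroup'.to_le hP).map _
  have hQle : Q ≤ (S : Subgroup G) ⊔ H := by
    rintro _ ⟨x, hx, rfl⟩
    obtain ⟨s, hs, he⟩ := hγ x hx
    have hmem : s⁻¹ * (g₀ * x * g₀⁻¹) ∈ H := QuotientGroup.eq.mp he
    have : g₀ * x * g₀⁻¹ = s * (s⁻¹ * (g₀ * x * g₀⁻¹)) := by group
    show g₀ * x * g₀⁻¹ ∈ _
    rw [this]
    exact Subgroup.mul_mem_sup hs hmem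
  obtain ⟨h, hh, hconj⟩ := exists_conj_into_sylow_of_le_sup S H Q hQp hQle
  refine ⟨h * g₀, fun x hx => ⟨?_, ?_⟩⟩
  · convert hconj _ ⟨x, hx, rfl⟩ using 1
    show h * g₀ * x * (h * g₀)⁻¹ = h * (g₀ * x * g₀⁻¹) * h⁻¹
    group
  · simp [(QuotientGroup.eq_one_iff h).mpr hh]

theorem groupFusion_isFactor (S : Sylow p G) (H : Subgroup G) [H.Normal] :
    (Cfsg.groupFusionSystem (S : Subgroup G)).IsFactorSystem ((S : Subgroup G) ⊓ H)
      ((QuotientGroup.mk' H).comp (S : Subgroup G).subtype)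
      (Cfsg.groupFusionSystem ((S : Subgroup G).map (QuotientGroup.mk' H))) := by
  refine ⟨inf_le_left, fun s => ?_, ?_, fun P' φ' => ⟨?_, ?_⟩⟩
  · simp [QuotientGroup.eq_one_iff, s.2]
  · rw [MonoidHom.range_comp, Subgroup.range_subtype]
  · rintro ⟨hP', hv, γ, hγ⟩
    set P := preimageAlong ((QuotientGroup.mk' H).comp (S : Subgroup G).subtype) P' with hPdef
    have hPS : P ≤ (S : Subgroup G) := preimageAlong_le _ _
    have hin : ∀ x ∈ P, QuotientGroup.mk x ∈ P' := fun x hx => (mem_preimageAlong.mp hx).2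
    obtain ⟨g, hg⟩ := exists_lift_conj S H P hPS γ (fun x hx => by
      have := hv ⟨_, hin x hx⟩
      rwa [hγ] at this)
    refine ⟨hP', conjHom P g, ⟨hPS, fun x => (hg x x.2).1, g, fun x => rfl⟩, hPS,
      fun x => (hg x x.2).1, fun x => hin x x.2, fun x => ?_⟩
    rw [hγ]
    exact (hg x x.2).2.symm
  · rintro ⟨hP', φ, ⟨hPS, hφS, g, hg⟩, hP, hv, hi, he⟩
    refine ⟨hP', ?_, QuotientGroup.mk' H g, ?_⟩
    · rintro ⟨y, hy⟩
      obtain ⟨x, hx, rfl⟩ := hP' hy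
      have hmem : x ∈ preimageAlong ((QuotientGroup.mk' H).comp (S : Subgroup G).subtype) P' :=
        mem_preimageAlong.mpr ⟨hx, hy⟩
      refine (he ⟨x, hmem⟩).symm ▸ ?_
      exact ⟨_, hv _, rfl⟩
    · rintro ⟨y, hy⟩
      obtain ⟨x, hx, rfl⟩ := hP' hy
      have hmem : x ∈ preimageAlong ((QuotientGroup.mk' H).comp (S : Subgroup G).subtype) P' :=
        mem_preimageAlong.mpr ⟨hx, hy⟩
      refine (he ⟨x, hmem⟩).trans ?_
      show QuotientGroup.mk' H (φ ⟨x, hmem⟩) = _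
      rw [hg, map_mul, map_mul, map_inv]

end Cfsg.Agent.Fusion91
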