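import Cfsg.Agent.Fusion91.TwoLocal
import Cfsg.Agent.Lib.Fusion.Group
import Cfsg.Agent.Lib.Fusion.Saturation

set_option autoImplicit false

/-! The simplicity criteria without saturation hypotheses. -/

namespace Cfsg.Agent.Fusion91

open Cfsg Cfsg.FusionSystem

variable {G : Type*} [Group G] [Finite G] (p : ℕ) [Fact p.Prime] (S : Sylow p G)

theorem groupFusion_simple (hS1 : (S : Subgroup G) ≠ ⊥)
    (ha : ∀ T : Subgroup G, (Cfsg.groupFusionSystem (S : Subgroup G)).StronglyClosed T →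
      T = ⊥ ∨ T = (S : Subgroup G))
    (hb : Cfsg.autInducedBy ⊤ (S : Subgroup G) = ⨆ (R : Subgroup G)
      (_ : (Cfsg.groupFusionSystem (S : Subgroup G)).IsFullyNormalized R ∧
        (Cfsg.groupFusionSystem (S : Subgroup G)).IsRadical p R ∧
        (Cfsg.groupFusionSystem (S : Subgroup G)).IsCentric R),
      Cfsg.autInducedBy (Subgroup.closure {g : G | g ∈ Subgroup.normalizer (R : Set G) ∧
        ∃ k : ℕ, orderOf g = p ^ k}) (S : Subgroup G)) :
    (Cfsg.groupFusionSystem (S : Subgroup G)).IsSimple p :=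
  groupFusion_simple_of p S (Fusion.groupFusionSystem_isSaturated S)
    (fun _ hP => Fusion.fullyAutomized_of_fullyNormalized S.isPGroup'
      (Fusion.groupFusionSystem_isSaturated S) hP)
    (fun _ hE _ hP => Fusion.receptive_of_fullyCentralized S.isPGroup' hE hP) hS1 ha hb

theorem groupFusion_simple_local (hS1 : (S : Subgroup G) ≠ ⊥) (ha : NoClosed (S : Subgroup G))
    (hb : ∀ g ∈ Subgroup.normalizer ((S : Subgroup G) : Set G),
      ∃ s ∈ (S : Subgroup G), ∀ x ∈ (S : Subgroup G), g * x * g⁻¹ = s * x * s⁻¹) :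
    (Cfsg.groupFusionSystem (S : Subgroup G)).IsSimple p :=
  groupFusion_simple_of_local p S (Fusion.groupFusionSystem_isSaturated S)
    (fun _ hP => Fusion.fullyAutomized_of_fullyNormalized S.isPGroup'
      (Fusion.groupFusionSystem_isSaturated S) hP)
    (fun _ hE _ hP => Fusion.receptive_of_fullyCentralized S.isPGroup' hE hP) hS1 ha hb

theorem isCentric_of_centralizer_le {R : Subgroup G} (hR : R ≤ (S : Subgroup G))
    (hn : (S : Subgroup G) ≤ Subgroup.normalizer (R : Set G))
    (hc : centralizerIn (S : Subgroup G) R ≤ R) :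
    (Cfsg.groupFusionSystem (S : Subgroup G)).IsCentric R := by
  have hsat := Fusion.groupFusionSystem_isSaturated S
  have hfn : (Cfsg.groupFusionSystem (S : Subgroup G)).IsFullyNormalized R := by
    refine ⟨hR, fun Q _ => Subgroup.card_le_of_le ?_⟩
    rw [normalizerIn, normalizerIn, inf_eq_left.mpr hn]
    exact inf_le_left
  obtain ⟨-, hmax⟩ := Fusion.fullyCentralized_of_fullyNormalized S.isPGroup' hsat hfn
  refine ⟨hR, fun Q hQ => ?_⟩
  obtain ⟨φ, hφ, rfl⟩ := hQ
  have hinj := (Cfsg.groupFusionSystem (S : Subgroup G)).injective_of_mem hφ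
  have hle : Nat.card (centralizerIn (S : Subgroup G) φ.range) ≤
      Nat.card (centralizerIn (S : Subgroup G) R) := hmax _ ⟨φ, hφ, rfl⟩
  -- the centre of `R` maps into the centralizer of the image
  let f : centralizerIn (S : Subgroup G) R → centralizerIn (S : Subgroup G) φ.range :=
    fun z => ⟨φ ⟨z, hc z.2⟩, val_mem _ hφ _, by
      rintro _ ⟨x, rfl⟩
      have : x * ⟨(z : G), hc z.2⟩ = ⟨(z : G), hc z.2⟩ * x := Subtype.ext (z.2.2 _ x.2)
      show φ x * φ _ = φ _ * φ x
      rw [← map_mul, ← map_mul, this]⟩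
  have hfinj : Function.Injective f := fun a b hab =>
    Subtype.ext (congrArg (fun z : R => (z : G)) (hinj (congrArg Subtype.val hab)))
  have hbij : Function.Bijective f :=
    (Nat.bijective_iff_injective_and_card f).mpr
      ⟨hfinj, le_antisymm (Nat.card_le_card_of_injective f hfinj) hle⟩
  intro y hy
  obtain ⟨z, hz⟩ := hbij.2 ⟨y, hy⟩
  exact ⟨_, congrArg Subtype.val hz⟩

/-- Simplicity from generation of the induced automorphisms of `S`. -/
theorem groupFusion_simple_gen (hS1 : (S : Subgroup G) ≠ ⊥) (ha : NoClosed (S : Subgroup G))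
    (hb : Subgroup.normalizer ((S : Subgroup G) : Set G) ≤ genSub p (S : Subgroup G)) :
    (Cfsg.groupFusionSystem (S : Subgroup G)).IsSimple p := by
  have hsat := Fusion.groupFusionSystem_isSaturated S
  have hFA : ∀ P, (Cfsg.groupFusionSystem (S : Subgroup G)).IsFullyNormalized P →
      (Cfsg.groupFusionSystem (S : Subgroup G)).IsFullyAutomized p P :=
    fun _ hP => Fusion.fullyAutomized_of_fullyNormalized S.isPGroup' hsat hP
  refine ⟨hsat, hS1, fun T E hE => ?_⟩
  have hT := hE.1.2.2.2.1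
  by_cases hbot : T = ⊥
  · exact Or.inl hbot
  have hTS : T = (S : Subgroup G) := ha T hT.1 hbot fun x hx a hax => by
    have hle : Subgroup.zpowers x ≤ T := Subgroup.zpowers_le.mpr hx
    refine hT.2 _ hle (conjHom _ a) ⟨hle.trans hT.1, ?_, a, fun _ => rfl⟩
      ⟨x, Subgroup.mem_zpowers x⟩
    rintro ⟨y, hy⟩
    obtain ⟨i, rfl⟩ := Subgroup.mem_zpowers_iff.mp hy
    show a * x ^ i * a⁻¹ ∈ _
    rw [show a * x ^ i * a⁻¹ = (a * x * a⁻¹) ^ i from conj_zpow.symm]
    exact zpow_mem hax i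
  subst hTS
  refine Or.inr ⟨rfl, eq_of_aut_le _ E hE.1.2.2 ?_⟩
  -- the elements acting through `E`
  let D : Subgroup G :=
    { carrier := {g | ∃ δ ∈ E.autGroup (S : Subgroup G), ∀ x : ↥(S : Subgroup G),
        ((δ x : ↥(S : Subgroup G)) : G) = g * x * g⁻¹}
      one_mem' := ⟨1, one_mem _, fun x => by simp⟩
      mul_mem' := by
        rintro a b ⟨δ, hδ, ha⟩ ⟨ε, hε, hb⟩
        refine ⟨δ * ε, mul_mem hδ hε, fun x => ?_⟩
        rw [MulAut.mul_apply, ha, hb]
        group
      inv_mem' := by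
        rintro a ⟨δ, hδ, ha⟩
        refine ⟨δ⁻¹, inv_mem hδ, fun x => ?_⟩
        have h := ha (δ⁻¹ x)
        rw [show δ (δ⁻¹ x) = x from δ.apply_symm_apply x] at h
        rw [h]
        group }
  have hgen : genSub p (S : Subgroup G) ≤ D := by
    refine sup_le ?_ (iSup₂_le fun R hR => ?_)
    · intro g hg
      refine ⟨1, one_mem _, fun x => ?_⟩
      rw [MulAut.one_apply, ← hg _ x.2, mul_inv_cancel_right]
    · rintro g ⟨hgS, hg⟩
      obtain ⟨α, -, hα⟩ := exists_aut_of_mem hgS
      exact ⟨α, act_mem_of_mem_closure p S hE.1.2.2 hFA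
        (fun _ hP => Fusion.receptive_of_fullyCentralized S.isPGroup' hE.1.1 hP) hR.1
        (isCentric_of_centralizer_le p S hR.1 hR.2.1 hR.2.2) hg hα, hα⟩
  intro α hα
  obtain ⟨-, -, g, hg⟩ := hom_of_aut _ le_rfl hα
  have hgn : g ∈ Subgroup.normalizer ((S : Subgroup G) : Set G) := by
    refine Subgroup.mem_normalizer_iff.mpr fun x => ⟨fun hx => ?_, fun hx => ?_⟩
    · exact (hg ⟨x, hx⟩).symm ▸ (α ⟨x, hx⟩).2
    · obtain ⟨y, hy⟩ := α.surjective ⟨_, hx⟩
      have : g * (y : G) * g⁻¹ = g * x * g⁻¹ := (hg y).symm.trans (congrArg Subtype.val hy)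
      rw [mul_left_inj, mul_right_inj] at this
      exact this ▸ y.2
  obtain ⟨δ, hδ, hδg⟩ := hgen (hb hgn)
  have : α = δ := MulEquiv.ext fun x => Subtype.ext ((hg x).trans (hδg x).symm)
  exact this ▸ hδ

end Cfsg.Agent.Fusion91
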