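import Cfsg.Agent.Fusion91.SimpleFinal

set_option autoImplicit false

/-! The simplicity criterion applied through one Sylow subgroup. -/

namespace Cfsg.Agent.Fusion91

open Cfsg Cfsg.FusionSystem
open scoped Pointwise

variable {G G' : Type*} [Group G] [Group G']

theorem normalizer_map_equiv (f : G ≃* G') (S : Subgroup G) :
    Subgroup.normalizer ((S.map f.toMonoidHom : Subgroup G') : Set G') =
      (Subgroup.normalizer (S : Set G)).map f.toMonoidHom :=
  (Subgroup.map_equiv_normalizer_eq S f).symm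

theorem map_genSub_le (f : G ≃* G') (p : ℕ) (S : Subgroup G) :
    (genSub p S).map f.toMonoidHom ≤ genSub p (S.map f.toMonoidHom) := by
  rw [genSub, genSub, Subgroup.map_sup, Subgroup.map_iSup]
  refine sup_le_sup ?_ (iSup_le fun R => ?_)
  · rintro _ ⟨g, hg, rfl⟩ _ ⟨s, hs, rfl⟩
    show f s * f g = f g * f s
    rw [← map_mul, ← map_mul, hg s hs]
  rw [Subgroup.map_iSup]
  refine iSup_le fun ⟨h1, h2, h3⟩ => ?_
  refine le_iSup₂_of_le (R.map f.toMonoidHom) ⟨Subgroup.map_mono h1, ?_, ?_⟩ ?_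
  · rw [normalizer_map_equiv]
    exact Subgroup.map_mono h2
  · rintro _ ⟨⟨s, hs, rfl⟩, hc⟩
    refine ⟨s, h3 ⟨hs, fun r hr => f.injective ?_⟩, rfl⟩
    rw [map_mul, map_mul]
    exact hc _ ⟨r, hr, rfl⟩
  refine (Subgroup.map_inf_le _ _ _).trans (inf_le_inf ?_ ?_)
  · rw [normalizer_map_equiv]
  · rw [MonoidHom.map_closure]
    refine Subgroup.closure_mono ?_
    rintro _ ⟨g, ⟨hg, k, hk⟩, rfl⟩
    refine ⟨?_, k, by rw [← hk]; exact f.orderOf_eq g⟩
    rw [normalizer_map_equiv]
    exact ⟨g, hg, rfl⟩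

/-- Simplicity from the hypotheses of the criterion for one Sylow subgroup. -/
theorem groupFusion_simple_of_one [Finite G] (p : ℕ) [Fact p.Prime] (S₀ : Sylow p G)
    (hS1 : (S₀ : Subgroup G) ≠ ⊥) (ha : NoClosed (S₀ : Subgroup G))
    (hb : Subgroup.normalizer ((S₀ : Subgroup G) : Set G) ≤ genSub p (S₀ : Subgroup G))
    (S : Sylow p G) : (Cfsg.groupFusionSystem (S : Subgroup G)).IsSimple p := by
  obtain ⟨c, hc⟩ := MulAction.exists_smul_eq G S₀ S
  have hS : (S : Subgroup G) = (S₀ : Subgroup G).map (MulAut.conj c).toMonoidHom := by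
    rw [← hc, Sylow.coe_subgroup_smul]
    rfl
  refine groupFusion_simple_gen p S ?_ (hS ▸ ha.smul c) ?_
  · intro h
    rw [hS] at h
    exact hS1 ((Subgroup.map_eq_bot_iff_of_injective _ (MulAut.conj c).injective).mp h)
  · rw [hS, normalizer_map_equiv]
    exact (Subgroup.map_mono hb).trans (map_genSub_le _ p _)

end Cfsg.Agent.Fusion91
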