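import Cfsg.Agent.Fusion91.Climb
import Cfsg.Agent.Fusion91.Transport

set_option autoImplicit false

/-! Simplicity criterion through the elements acting inside an invariant subsystem. -/

namespace Cfsg.Agent.Fusion91

open Cfsg Cfsg.FusionSystem

variable {G : Type*} [Group G]

/-- The elements normalizing `R` whose action on `R` belongs to `E`. -/
def actSub {S : Subgroup G} (E : Cfsg.FusionSystem S) (R : Subgroup G) : Subgroup G where
  carrier := {g | ∃ δ ∈ E.autGroup R, ∀ x : R, ((δ x : R) : G) = g * x * g⁻¹}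
  one_mem' := ⟨1, one_mem _, fun x => by simp⟩
  mul_mem' := by
    rintro a b ⟨δ, hδ, ha⟩ ⟨ε, hε, hb⟩
    refine ⟨δ * ε, mul_mem hδ hε, fun x => ?_⟩
    rw [MulAut.mul_apply, ha, hb]
    group
  inv_mem' := by
    rintro a ⟨δ, hδ, ha⟩
    refine ⟨δ⁻¹, inv_mem hδ, fun x => ?_⟩
    have h := ha (δ⁻¹ x)
    rw [show δ (δ⁻¹ x) = x from δ.apply_symm_apply x] at h
    rw [h]
    group

variable [Finite G] {p : ℕ} [Fact p.Prime] {S : Sylow p G}
  {E : Cfsg.FusionSystem (S : Subgroup G)}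

/-- `p`-elements normalizing `R` act through an invariant subsystem. -/
theorem mem_actSub_of_pElement
    (hinv : E.IsInvariantIn (Cfsg.groupFusionSystem (S : Subgroup G))) {R : Subgroup G}
    (hRS : R ≤ (S : Subgroup G)) {g : G} (hg : g ∈ Subgroup.normalizer (R : Set G)) {k : ℕ}
    (hk : g ^ p ^ k = 1) : g ∈ actSub E R := by
  set F := Cfsg.groupFusionSystem (S : Subgroup G)
  have hFA : ∀ P, F.IsFullyNormalized P → F.IsFullyAutomized p P :=
    fun _ hP => Fusion.fullyAutomized_of_fullyNormalized S.isPGroup'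
      (Fusion.groupFusionSystem_isSaturated S) hP
  have hmaps : ∀ x : R, g * x * g⁻¹ ∈ R := fun x => (Subgroup.mem_normalizer_iff.mp hg x).mp x.2
  have hmem : conjHom R g ∈ F.Hom R := ⟨hRS, fun x => hRS (hmaps x), g, fun x => rfl⟩
  obtain ⟨δ, hδ, he⟩ := exists_aut_of_hom F hmem hmaps
  refine ⟨δ, pow_mem_of_invariant F E hinv hFA hRS hδ (k := k) ?_, he⟩
  have hpow : ∀ (i : ℕ) (x : R), (((δ ^ i) x : R) : G) = g ^ i * x * (g ^ i)⁻¹ := by
    intro i
    induction i with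
    | zero => intro x; simp
    | succ i ih =>
      intro x
      rw [pow_succ', MulAut.mul_apply, he, show conjHom R g ((δ ^ i) x) = g * ((δ ^ i) x : R) * g⁻¹ from rfl,
        ih, pow_succ']
      group
  ext x
  rw [hpow, hk]
  simp

/-- Climbing from a centric subgroup. -/
theorem mem_actSub_climb (hsat : E.IsSaturated p)
    (hinv : E.IsInvariantIn (Cfsg.groupFusionSystem (S : Subgroup G))) {R P : Subgroup G}
    (hR : (Cfsg.groupFusionSystem (S : Subgroup G)).IsCentric R) (hRP : R ≤ P)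
    (hP : P ≤ (S : Subgroup G)) {g : G} (hg : g ∈ Subgroup.normalizer (P : Set G))
    (hgR : g ∈ actSub E R) : g ∈ actSub E P := by
  set F := Cfsg.groupFusionSystem (S : Subgroup G)
  have hmaps : ∀ x : P, g * x * g⁻¹ ∈ P := fun x => (Subgroup.mem_normalizer_iff.mp hg x).mp x.2
  have hmem : conjHom P g ∈ F.Hom P := ⟨hP, fun x => hP (hmaps x), g, fun x => rfl⟩
  obtain ⟨α, hα, hαe⟩ := exists_aut_of_hom F hmem hmaps
  obtain ⟨δ, hδ, he⟩ := hgR
  refine ⟨α, aut_mem_of_restrict_sub S.isPGroup' F E hinv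
    (fun _ hQ => Fusion.fullyAutomized_of_fullyNormalized S.isPGroup'
      (Fusion.groupFusionSystem_isSaturated S) hQ)
    (fun _ hQ => Fusion.receptive_of_fullyCentralized S.isPGroup' hsat hQ) hR hP hα R hRP le_rfl ?_
    ⟨_, hom_of_aut E (hRP.trans hP) hδ, ?_⟩, fun x => hαe x⟩
  · intro x
    rw [hαe]
    show g * (x : G) * g⁻¹ ∈ R
    exact he x ▸ (δ x).2
  · intro x
    rw [hαe]
    exact he x

/-- Restriction to a smaller subgroup. -/
theorem mem_actSub_restrict {R P : Subgroup G} (hRP : R ≤ P) (hP : P ≤ (S : Subgroup G)) {g : G}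
    (hg : g ∈ Subgroup.normalizer (R : Set G)) (hgP : g ∈ actSub E P) : g ∈ actSub E R := by
  obtain ⟨δ, hδ, he⟩ := hgP
  have h1 := restrict_mem E (hom_of_aut E hP hδ) hRP
  have hmaps : ∀ x : R, ((P.subtype.comp δ.toMonoidHom).comp (Subgroup.inclusion hRP)) x ∈ R := by
    intro x
    show ((δ _ : P) : G) ∈ R
    rw [he]
    exact (Subgroup.mem_normalizer_iff.mp hg x).mp x.2
  obtain ⟨ε, hε, hεe⟩ := exists_aut_of_hom E h1 hmaps
  exact ⟨ε, hε, fun x => (hεe x).trans (he _)⟩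

/-- Simplicity from a check of every invariant saturated subsystem. -/
theorem groupFusion_simple_act (hS1 : (S : Subgroup G) ≠ ⊥) (ha : NoClosed (S : Subgroup G))
    (hb : ∀ E : Cfsg.FusionSystem (S : Subgroup G), E.IsSaturated p →
      E.IsInvariantIn (Cfsg.groupFusionSystem (S : Subgroup G)) →
      Subgroup.normalizer ((S : Subgroup G) : Set G) ≤ actSub E (S : Subgroup G)) :
    (Cfsg.groupFusionSystem (S : Subgroup G)).IsSimple p := by
  refine ⟨Fusion.groupFusionSystem_isSaturated S, hS1, fun T E hE => ?_⟩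
  have hT := hE.1.2.2.2.1
  by_cases hbot : T = ⊥
  · exact Or.inl hbot
  have hTS : T = (S : Subgroup G) := ha T hT.1 hbot fun x hx a hax => by
    have hle : Subgroup.zpowers x ≤ T := Subgroup.zpowers_le.mpr hx
    refine hT.2 _ hle (conjHom _ a) ⟨hle.trans hT.1, ?_, a, fun _ => rfl⟩
      ⟨x, Subgroup.mem_zpowers x⟩
    rintro ⟨y, hy⟩
    obtain ⟨i, rfl⟩ := Subgroup.mem_zpowers_iff.mp hy
    show a * x ^ i * a⁻¹ ∈ _
    rw [show a * x ^ i * a⁻¹ = (a * x * a⁻¹) ^ i from conj_zpow.symm]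
    exact zpow_mem hax i
  subst hTS
  refine Or.inr ⟨rfl, eq_of_aut_le _ E hE.1.2.2 ?_⟩
  intro α hα
  obtain ⟨-, -, g, hg⟩ := hom_of_aut _ le_rfl hα
  have hgn : g ∈ Subgroup.normalizer ((S : Subgroup G) : Set G) := by
    refine Subgroup.mem_normalizer_iff.mpr fun x => ⟨fun hx => ?_, fun hx => ?_⟩
    · exact (hg ⟨x, hx⟩).symm ▸ (α ⟨x, hx⟩).2
    · obtain ⟨y, hy⟩ := α.surjective ⟨_, hx⟩
      have : g * (y : G) * g⁻¹ = g * x * g⁻¹ := (hg y).symm.trans (congrArg Subtype.val hy)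
      rw [mul_left_inj, mul_right_inj] at this
      exact this ▸ y.2
  obtain ⟨δ, hδ, hδg⟩ := hb E hE.1.1 hE.1.2.2 hgn
  have : α = δ := MulEquiv.ext fun x => Subtype.ext ((hg x).trans (hδg x).symm)
  exact this ▸ hδ

/-- A subgroup equal to its centralizer in the whole group is centric. -/
theorem isCentric_of_centralizer_le_group {R : Subgroup G} (hR : R ≤ (S : Subgroup G))
    (hc : Subgroup.centralizer (R : Set G) ≤ R) :
    (Cfsg.groupFusionSystem (S : Subgroup G)).IsCentric R := by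
  refine ⟨hR, ?_⟩
  rintro Q ⟨φ, ⟨-, -, h, hh⟩, rfl⟩ z hz
  have hz' : h⁻¹ * z * h ∈ R := by
    refine hc fun y hy => ?_
    have := hz.2 _ ⟨⟨y, hy⟩, rfl⟩
    rw [hh] at this
    calc y * (h⁻¹ * z * h) = h⁻¹ * (h * y * h⁻¹ * z) * h := by group
      _ = h⁻¹ * (z * (h * y * h⁻¹)) * h := by rw [this]
      _ = h⁻¹ * z * h * y := by group
  exact ⟨⟨_, hz'⟩, by rw [hh]; show h * (h⁻¹ * z * h) * h⁻¹ = z; group⟩

end Cfsg.Agent.Fusion91
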