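import Cfsg.Agent.Fusion91.Basic

set_option autoImplicit false

/-! `Aut_F(P)` as a set of maps, and automorphisms of prime-power order. -/

namespace Cfsg.Agent.Fusion91

open Cfsg Cfsg.FusionSystem

variable {Ω : Type*} [Group Ω] {S : Subgroup Ω}

theorem range_subtype_comp {P : Subgroup Ω} (α : MulAut P) :
    (P.subtype.comp α.toMonoidHom).range = P := by
  rw [MonoidHom.range_comp, MonoidHom.range_eq_top.mpr α.surjective, ← MonoidHom.range_eq_map,
    Subgroup.range_subtype]

/-- `Aut_F(P)` as a subgroup given by its set of maps. -/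
def autSubgroup (F : Cfsg.FusionSystem S) {P : Subgroup Ω} (hP : P ≤ S) : Subgroup (MulAut P) where
  carrier := {α | P.subtype.comp α.toMonoidHom ∈ F.Hom P}
  one_mem' := by
    have : P.subtype.comp (1 : MulAut P).toMonoidHom = P.subtype := MonoidHom.ext fun _ => rfl
    show _ ∈ F.Hom P
    rw [this]
    exact subtype_mem F hP
  mul_mem' := by
    intro α β hα hβ
    have h := F.comp_mem hβ hα (fun x => (β x).2)
    exact h
  inv_mem' := by
    intro α hα
    obtain ⟨ψ, hψ, he⟩ := F.inv_mem hα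
    refine mem_congr F (range_subtype_comp α) hψ (fun x hP' hQ => ?_)
    have h := he (α⁻¹ ⟨x, hQ⟩)
    refine h.symm.trans (congrArg ψ (Subtype.ext ?_))
    show ((α (α.symm ⟨x, hQ⟩) : P) : Ω) = x
    rw [α.apply_symm_apply]

theorem mem_autGroup_iff (F : Cfsg.FusionSystem S) {P : Subgroup Ω} (hP : P ≤ S) {α : MulAut P} :
    α ∈ F.autGroup P ↔ P.subtype.comp α.toMonoidHom ∈ F.Hom P :=
  ⟨fun h => (Subgroup.closure_le (autSubgroup F hP)).mpr (fun _ hβ => hβ) h,
    fun h => Subgroup.subset_closure h⟩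

theorem hom_of_aut (F : Cfsg.FusionSystem S) {P : Subgroup Ω} (hP : P ≤ S) {α : MulAut P}
    (h : α ∈ F.autGroup P) : P.subtype.comp α.toMonoidHom ∈ F.Hom P :=
  (mem_autGroup_iff F hP).mp h

theorem aut_le_of_subsystem {T : Subgroup Ω} {E : Cfsg.FusionSystem T} {F : Cfsg.FusionSystem S}
    (hEF : E.IsSubsystemOf F) (P : Subgroup Ω) : E.autGroup P ≤ F.autGroup P :=
  Subgroup.closure_mono fun _ h => hEF _ h

/-- A map of the system carrying the finite `P ≤ S` into itself is an element of `Aut_F(P)`. -/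
theorem exists_aut_of_hom [Finite S] (F : Cfsg.FusionSystem S) {P : Subgroup Ω} {φ : P →* Ω}
    (h : φ ∈ F.Hom P) (hmaps : ∀ x : P, φ x ∈ P) :
    ∃ α ∈ F.autGroup P, ∀ x : P, ((α x : P) : Ω) = φ x := by
  have : Finite P := finite_of_le (dom_le F h)
  let f : P →* P := φ.codRestrict P hmaps
  have hinj : Function.Injective f := fun a b hab =>
    F.injective_of_mem h (congrArg Subtype.val hab)
  let α : MulAut P := MulEquiv.ofBijective f (Finite.injective_iff_bijective.mp hinj)
  refine ⟨α, (mem_autGroup_iff F (dom_le F h)).mpr ?_, fun x => rfl⟩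
  have : P.subtype.comp α.toMonoidHom = φ := MonoidHom.ext fun _ => rfl
  rw [this]
  exact h

/-- A finite-group automorphism fixing `N` pointwise and moving elements by `Z(N)` has order a power of `p`. -/
theorem pow_eq_one_of_trivial_on {Q : Subgroup Ω} {N : Subgroup Ω} (hN : N ≤ Q) {p n : ℕ}
    (hcard : ∀ z ∈ N, z ^ p ^ n = 1) (γ : MulAut Q)
    (hfix : ∀ x : Q, (x : Ω) ∈ N → γ x = x)
    (hmove : ∀ g : Q, (((g⁻¹ * γ g : Q) : Ω)) ∈ N) : γ ^ p ^ n = 1 := by
  have key : ∀ (k : ℕ) (g : Q), (γ ^ k) g = g * (g⁻¹ * γ g) ^ k := by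
    intro k g
    induction k with
    | zero => simp
    | succ k ih =>
      rw [pow_succ', MulAut.mul_apply, ih, map_mul, map_pow, hfix _ (hmove g), pow_succ', ← mul_assoc,
        ← mul_assoc, mul_inv_cancel, one_mul]
  ext g
  rw [key, MulAut.one_apply]
  have : (g⁻¹ * γ g) ^ p ^ n = 1 := Subtype.ext (by simpa using hcard _ (hmove g))
  rw [this, mul_one]

end Cfsg.Agent.Fusion91
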