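import Cfsg.Agent.Fusion91.Simple

set_option autoImplicit false

/-! Climbing from a centric subgroup to an arbitrary overgroup. -/

namespace Cfsg.Agent.Fusion91

open Cfsg Cfsg.FusionSystem
open scoped Pointwise

variable {Ω : Type*} [Group Ω] {S : Subgroup Ω}

/-- An automorphism of `P` whose restriction to a centric subgroup lies in an invariant saturated
subsystem over `S` lies in that subsystem. -/
theorem aut_mem_of_restrict_sub [Finite S] {p : ℕ} [Fact p.Prime] (hS : IsPGroup p S)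
    (F E : Cfsg.FusionSystem S) (hE : E.IsInvariantIn F)
    (hFA : ∀ P, F.IsFullyNormalized P → F.IsFullyAutomized p P)
    (hER : ∀ P, E.IsFullyCentralized P → E.IsReceptive P)
    {R : Subgroup Ω} (hR : F.IsCentric R) {P : Subgroup Ω} (hP : P ≤ S) {α : MulAut P}
    (hα : α ∈ F.autGroup P) :
    ∀ (N : Subgroup Ω) (hN : N ≤ P), R ≤ N → (∀ x : N, ((α ⟨x, hN x.2⟩ : P) : Ω) ∈ N) →
      (∃ φ ∈ E.Hom N, ∀ x : N, φ x = ((α ⟨x, hN x.2⟩ : P) : Ω)) → α ∈ E.autGroup P := by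
  intro N
  induction hm : Nat.card P - Nat.card N using Nat.strong_induction_on generalizing N with
  | _ m ih =>
  subst hm
  intro hN hRN hstab ⟨φ, hφ, hφe⟩
  have : Finite P := finite_of_le hP
  have : Finite N := finite_of_le (hN.trans hP)
  rcases eq_or_lt_of_le hN with rfl | hlt
  · refine (mem_autGroup_iff E hP).mpr ?_
    have : N.subtype.comp α.toMonoidHom = φ := MonoidHom.ext fun x => (hφe x).symm
    rw [this]
    exact hφ
  -- `N` is fully centralized in `E`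
  have hcentric : ∀ Q, F.IsConj N Q → centralizerIn S Q ≤ Q := by
    rintro Q ⟨χ, hχ, rfl⟩ z hz
    have hc := hR.2 (χ.comp (Subgroup.inclusion hRN)).range
      ⟨_, restrict_mem F hχ hRN, rfl⟩
    have hsub : (χ.comp (Subgroup.inclusion hRN)).range ≤ χ.range := by
      rintro _ ⟨x, rfl⟩; exact ⟨_, rfl⟩
    exact hsub (hc ⟨hz.1, Subgroup.centralizer_le (by exact hsub) hz.2⟩)
  have hNfc : E.IsFullyCentralized N := by
    refine ⟨hN.trans hP, ?_⟩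
    rintro Q ⟨χ, hχ, rfl⟩
    obtain ⟨ψ, hψ, he⟩ := E.inv_mem hχ
    have hQ : centralizerIn S χ.range ≤ χ.range := hcentric _ ⟨χ, hE.1 _ hχ, rfl⟩
    have : Finite (centralizerIn S N) := finite_of_le inf_le_left
    refine Nat.card_le_card_of_injective
      (fun z : centralizerIn S χ.range => (⟨ψ ⟨z, hQ z.2⟩, val_mem E hψ _, ?_⟩ : centralizerIn S N))
      ?_
    · intro x hx
      have hc : (χ ⟨x, hx⟩ : Ω) * z = z * χ ⟨x, hx⟩ := z.2.2 _ ⟨_, rfl⟩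
      have hh : ψ ⟨χ ⟨x, hx⟩, ⟨_, rfl⟩⟩ = x := he ⟨x, hx⟩
      rw [← hh, ← map_mul, ← map_mul]
      exact congrArg ψ (Subtype.ext hc)
    · intro a b hab
      exact Subtype.ext (congrArg (fun z : χ.range => (z : Ω))
        (E.injective_of_mem hψ (congrArg Subtype.val hab)))
  have hφr : φ.range = N :=
    range_eq_of_card (E.injective_of_mem hφ) (fun x => hφe x ▸ hstab x) le_rfl
  obtain ⟨-, hext⟩ := hER N hNfc
  obtain ⟨ψ, hψ, hψe⟩ := hext N φ hφ hφr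
  set N' := normalizerIn P N with hN'
  have hN'P : N' ≤ P := inf_le_left
  have hN'S : N' ≤ S := hN'P.trans hP
  have hNN' : N ≤ N' := le_inf hN Subgroup.le_normalizer
  have hN'ext : N' ≤ extender S N φ := by
    intro g hg
    refine Subgroup.subset_closure ⟨hP hg.1, hg.2, (α ⟨g, hg.1⟩ : P), hP (α _).2, fun x hx => ?_⟩
    rw [hφe, hφe]
    have : (⟨g * x * g⁻¹, hN hx⟩ : P) = ⟨g, hg.1⟩ * ⟨x, hN x.2⟩ * (⟨g, hg.1⟩)⁻¹ := rfl
    simp only [this, map_mul, map_inv, Subgroup.coe_mul, InvMemClass.coe_inv]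
  have hsur : ∀ y ∈ N, ∃ x : N, ((α ⟨x, hN x.2⟩ : P) : Ω) = y := by
    intro y hy
    obtain ⟨x, rfl⟩ := hφr ▸ hy
    exact ⟨x, (hφe x).symm⟩
  have hconj : ∀ g (hg : g ∈ N'), ∀ y ∈ N,
      ((α ⟨g, hg.1⟩ : P) : Ω) * y * ((α ⟨g, hg.1⟩ : P) : Ω)⁻¹ ∈ N := by
    intro g hg y hy
    obtain ⟨x, rfl⟩ := hsur y hy
    have hx : g * x * g⁻¹ ∈ N := (Subgroup.mem_normalizer_iff.mp hg.2 x).mp x.2
    have h2 := hstab ⟨_, hx⟩
    have : (⟨g * x * g⁻¹, hN hx⟩ : P) = ⟨g, hg.1⟩ * ⟨x, hN x.2⟩ * (⟨g, hg.1⟩)⁻¹ := rfl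
    simpa only [this, map_mul, map_inv, Subgroup.coe_mul, InvMemClass.coe_inv] using h2
  have hstab' : ∀ g : N', ((α ⟨g, hN'P g.2⟩ : P) : Ω) ∈ N' := by
    rintro ⟨g, hg⟩
    refine ⟨(α _).2, Subgroup.mem_normalizer_iff.mpr fun y => ⟨hconj g hg y, fun hy => ?_⟩⟩
    have h2 := hconj g⁻¹ (inv_mem hg) _ hy
    have : (⟨g⁻¹, (inv_mem hg).1⟩ : P) = (⟨g, hg.1⟩)⁻¹ := rfl
    simp only [this, map_inv, InvMemClass.coe_inv] at h2
    convert h2 using 1
    group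
  -- `ψ` maps `N'` into itself
  have hψN : ∀ x : N, ψ ⟨x, hN'ext (hNN' x.2)⟩ = φ x := fun x => hψe x x.2 _
  have hψstab : ∀ g : N', ψ ⟨g, hN'ext g.2⟩ ∈ N' := by
    have key : ∀ g (hg : g ∈ N'), ∀ y ∈ N,
        ψ ⟨g, hN'ext hg⟩ * y * (ψ ⟨g, hN'ext hg⟩)⁻¹ ∈ N := by
      intro g hg y hy
      obtain ⟨x, rfl⟩ := hsur y hy
      have hx : g * x * g⁻¹ ∈ N := (Subgroup.mem_normalizer_iff.mp hg.2 x).mp x.2
      rw [← hφe, ← hψN, ← map_inv, ← map_mul, ← map_mul]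
      have h3 : ψ ⟨g * x * g⁻¹, hN'ext (hNN' hx)⟩ ∈ N := by
        rw [hψN ⟨_, hx⟩, hφe]
        exact hstab _
      exact h3
    rintro ⟨g, hg⟩
    have hP' : ψ ⟨g, hN'ext hg⟩ ∈ P := by
      set a : Ω := ((α ⟨g, hg.1⟩ : P) : Ω) with ha
      have hz : a⁻¹ * ψ ⟨g, hN'ext hg⟩ ∈ centralizerIn S N := by
        refine ⟨S.mul_mem (S.inv_mem (hP (α _).2)) (val_mem E hψ _), fun y hy => ?_⟩
        obtain ⟨x, rfl⟩ := hsur y hy
        have hx : g * x * g⁻¹ ∈ N := (Subgroup.mem_normalizer_iff.mp hg.2 x).mp x.2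
        have e1 : ψ ⟨g, hN'ext hg⟩ * φ x * (ψ ⟨g, hN'ext hg⟩)⁻¹ = a * φ x * a⁻¹ := by
          rw [← hψN x, ← map_inv, ← map_mul, ← map_mul]
          refine (hψN ⟨_, hx⟩).trans ?_
          rw [hφe, hψN x, hφe, ha]
          have : (⟨g * x * g⁻¹, hN hx⟩ : P) = ⟨g, hg.1⟩ * ⟨x, hN x.2⟩ * (⟨g, hg.1⟩)⁻¹ := rfl
          simp only [this, map_mul, map_inv, Subgroup.coe_mul, InvMemClass.coe_inv]
        rw [← hφe]
        calc φ x * (a⁻¹ * ψ ⟨g, hN'ext hg⟩)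
            = a⁻¹ * (a * φ x * a⁻¹) * ψ ⟨g, hN'ext hg⟩ := by group
          _ = a⁻¹ * (ψ ⟨g, hN'ext hg⟩ * φ x * (ψ ⟨g, hN'ext hg⟩)⁻¹) * ψ ⟨g, hN'ext hg⟩ := by rw [e1]
          _ = a⁻¹ * ψ ⟨g, hN'ext hg⟩ * φ x := by group
      have hz' := hN (hcentric N (isConj_refl F (hN.trans hP)) hz)
      have := mul_mem (α ⟨g, hg.1⟩).2 hz'
      rwa [← ha, mul_inv_cancel_left] at this
    refine ⟨hP', Subgroup.mem_normalizer_iff.mpr fun y => ⟨key g hg y, fun hy => ?_⟩⟩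
    have h2 := key g⁻¹ (inv_mem hg) _ hy
    have : (⟨g⁻¹, hN'ext (inv_mem hg)⟩ : extender S N φ) = (⟨g, hN'ext hg⟩)⁻¹ := rfl
    rw [this, map_inv] at h2
    convert h2 using 1
    group
  obtain ⟨β, hβ, hβe⟩ := exists_aut_of_hom E (restrict_mem E hψ hN'ext) hψstab
  obtain ⟨α', hα', hα'e⟩ := exists_aut_of_hom F
    (restrict_mem F (hom_of_aut F hP hα) hN'P) hstab'
  -- `γ = β⁻¹ α'` is trivial on `N`
  set γ := β⁻¹ * α' with hγdef
  have hγF : γ ∈ F.autGroup N' :=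
    mul_mem (inv_mem (aut_le_of_subsystem hE.1 _ hβ)) hα'
  have hfix : ∀ x : N', (x : Ω) ∈ N → γ x = x := by
    intro x hx
    show β.symm (α' x) = x
    rw [MulEquiv.symm_apply_eq]
    apply Subtype.ext
    rw [hα'e, hβe]
    exact ((hψN ⟨x, hx⟩).trans (hφe ⟨x, hx⟩)).symm
  have hmove : ∀ g : N', (((g⁻¹ * γ g : N') : Ω)) ∈ N := by
    intro g
    refine hcentric N (isConj_refl F (hN.trans hP)) ⟨hN'S (g⁻¹ * γ g).2, fun y hy => ?_⟩
    have hg := g.2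
    have hx : (g : Ω) * y * (g : Ω)⁻¹ ∈ N := (Subgroup.mem_normalizer_iff.mp hg.2 y).mp hy
    let y' : N' := ⟨y, hNN' hy⟩
    have h1 : γ (g * y' * g⁻¹) = g * y' * g⁻¹ := hfix _ hx
    rw [map_mul, map_mul, map_inv, hfix y' hy] at h1
    have h2 : (g⁻¹ * γ g) * y' = y' * (g⁻¹ * γ g) :=
      calc (g⁻¹ * γ g) * y' = g⁻¹ * (γ g * y' * (γ g)⁻¹) * γ g := by group
        _ = g⁻¹ * (g * y' * g⁻¹) * γ g := by rw [h1]
        _ = y' * (g⁻¹ * γ g) := by group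
    exact (congrArg Subtype.val h2).symm
  obtain ⟨n, hn⟩ := IsPGroup.iff_card.mp (hS.to_le (hN.trans hP))
  have hγn : γ ^ p ^ n = 1 := pow_eq_one_of_trivial_on hNN'
    (fun z hz => by
      have : (⟨z, hz⟩ : N) ^ p ^ n = 1 := hn ▸ pow_card_eq_one'
      simpa using congrArg Subtype.val this) γ hfix hmove
  have hγE := pow_mem_of_invariant F E hE hFA hN'S hγF hγn
  have hα'E : α' ∈ E.autGroup N' := by
    have : α' = β * γ := by rw [hγdef, mul_inv_cancel_left]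
    rw [this]
    exact mul_mem hβ hγE
  -- `N < N'`
  have hNlt : N < N' := by
    refine lt_of_le_of_ne hNN' fun heq => ?_
    have hnil : Group.IsNilpotent P := (hS.to_le hP).isNilpotent
    have h1 : N.subgroupOf P < ⊤ := by
      rw [lt_top_iff_ne_top]
      intro h
      exact hlt.not_ge (Subgroup.subgroupOf_eq_top.mp h)
    have h2 := Group.normalizerCondition_of_isNilpotent (h := hnil) _ h1
    rw [← Subgroup.subgroupOf_normalizer_eq hN] at h2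
    apply h2.ne
    ext x
    simp only [Subgroup.mem_subgroupOf]
    exact ⟨fun h => hNN' h |>.2, fun h => heq ▸ ⟨x.2, h⟩⟩
  have : Finite N' := finite_of_le hN'S
  refine ih _ ?_ N' rfl hN'P (hRN.trans hNN') hstab'
    ⟨_, hom_of_aut E hN'S hα'E, fun x => hα'e x⟩
  have h1 : Nat.card N < Nat.card N' := by
    refine lt_of_le_of_ne (Subgroup.card_le_of_le hNN') fun h => hNlt.ne ?_
    exact Subgroup.eq_of_le_of_card_ge hNN' h.ge
  have h2 : Nat.card N' ≤ Nat.card P := Subgroup.card_le_of_le hN'P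
  omega

end Cfsg.Agent.Fusion91
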