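import Cfsg.Prelude.Def_FusionComponents
import Cfsg.Agent.Fus93.Iso
import Cfsg.Agent.Lib.Fusion.Invariant
import Cfsg.Agent.Fusion91.Factor
import Cfsg.Agent.Fusion91.Core
import Cfsg.Agent.Fusion91.Solvable
import Cfsg.Agent.Lib.Thompson.Cores

set_option autoImplicit false
set_option linter.style.haveILetI false

/-! Images of components under maps of the system. -/

namespace Cfsg.Agent.Fusion91

open Cfsg Cfsg.Agent.Fusion
open Cfsg.FusionSystem (normalizerIn centralizerIn preimageAlong)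
open Cfsg.Agent.Fus93 (FIso img)

variable {Ω : Type*} [Group Ω] {S : Subgroup Ω} {F : Cfsg.FusionSystem S}

theorem fiso_congr {Ω' : Type*} [Group Ω'] {S' : Subgroup Ω'} {F' : Cfsg.FusionSystem S'}
    {a a' : Ω → Ω'} {b b' : Ω' → Ω} (h : FIso F F' a b) (ha : Set.EqOn a a' S) (hb : Set.EqOn b b' S') :
    FIso F F' a' b' where
  map_mul x hx y hy := by
    rw [← ha (S.mul_mem hx hy), ← ha hx, ← ha hy]; exact h.map_mul x hx y hy
  mem x hx := ha hx ▸ h.mem x hx
  mem' y hy := hb hy ▸ h.mem' y hy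
  left x hx := by rw [← ha hx, ← hb (h.mem x hx)]; exact h.left x hx
  right y hy := by rw [← hb hy, ← ha (h.mem' y hy)]; exact h.right y hy
  push P f hf P' hP' := by
    have hP : (P' : Set Ω') = a '' P := hP'.trans (Set.image_congr fun x hx => (ha (hf.dom_le hx)).symm)
    refine (h.push P f hf P' hP).congr fun y hy => ?_
    obtain ⟨x, hx, rfl⟩ := hP ▸ (hy : y ∈ (P' : Set Ω'))
    simp only [Function.comp_apply]
    rw [← hb (h.mem x (hf.dom_le hx)), h.left x (hf.dom_le hx), ← ha (hf.apply_mem hx)]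
  pull P' f hf P hP' := by
    have hP : (P : Set Ω) = b '' P' := hP'.trans (Set.image_congr fun x hx => (hb (hf.dom_le hx)).symm)
    refine (h.pull P' f hf P hP).congr fun y hy => ?_
    obtain ⟨x, hx, rfl⟩ := hP ▸ (hy : y ∈ (P : Set Ω))
    simp only [Function.comp_apply]
    rw [← ha (h.mem' x (hf.dom_le hx)), h.right x (hf.dom_le hx), ← hb (hf.apply_mem hx)]

theorem fiso_trans {Ω' Ω'' : Type*} [Group Ω'] [Group Ω''] {S' : Subgroup Ω'} {S'' : Subgroup Ω''}
    {F' : Cfsg.FusionSystem S'} {F'' : Cfsg.FusionSystem S''} {a : Ω → Ω'} {b : Ω' → Ω}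
    {c : Ω' → Ω''} {d : Ω'' → Ω'} (h : FIso F F' a b) (k : FIso F' F'' c d) :
    FIso F F'' (c ∘ a) (b ∘ d) where
  map_mul x hx y hy := by
    simp only [Function.comp_apply]
    rw [h.map_mul x hx y hy, k.map_mul _ (h.mem x hx) _ (h.mem y hy)]
  mem x hx := k.mem _ (h.mem x hx)
  mem' y hy := h.mem' _ (k.mem' y hy)
  left x hx := by simp only [Function.comp_apply]; rw [k.left _ (h.mem x hx), h.left x hx]
  right y hy := by simp only [Function.comp_apply]; rw [h.right _ (k.mem' y hy), k.right y hy]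
  push P f hf P' hP' :=
    k.push _ _ (h.map hf) P' (by rw [h.coe_img hf.dom_le, ← Set.image_comp]; exact hP')
  pull P' f hf P hP' :=
    h.pull _ _ (k.symm.map hf) P (by rw [k.symm.coe_img hf.dom_le, ← Set.image_comp]; exact hP')

theorem fiso_aut {a b : Ω → Ω} (ha : IsIso F S S a) (hb : IsIso F S S b)
    (hl : ∀ x ∈ S, b (a x) = x) (hr : ∀ x ∈ S, a (b x) = x) : FIso F F a b where
  map_mul x hx y hy := ha.1.map_mul hx hy
  mem x hx := ha.mem hx
  mem' y hy := hb.mem hy
  left := hl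
  right := hr
  push P f hf P' hP' := by
    have hle : P' ≤ S := fun y hy => by
      obtain ⟨x, hx, rfl⟩ := (Set.ext_iff.mp hP' y).mp hy
      exact ha.mem (hf.dom_le hx)
    refine ((hb.1.mono hle).comp hf fun y hy => ?_).comp ha.1 fun y hy => ?_
    · obtain ⟨x, hx, rfl⟩ := (Set.ext_iff.mp hP' y).mp hy
      rwa [hl x (hf.dom_le hx)]
    · obtain ⟨x, hx, rfl⟩ := (Set.ext_iff.mp hP' y).mp hy
      show f (b (a x)) ∈ S
      rw [hl x (hf.dom_le hx)]
      exact hf.apply_mem hx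
  pull P' f hf P hP' := by
    have hle : P ≤ S := fun y hy => by
      obtain ⟨x, hx, rfl⟩ := (Set.ext_iff.mp hP' y).mp hy
      exact hb.mem (hf.dom_le hx)
    refine ((ha.1.mono hle).comp hf fun y hy => ?_).comp hb.1 fun y hy => ?_
    · obtain ⟨x, hx, rfl⟩ := (Set.ext_iff.mp hP' y).mp hy
      rwa [hr x (hf.dom_le hx)]
    · obtain ⟨x, hx, rfl⟩ := (Set.ext_iff.mp hP' y).mp hy
      show f (a (b x)) ∈ S
      rw [hr x (hf.dom_le hx)]
      exact hf.apply_mem hx

theorem le_of_subnormal {p : ℕ} {T : Subgroup Ω} {E : Cfsg.FusionSystem T}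
    (h : E.IsSubnormalIn F p) : T ≤ S := by
  induction h with
  | refl => exact le_rfl
  | step h1 h2 ih => exact ih.trans h2.1.2.2.2.1.1

/-- Subnormal subsystems are carried along isomorphisms. -/
theorem subnormal_transport {p : ℕ} {T : Subgroup Ω} {E : Cfsg.FusionSystem T}
    (h : E.IsSubnormalIn F p) : ∀ [Fact p.Prime], Finite S → ∀ {S' : Subgroup Ω} {F' : Cfsg.FusionSystem S'} {a b : Ω → Ω},
    FIso F F' a b → ∃ (T' : Subgroup Ω) (E' : Cfsg.FusionSystem T'),
      E'.IsSubnormalIn F' p ∧ FIso E E' a b := by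
  induction h with
  | refl =>
    intro _ _ S' F' a b hiso
    exact ⟨S', F', .refl F' _, hiso⟩
  | step h1 h2 ih =>
    intro _ hfin S' F' a b hiso
    haveI := hfin
    obtain ⟨T', E', hE', he⟩ := ih (Fusion.finite_of_le h2.1.2.2.2.1.1)
      (hiso.restrictIso _ h2.1.2.2.2.1.1 h2.1.2.2.1)
    exact ⟨T', E', .step hE' (hiso.pushSys_isNormalIn h2), he⟩

/-- An automorphism of the ambient system acts on an invariant subsystem. -/
theorem fiso_invariant {U : Subgroup Ω} {D : Cfsg.FusionSystem U} (h : D.IsInvariantIn F)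
    {k l : Ω → Ω} (hk : IsIso F U U k) (hl : IsIso F U U l) (h1 : ∀ x ∈ U, l (k x) = x)
    (h2 : ∀ x ∈ U, k (l x) = x) : FIso D D k l where
  map_mul x hx y hy := hk.1.map_mul hx hy
  mem x hx := hk.mem hx
  mem' y hy := hl.mem hy
  left := h1
  right := h2
  push P f hf P' hP' := by
    obtain ⟨g, hg, hge⟩ := invariant_inv h hf hk hP'
    refine hg.congr fun y hy => ?_
    obtain ⟨x, hx, rfl⟩ := (Set.ext_iff.mp hP' y).mp hy
    simp only [Function.comp_apply]
    rw [hge x hx, h1 x (hf.dom_le hx)]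
  pull P' f hf P hP' := by
    obtain ⟨g, hg, hge⟩ := invariant_inv h hf hl hP'
    refine hg.congr fun y hy => ?_
    obtain ⟨x, hx, rfl⟩ := (Set.ext_iff.mp hP' y).mp hy
    simp only [Function.comp_apply]
    rw [hge x hx, h2 x (hf.dom_le hx)]

/-- The image of a subnormal subsystem under a map of the system is subnormal. -/
theorem subnormal_image {p : ℕ} {T : Subgroup Ω} {C : Cfsg.FusionSystem T}
    (h : C.IsSubnormalIn F p) : ∀ [Fact p.Prime], Finite S → ∀ {f : Ω → Ω}, IsMap F T f →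
    ∃ (T' : Subgroup Ω) (C' : Cfsg.FusionSystem T'), C'.IsSubnormalIn F p ∧ ∃ g, FIso C C' f g := by
  induction h with
  | @refl F p =>
    intro _ hfin f hf
    haveI := hfin
    have him : IsIso F T T f := ⟨hf, Set.Subset.antisymm
      (by rintro _ ⟨x, hx, rfl⟩; exact hf.apply_mem hx)
      fun y hy => surjOn_of_card_le le_rfl hf.injOn (fun x hx => hf.apply_mem hx) le_rfl y hy⟩
    obtain ⟨g, hg, h1, h2⟩ := him.exists_inv
    exact ⟨_, F, .refl F p, g, fiso_aut him hg h1 h2⟩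
  | @step U S C D F p hC hD ih =>
    intro _ hfin f hf
    haveI := hfin
    have hU := hD.1.2.2.2.1.1
    have hUfin := Fusion.finite_of_le hU
    have hTU : T ≤ U := le_of_subnormal hC
    obtain ⟨k, f₀, hk, hf₀, he⟩ := invariant_frattini hD.1.2.2 hf hTU
    obtain ⟨T₁, C₁, hC₁, g₁, hi₁⟩ := ih hUfin hf₀
    obtain ⟨l, hl, h1, h2⟩ := hk.exists_inv
    obtain ⟨T₂, C₂, hC₂, hi₂⟩ := subnormal_transport hC₁ hUfin (fiso_invariant hD.1.2.2 hk hl h1 h2)
    refine ⟨T₂, C₂, .step hC₂ hD, g₁ ∘ l, fiso_congr (fiso_trans hi₁ hi₂) (fun x hx => ?_) fun _ _ => rfl⟩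
    exact (he x hx).symm

theorem fiso_isCentral {Ω' : Type*} [Group Ω'] {S' : Subgroup Ω'} {F' : Cfsg.FusionSystem S'}
    {a : Ω → Ω'} {b : Ω' → Ω} (h : FIso F F' a b) {Q : Subgroup Ω} (hQ : F.IsCentral Q) :
    F'.IsCentral (img a Q) := by
  obtain ⟨hQS, hext⟩ := isCentral_iff.mp hQ
  refine isCentral_iff.mpr ⟨h.img_le hQS, fun P f hf => ?_⟩
  obtain ⟨f', hf', he, hfix⟩ := hext _ _ (h.symm.map hf)
  have h1 := h.map hf'
  rw [h.img_sup (h.symm.img_le hf.dom_le) hQS, h.symm.img_img hf.dom_le] at h1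
  refine ⟨_, h1, fun x hx => ?_, fun x hx => ?_⟩
  · simp only [Function.comp_apply]
    rw [he (h.symm.apply_mem_img hx)]
    simp only [Function.comp_apply]
    rw [h.right x (hf.dom_le hx), h.right _ (hf.apply_mem hx)]
  · obtain ⟨y, hy, rfl⟩ := (h.mem_img hQS).mp hx
    simp only [Function.comp_apply]
    rw [h.left y (hQS hy), hfix y hy]

theorem fiso_center [Finite S] {Ω' : Type*} [Group Ω'] {S' : Subgroup Ω'} [Finite S']
    {F' : Cfsg.FusionSystem S'} {a : Ω → Ω'} {b : Ω' → Ω} (h : FIso F F' a b) :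
    F'.center = img a F.center := by
  refine le_antisymm ?_ (le_sSup (fiso_isCentral h (isCentral_center F)))
  have hle : F'.center ≤ S' := (isCentral_center F').1
  have h1 : img b F'.center ≤ F.center := le_sSup (fiso_isCentral h.symm (isCentral_center F'))
  calc F'.center = img a (img b F'.center) := (h.symm.img_img hle).symm
    _ ≤ _ := Fus93.FIso.img_mono h1

theorem fiso_hyperfocal_le {p : ℕ} [Fact p.Prime] {Ω' : Type*} [Group Ω'] {S' : Subgroup Ω'}
    {F' : Cfsg.FusionSystem S'} {a : Ω → Ω'} {b : Ω' → Ω} (h : FIso F F' a b)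
    (hle : F'.hyperfocalSubgroup p ≤ S') :
    F.hyperfocalSubgroup p ≤ img b (F'.hyperfocalSubgroup p) := by
  refine (Subgroup.closure_le _).mpr ?_
  rintro y ⟨P, α, x, hP, hα, rfl⟩
  let c := MulAut.congr (h.imgEquiv hP)
  let ψ : F.autGroup P ≃* F'.autGroup (img a P) :=
    (c.subgroupMap (F.autGroup P)).trans (MulEquiv.subgroupCongr (h.map_autGroup hP))
  have hψ : ψ α ∈ pResidual p (F'.autGroup (img a P)) := by
    rw [← Thompson.map_pResidual_equiv ψ]
    exact ⟨α, hα, rfl⟩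
  have hgen : (a x)⁻¹ * a ((α : MulAut P) x : Ω) ∈ F'.hyperfocalSubgroup p := by
    refine Subgroup.subset_closure ⟨img a P, ψ α, h.imgEquiv hP x, h.img_le hP, hψ, ?_⟩
    show _ = (a x)⁻¹ * ((h.imgEquiv hP ((α : MulAut P) ((h.imgEquiv hP).symm (h.imgEquiv hP x))) : img a P) : Ω')
    rw [MulEquiv.symm_apply_apply, h.coe_imgEquiv]
  refine (h.symm.mem_img hle).mpr ⟨_, hgen, ?_⟩
  rw [h.symm.map_mul _ (S'.inv_mem (h.mem _ (hP x.2))) _ (h.mem _ (hP ((α : MulAut P) x).2)), h.symm.map_inv (h.mem _ (hP x.2)),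
    h.left _ (hP x.2), h.left _ (hP ((α : MulAut P) x).2)]

theorem fiso_quasisimple {p : ℕ} [Fact p.Prime] [Finite S] (hS : IsPGroup p S) {S' : Subgroup Ω}
    [Finite S'] {F' : Cfsg.FusionSystem S'} {a b : Ω → Ω} (h : FIso F F' a b) (hq : F.Quasisimple p) :
    F'.Quasisimple p := by
  classical
  obtain ⟨hsat, hhyp, hfac⟩ := hq
  refine ⟨h.isSaturated hsat, le_antisymm ?_ ?_, fun E' hE' => ?_⟩
  · refine (Subgroup.closure_le _).mpr ?_
    rintro y ⟨P, α, x, hP, -, rfl⟩
    exact S'.mul_mem (S'.inv_mem (hP x.2)) (hP (Subtype.mem _))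
  · have hle : F'.hyperfocalSubgroup p ≤ S' := by
      refine (Subgroup.closure_le _).mpr ?_
      rintro y ⟨P, α, x, hP, -, rfl⟩
      exact S'.mul_mem (S'.inv_mem (hP x.2)) (hP (Subtype.mem _))
    calc S' = img a S := h.img_top.symm
      _ ≤ img a (img b (F'.hyperfocalSubgroup p)) :=
        Fus93.FIso.img_mono (hhyp.ge.trans (fiso_hyperfocal_le h hle))
      _ = _ := h.symm.img_img hle
  have hZ : F.StronglyClosed F.center := stronglyClosed_center F
  have hZS : F.center ≤ S := hZ.1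
  obtain ⟨E, hE⟩ := exists_factor_mk' F hZ
  let π := QuotientGroup.mk' ((F.center).subgroupOf S)
  let π' := QuotientGroup.mk' ((F'.center).subgroupOf S')
  have hcen := fiso_center h
  have hker : ∀ s : S, π' ⟨a s, h.mem s s.2⟩ = 1 ↔ (s : Ω) ∈ F.center := fun s => by
    rw [QuotientGroup.mk'_apply, QuotientGroup.eq_one_iff, Subgroup.mem_subgroupOf, hcen,
      h.apply_mem_img_iff hZS s.2]
  let aH : S →* S' ⧸ (F'.center).subgroupOf S' :=
    MonoidHom.mk' (fun s => π' ⟨a s, h.mem s s.2⟩) fun s t => by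
      rw [← map_mul]
      exact congrArg π' (Subtype.ext (h.map_mul s s.2 t t.2))
  let bH : S' →* S ⧸ (F.center).subgroupOf S :=
    MonoidHom.mk' (fun s => π ⟨b s, h.mem' s s.2⟩) fun s t => by
      rw [← map_mul]
      exact congrArg π (Subtype.ext (h.symm.map_mul s s.2 t t.2))
  let A := QuotientGroup.lift ((F.center).subgroupOf S) aH fun s hs => (hker s).mpr hs
  let B := QuotientGroup.lift ((F'.center).subgroupOf S') bH fun s hs => by
    show π ⟨b s, h.mem' s s.2⟩ = 1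
    rw [QuotientGroup.mk'_apply, QuotientGroup.eq_one_iff, Subgroup.mem_subgroupOf]
    exact h.back_mem hZS (hcen ▸ hs)
  have hA : ∀ s : S, A (π s) = π' ⟨a s, h.mem s s.2⟩ := fun _ => rfl
  have hB : ∀ s : S', B (π' s) = π ⟨b s, h.mem' s s.2⟩ := fun _ => rfl
  have hBA : ∀ x, B (A x) = x := fun x => by
    obtain ⟨s, rfl⟩ := QuotientGroup.mk'_surjective _ x
    rw [hA, hB]
    exact congrArg π (Subtype.ext (h.left s s.2))
  have hAB : ∀ x, A (B x) = x := fun x => by
    obtain ⟨s, rfl⟩ := QuotientGroup.mk'_surjective _ x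
    rw [hB, hA]
    exact congrArg π' (Subtype.ext (h.right s s.2))
  have hmap : FIso E E' A B := by
    refine ⟨fun x _ y _ => map_mul A x y, fun _ _ => trivial, fun _ _ => trivial, fun x _ => hBA x,
      fun x _ => hAB x, ?_, ?_⟩
    · intro P g hg P' hP'
      obtain ⟨φ, hφ, hφg⟩ := hg
      obtain ⟨-, ψ, hψ, hsub, hv, hi, he⟩ := (hE.2.2.2 P φ).mp hφ
      have hpre : img a (preimageAlong π P) = preimageAlong π' P' := by
        ext y
        rw [h.mem_img hsub, mem_preimageAlong]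
        constructor
        · rintro ⟨x, hx, rfl⟩
          obtain ⟨hxS, hxP⟩ := mem_preimageAlong.mp hx
          refine ⟨h.mem x hxS, ?_⟩
          rw [← SetLike.mem_coe, hP']
          exact ⟨_, hxP, hA ⟨x, hxS⟩⟩
        · rintro ⟨hy, hyP⟩
          rw [← SetLike.mem_coe, hP'] at hyP
          obtain ⟨z, hz, hze⟩ := hyP
          refine ⟨b y, mem_preimageAlong.mpr ⟨h.mem' y hy, ?_⟩, h.right y hy⟩
          rw [← hB ⟨y, hy⟩, ← hze, hBA]
          exact hz
      have hm := h.map (isMap_extFun hψ)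
      rw [hpre] at hm
      obtain ⟨χ, hχ, hχe⟩ := hm
      refine IsMap.congr (isMap_extFun ((hE'.2.2.2 P'
        ((A.comp φ).comp ((B.comp P'.subtype).codRestrict P fun y => ?_))).mpr
          ⟨le_top, χ, hχ, preimageAlong_le _ _, fun y => val_mem F' hχ y,
            fun y => (mem_preimageAlong.mp y.2).2, fun y => ?_⟩)) fun y hy => ?_
      · have : (y : S' ⧸ (F'.center).subgroupOf S') ∈ A '' (P : Set _) := hP' ▸ y.2
        obtain ⟨z, hz, hze⟩ := this
        show B (y : S' ⧸ _) ∈ P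
        rw [← hze, hBA]
        exact hz
      · obtain ⟨y, hy⟩ := y
        obtain ⟨hyS, hyP⟩ := mem_preimageAlong.mp hy
        obtain ⟨x, hx, rfl⟩ := (h.mem_img hsub).mp (hpre ▸ hy : y ∈ img a (preimageAlong π P))
        have hxS := hsub hx
        have hBy : B (π' ⟨a x, hyS⟩) = π ⟨x, hxS⟩ :=
          (hB _).trans (congrArg π (Subtype.ext (h.left x hxS)))
        show A (φ ⟨B (π' ⟨a x, hyS⟩), _⟩) = π' ⟨χ ⟨a x, hy⟩, _⟩
        refine (congrArg A ((congrArg φ (Subtype.ext hBy : (_ : P) = ⟨π ⟨x, hxS⟩, hi ⟨x, hx⟩⟩)).trans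
          (he ⟨x, hx⟩))).trans ((hA _).trans (congrArg π' (Subtype.ext ?_)))
        show a (ψ ⟨x, hx⟩) = χ ⟨a x, hy⟩
        rw [hχe]
        simp only [Function.comp_apply, h.left x hxS, extFun_of_mem ψ hx]
      · rw [extFun_of_mem _ hy]
        show A (φ ⟨B y, _⟩) = A (g (B y))
        rw [hφg]
    · intro P' g hg P hP
      obtain ⟨φ, hφ, hφg⟩ := hg
      obtain ⟨-, ψ, hψ, hsub, hv, hi, he⟩ := (hE'.2.2.2 P' φ).mp hφ
      have hpre : img b (preimageAlong π' P') = preimageAlong π P := by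
        ext y
        rw [h.symm.mem_img hsub, mem_preimageAlong]
        constructor
        · rintro ⟨x, hx, rfl⟩
          obtain ⟨hxS, hxP⟩ := mem_preimageAlong.mp hx
          refine ⟨h.mem' x hxS, ?_⟩
          rw [← SetLike.mem_coe, hP]
          exact ⟨_, hxP, hB ⟨x, hxS⟩⟩
        · rintro ⟨hy, hyP⟩
          rw [← SetLike.mem_coe, hP] at hyP
          obtain ⟨z, hz, hze⟩ := hyP
          refine ⟨a y, mem_preimageAlong.mpr ⟨h.mem y hy, ?_⟩, h.left y hy⟩
          rw [← hA ⟨y, hy⟩, ← hze, hAB]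
          exact hz
      have hm := h.symm.map (isMap_extFun hψ)
      rw [hpre] at hm
      obtain ⟨χ, hχ, hχe⟩ := hm
      refine IsMap.congr (isMap_extFun ((hE.2.2.2 P
        ((B.comp φ).comp ((A.comp P.subtype).codRestrict P' fun y => ?_))).mpr
          ⟨le_top, χ, hχ, preimageAlong_le _ _, fun y => val_mem F hχ y,
            fun y => (mem_preimageAlong.mp y.2).2, fun y => ?_⟩)) fun y hy => ?_
      · have : (y : S ⧸ (F.center).subgroupOf S) ∈ B '' (P' : Set _) := hP ▸ y.2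
        obtain ⟨z, hz, hze⟩ := this
        show A (y : S ⧸ _) ∈ P'
        rw [← hze, hAB]
        exact hz
      · obtain ⟨y, hy⟩ := y
        obtain ⟨hyS, hyP⟩ := mem_preimageAlong.mp hy
        obtain ⟨x, hx, rfl⟩ := (h.symm.mem_img hsub).mp (hpre ▸ hy : y ∈ img b (preimageAlong π' P'))
        have hxS := hsub hx
        have hAy : A (π ⟨b x, hyS⟩) = π' ⟨x, hxS⟩ :=
          (hA _).trans (congrArg π' (Subtype.ext (h.right x hxS)))
        show B (φ ⟨A (π ⟨b x, hyS⟩), _⟩) = π ⟨χ ⟨b x, hy⟩, _⟩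
        refine (congrArg B ((congrArg φ (Subtype.ext hAy : (_ : P') = ⟨π' ⟨x, hxS⟩, hi ⟨x, hx⟩⟩)).trans
          (he ⟨x, hx⟩))).trans ((hB _).trans (congrArg π (Subtype.ext ?_)))
        show b (ψ ⟨x, hx⟩) = χ ⟨b x, hy⟩
        rw [hχe]
        simp only [Function.comp_apply, h.right x hxS, extFun_of_mem ψ hx]
      · rw [extFun_of_mem _ hy]
        show B (φ ⟨A y, _⟩) = B (g (A y))
        rw [hφg]
  exact hmap.symm.isSimple (hfac E hE)

/-- The image of a component under a map of the system is a component. -/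
theorem component_image {p : ℕ} [Fact p.Prime] [Finite S] (hS : IsPGroup p S) {T : Subgroup Ω}
    {C : Cfsg.FusionSystem T} (hC : C.IsComponentIn F p) {γ : T →* Ω} (hγ : γ ∈ F.Hom T)
    {E : Cfsg.FusionSystem γ.range} (hE : C.IsFactorSystem ⊥ γ E) : E.IsComponentIn F p := by
  classical
  have hf := isMap_extFun hγ
  have hTS := le_of_subnormal hC.1
  haveI := Fusion.finite_of_le hTS
  obtain ⟨T', C', hC', g, hi⟩ := subnormal_image hC.1 ‹Finite S› hf
  have hT : T' = γ.range := by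
    rw [← hi.img_top]
    ext y
    rw [hi.mem_img le_rfl]
    constructor
    · rintro ⟨x, hx, rfl⟩; exact ⟨⟨x, hx⟩, (extFun_of_mem γ hx).symm⟩
    · rintro ⟨x, rfl⟩; exact ⟨x, x.2, extFun_coe γ x⟩
  subst hT
  have hpre : ∀ P : Subgroup Ω, P ≤ γ.range → preimageAlong γ P = img g P := fun P hP => by
    ext x
    rw [mem_preimageAlong, hi.symm.mem_img hP]
    constructor
    · rintro ⟨hx, hxP⟩
      refine ⟨_, hxP, ?_⟩
      rw [← extFun_of_mem γ hx, hi.left x hx]
    · rintro ⟨y, hy, rfl⟩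
      refine ⟨hi.mem' y (hP hy), ?_⟩
      rw [← extFun_of_mem γ (hi.mem' y (hP hy)), hi.right y (hP hy)]
      exact hy
  have hEC : E = C' := by
    refine fusion_ext fun P => Set.ext fun φ => ?_
    rw [hE.2.2.2 P φ]
    constructor
    · rintro ⟨hP, ψ, hψ, hsub, hv, hin, he⟩
      have h1 := hi.map (isMap_extFun hψ)
      have e : img (extFun γ) (preimageAlong γ P) = P := by rw [hpre P hP]; exact hi.symm.img_img hP
      rw [e] at h1
      refine h1.mem_hom fun y => ?_
      have hyT : (y : Ω) ∈ γ.range := hP y.2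
      obtain ⟨x, hx⟩ := hyT
      have hxm : (x : Ω) ∈ preimageAlong γ P := mem_preimageAlong.mpr ⟨x.2, hx.symm ▸ y.2⟩
      have h2 := he ⟨x, hxm⟩
      rw [show (⟨γ ⟨(x : Ω), hsub hxm⟩, hin ⟨x, hxm⟩⟩ : P) = y from Subtype.ext hx] at h2
      rw [h2]
      simp only [Function.comp_apply]
      rw [← hx, ← extFun_coe γ x, hi.left x x.2, extFun_of_mem ψ hxm, extFun_of_mem γ (hv ⟨x, hxm⟩)]
    · intro hφ
      have hP := (C'.le_of_mem hφ).1
      have h1 := hi.symm.map (isMap_extFun hφ)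
      rw [← hpre P hP] at h1
      obtain ⟨ψ, hψ, hψe⟩ := h1
      refine ⟨hP, ψ, hψ, preimageAlong_le _ _, fun x => val_mem C hψ x,
        fun x => (mem_preimageAlong.mp x.2).2, fun x => ?_⟩
      have hxT : (x : Ω) ∈ T := preimageAlong_le _ _ x.2
      have hval : φ ⟨γ ⟨x, hxT⟩, (mem_preimageAlong.mp x.2).2⟩ ∈ γ.range := (C'.le_of_mem hφ).2 _
      rw [← extFun_of_mem γ (val_mem C hψ x), hψe x]
      simp only [Function.comp_apply]
      rw [extFun_of_mem γ hxT, extFun_of_mem φ (mem_preimageAlong.mp x.2).2, hi.right _ hval]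
  subst hEC
  haveI : Finite γ.range := Fusion.finite_of_le (le_of_subnormal hC')
  exact ⟨hC', fiso_quasisimple (hS.to_le hTS) hi hC.2⟩

end Cfsg.Agent.Fusion91
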