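import Cfsg.Agent.Lib.Fusion.Normal
import Cfsg.Agent.Fusion91.Core

set_option autoImplicit false
set_option linter.style.haveILetI false

/-! An element stabilizing an invariant chain of a centric `O_p(F)` lies in it. -/

namespace Cfsg.Agent.Fusion91

open Cfsg Cfsg.Agent.Fusion
open Cfsg.FusionSystem (normalizerIn centralizerIn)

variable {Ω : Type*} [Group Ω] {S : Subgroup Ω} {F : Cfsg.FusionSystem S} {p : ℕ} [Fact p.Prime]
  [Finite S]

theorem mem_core_of_chain (hS : IsPGroup p S) (hF : F.IsSaturated p) (hc : F.IsCentric F.core)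
    (D : ℕ → Subgroup Ω) (n : ℕ) (hDP : ∀ i, D i ≤ F.core) (h0 : D 0 = ⊥) (hn : D n = F.core)
    (hinv : ∀ i ≤ n, ∀ α ∈ F.autGroup F.core, autFun α '' (D i : Set Ω) = (D i : Set Ω))
    {g : Ω} (hg : g ∈ S) (hstab : ∀ i < n, ∀ x ∈ D (i + 1), x⁻¹ * (g * x * g⁻¹) ∈ D i) :
    g ∈ F.core := by
  have hQn := isNormal_core F
  have hQS : F.core ≤ S := hQn.1
  have hSN : S ≤ normalizerIn S F.core := le_inf le_rfl (Fusion.normal_le_normalizer hQn)
  haveI := Fusion.finite_of_le hQS
  let N := chainStab F D n hinv hDP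
  have hNn : N.Normal := chainStab_normal D n hinv hDP
  have hNp : IsPGroup p N := chainStab_isPGroup (hS.to_le hQS) D n hinv hDP h0 hn
  let R : Subgroup Ω :=
    ((N.map (F.autGroup F.core).subtype).comap (conjAutHom S F.core)).map (normalizerIn S F.core).subtype
  have hRS : R ≤ S := by rintro _ ⟨x, -, rfl⟩; exact x.2.1
  have hRmem : ∀ x ∈ R, ∃ α ∈ N, ∀ q : F.core, ((α : MulAut F.core) q : Ω) = x * q * x⁻¹ := by
    rintro _ ⟨x, ⟨α, hα, hαx⟩, rfl⟩
    refine ⟨α, hα, fun q => ?_⟩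
    have hαx' : (α : MulAut F.core) = conjAutHom S F.core x := hαx
    rw [hαx']
    rfl
  have hRof : ∀ x ∈ S, ∀ α ∈ N, (∀ q : F.core, ((α : MulAut F.core) q : Ω) = x * q * x⁻¹) → x ∈ R := by
    intro x hx α hα h
    exact ⟨⟨x, hSN hx⟩, ⟨α, hα, MulEquiv.ext fun q => Subtype.ext (h q)⟩, rfl⟩
  suffices hR : F.IsNormal R by
    have hgR : g ∈ R := by
      have hm : conjAutHom S F.core ⟨g, hSN hg⟩ ∈ F.autGroup F.core :=
        autInducedBy_le_autGroup hQS (range_conjAutHom S F.core ▸ ⟨_, rfl⟩)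
      refine hRof g hg ⟨_, hm⟩ (fun i hi x hx => ?_) fun q => rfl
      rw [autFun_of_mem _ (hDP _ hx)]
      exact hstab i hi x hx
    exact le_sSup (show R ∈ {Q | F.IsNormal Q} from hR) hgR
  have hcl : F.StronglyClosed R := by
    refine stronglyClosed_iff.mpr ⟨hRS, fun P f hf x hx hxR => ?_⟩
    obtain ⟨α, hα, hαx⟩ := hRmem x hxR
    obtain ⟨f', hf', he, hst⟩ := Fusion.normal_extendsStab hQn hf
    obtain ⟨β, hβ, hβe⟩ := (show IsIso F F.core F.core f' from
      ⟨hf'.mono le_sup_right, hst⟩).exists_aut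
    refine hRof _ (hf.apply_mem hx) _ (hNn.conj_mem α hα ⟨β, hβ⟩) fun q => ?_
    obtain ⟨y, rfl⟩ := β.surjective q
    simp only [Subgroup.coe_mul, Subgroup.coe_inv, MulAut.mul_apply]
    rw [show (β⁻¹ : MulAut F.core) (β y) = y from β.symm_apply_apply y, ← autFun_coe, ← autFun_coe β y,
      hβe (Subtype.mem _), hβe y.2, hαx, ← he hx,
      hf'.map_conj (le_sup_left (b := F.core) hx) (le_sup_right (a := P) y.2)]
  refine isNormal_of_closed_le hS hF hcl fun P hPc hPr => ?_
  have hQP := normal_le_centric_radical hS hQn hPc hPr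
  haveI := Fusion.finite_of_le hPc.1
  refine le_of_normalizer_le hS hPc.1 hRS (hPc.1.trans (stronglyClosed_le_normalizer hcl)) fun x hxR hxP => ?_
  let K : Subgroup (F.autGroup P) :=
    { carrier := {β | ∃ α ∈ N, ∀ q : F.core, autFun (β : MulAut P) q = ((α : MulAut F.core) q : Ω)}
      one_mem' := ⟨1, N.one_mem, fun q => by
        rw [OneMemClass.coe_one, autFun_one (hQP q.2)]; rfl⟩
      mul_mem' := by
        rintro β γ ⟨a, ha, hae⟩ ⟨b, hb, hbe⟩
        refine ⟨a * b, N.mul_mem ha hb, fun q => ?_⟩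
        rw [Subgroup.coe_mul, autFun_mul _ _ (hQP q.2), Function.comp_apply, hbe, hae]
        rfl
      inv_mem' := by
        rintro β ⟨a, ha, hae⟩
        refine ⟨a⁻¹, N.inv_mem ha, fun q => ?_⟩
        obtain ⟨y, rfl⟩ := (a : MulAut F.core).surjective q
        rw [Subgroup.coe_inv, Subgroup.coe_inv,
          show ((a : MulAut F.core)⁻¹) ((a : MulAut F.core) y) = y from (a : MulAut F.core).symm_apply_apply y,
          ← hae, autFun_coe (β : MulAut P) ⟨y, hQP y.2⟩, autFun_coe]
        exact congrArg Subtype.val ((β : MulAut P).symm_apply_apply _) }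
  have hres : ∀ β : F.autGroup P, ∃ b : F.autGroup F.core,
      ∀ q : F.core, autFun (β : MulAut P) q = ((b : MulAut F.core) q : Ω) := by
    intro β
    obtain ⟨f', hf', he, hst⟩ := Fusion.normal_extendsStab hQn ((mem_autGroup hPc.1).mp β.2).1
    obtain ⟨b, hb, hbe⟩ := (show IsIso F F.core F.core f' from ⟨hf'.mono le_sup_right, hst⟩).exists_aut
    exact ⟨⟨b, hb⟩, fun q => (he (hQP q.2)).symm.trans ((hbe q.2).symm.trans (autFun_coe b q))⟩
  have hKn : K.Normal := by
    refine ⟨fun β hβ γ => ?_⟩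
    obtain ⟨a, ha, hae⟩ := hβ
    obtain ⟨c, hc'⟩ := hres γ
    refine ⟨c * a * c⁻¹, hNn.conj_mem a ha c, fun q => ?_⟩
    obtain ⟨y, rfl⟩ := (c : MulAut F.core).surjective q
    simp only [Subgroup.coe_mul, Subgroup.coe_inv, MulAut.mul_apply]
    rw [show ((c : MulAut F.core)⁻¹) ((c : MulAut F.core) y) = y from (c : MulAut F.core).symm_apply_apply y,
      autFun_mul _ _ (hQP (Subtype.mem _)), Function.comp_apply]
    have h1 : autFun ((γ : MulAut P)⁻¹) ((c : MulAut F.core) y : Ω) = y := by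
      rw [← hc', autFun_coe (γ : MulAut P) ⟨y, hQP y.2⟩, autFun_coe]
      exact congrArg Subtype.val ((γ : MulAut P).symm_apply_apply _)
    rw [h1, autFun_mul _ _ (hQP y.2), Function.comp_apply, hae, hc']
  have hKp : IsPGroup p K := by
    intro β
    obtain ⟨a, ha, hae⟩ := β.2
    obtain ⟨k, hk⟩ := hNp ⟨a, ha⟩
    have hpow : ∀ m : ℕ, ∀ q : F.core,
        autFun (((β : F.autGroup P) : MulAut P) ^ m) q = (((a : MulAut F.core) ^ m) q : Ω) := by
      intro m
      induction m with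
      | zero => intro q; rw [pow_zero, pow_zero, autFun_one (hQP q.2)]; rfl
      | succ m ih =>
        intro q
        rw [pow_succ, pow_succ, autFun_mul _ _ (hQP q.2), Function.comp_apply, hae, ih]
        rfl
    have ha1 : (a : MulAut F.core) ^ (p ^ k) = 1 := by
      have := congrArg (fun z : N => ((z : F.autGroup F.core) : MulAut F.core)) hk
      simpa using this
    let E : ℕ → Subgroup Ω := fun i => if i = 0 then ⊥ else if i = 1 then F.core else P
    have hE : ∀ i ≤ 2, ∀ α ∈ F.autGroup P, autFun α '' (E i : Set Ω) = (E i : Set Ω) := by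
      intro i _ α hα
      have hiso := (mem_autGroup hPc.1).mp hα
      dsimp only [E]
      split_ifs
      · simp [hiso.1.map_one]
      · have := closed_autFun_image (stronglyClosed_of_normal hQn) hPc.1 hα
        rwa [inf_eq_left.mpr hQP] at this
      · exact autFun_image α
    have hEP : ∀ i, E i ≤ P := fun i => by
      dsimp only [E]
      split_ifs
      · exact bot_le
      · exact hQP
      · exact le_rfl
    have hmem : (β : F.autGroup P) ^ (p ^ k) ∈ chainStab F E 2 hE hEP := by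
      intro i hi y hy
      rw [Subgroup.coe_pow]
      set d := ((β : F.autGroup P) : MulAut P) ^ (p ^ k) with hd
      have hfix : ∀ q : F.core, autFun d q = q := fun q => by rw [hd, hpow, ha1]; rfl
      interval_cases i
      · show _ ∈ (⊥ : Subgroup Ω)
        rw [Subgroup.mem_bot, hfix ⟨y, hy⟩, inv_mul_cancel]
      · show _ ∈ F.core
        have hyP : y ∈ P := hy
        have hdm : d ∈ F.autGroup P := pow_mem (β : F.autGroup P).2 _
        have hiso := (mem_autGroup hPc.1).mp hdm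
        refine hc.2 _ (isConj_refl hQS) ⟨S.mul_mem (S.inv_mem (hPc.1 hyP)) (hiso.1.apply_mem hyP),
          Subgroup.mem_centralizer_iff.mpr fun q hq => ?_⟩
        have hyq : y * q * y⁻¹ ∈ F.core :=
          conj_mem_of_mem_normalizer (Fusion.normal_le_normalizer hQn (hPc.1 hyP)) hq
        have h2 := hfix ⟨_, hyq⟩
        rw [hiso.1.map_conj hyP (hQP hq), hfix ⟨q, hq⟩] at h2
        calc q * (y⁻¹ * autFun d y) = y⁻¹ * (y * q * y⁻¹) * autFun d y := by group
          _ = y⁻¹ * (autFun d y * q * (autFun d y)⁻¹) * autFun d y := by rw [h2]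
          _ = y⁻¹ * autFun d y * q := by group
    obtain ⟨l, hl⟩ := chainStab_isPGroup (hS.to_le hPc.1) E 2 hE hEP rfl rfl ⟨_, hmem⟩
    refine ⟨k + l, Subtype.ext ?_⟩
    have := congrArg Subtype.val hl
    rw [SubmonoidClass.coe_pow] at this ⊢
    rwa [pow_add, pow_mul]
  have hxS : x ∈ normalizerIn S P := ⟨hRS hxR, hxP⟩
  obtain ⟨a, ha, hae⟩ := hRmem x hxR
  refine mem_of_normal_pSubgroup hPc hPr K hKn hKp hxS
    ⟨conjAutHom S P ⟨x, hxS⟩, autInducedBy_le_autGroup hPc.1 (range_conjAutHom S P ▸ ⟨_, rfl⟩)⟩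
    ⟨a, ha, fun q => ?_⟩ fun q => rfl
  rw [hae q, autFun_of_mem _ (hQP q.2)]
  rfl

end Cfsg.Agent.Fusion91
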