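import Cfsg.Agent.Lib.Fusion.ConstrainedSubnormal
import Cfsg.Agent.Fusion91.CoreRadical

set_option autoImplicit false
set_option linter.style.haveILetI false

/-! Constrained fusion of a group passes to the quotient by the centre. -/

namespace Cfsg.Agent.Fusion91

open Cfsg Cfsg.Agent.Fusion
open Cfsg.FusionSystem (normalizerIn centralizerIn)

universe u

theorem constrained_center_quotient {p : ℕ} [Fact p.Prime] {L : Type u} [Group L] [Finite L]
    (T : Sylow p L) (hF : (Cfsg.groupFusionSystem (T : Subgroup L)).IsConstrained p) :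
    (Cfsg.groupFusionSystem ((T : Subgroup L).map (QuotientGroup.mk' (Subgroup.center L)))).IsConstrained p := by
  classical
  set F := Cfsg.groupFusionSystem (T : Subgroup L) with hFdef
  set π := QuotientGroup.mk' (Subgroup.center L) with hπ
  obtain ⟨hsat, Q₀, hQ₀n, hQ₀c⟩ := hF
  have hQn := isNormal_core F
  have hQT : F.core ≤ (T : Subgroup L) := hQn.1
  have hc : F.IsCentric F.core := by
    refine ⟨hQT, fun R hR => ?_⟩
    obtain ⟨f, hf⟩ := isConj_iff.mp hR
    have hm : ∀ x ∈ F.core, f x ∈ F.core := fun x hx =>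
      (stronglyClosed_iff.mp (stronglyClosed_of_normal hQn)).2 _ f hf.1 x hx hx
    have hRle : F.core ≤ R := fun y hy => by
      obtain ⟨x, hx, rfl⟩ := surjOn_of_card_le hQT hf.1.injOn hm le_rfl y hy
      exact hf.mem hx
    have h0 : Q₀ ≤ F.core := le_sSup (show Q₀ ∈ {Q | F.IsNormal Q} from hQ₀n)
    refine fun x hx => hRle (h0 (hQ₀c.2 Q₀ (isConj_refl hQ₀n.1) ⟨hx.1, ?_⟩))
    exact Subgroup.centralizer_le (fun y hy => hRle (h0 hy)) hx.2
  -- the key property
  have key : ∀ x ∈ (T : Subgroup L), (∀ q ∈ F.core, q⁻¹ * (x * q * x⁻¹) ∈ Subgroup.center L) →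
      x ∈ F.core := by
    intro x hx h
    let D : ℕ → Subgroup L := fun i =>
      if i = 0 then ⊥ else if i = 1 then F.core ⊓ Subgroup.center L else F.core
    refine mem_core_of_chain T.2 hsat hc D 2 (fun i => ?_) rfl rfl ?_ hx ?_
    · dsimp only [D]
      split_ifs
      · exact bot_le
      · exact inf_le_left
      · exact le_rfl
    · intro i _ α hα
      have hiso := (mem_autGroup hQT).mp hα
      dsimp only [D]
      split_ifs
      · simp [hiso.1.map_one]
      · obtain ⟨-, -, g, hg⟩ := isMap_group_iff.mp hiso.1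
        have hcz : ∀ y ∈ F.core, y ∈ Subgroup.center L → autFun α y = y := fun y hy hz => by
          rw [hg y hy, Subgroup.mem_center_iff.mp hz g, mul_inv_cancel_right]
        ext y
        constructor
        · rintro ⟨z, hz, rfl⟩
          rw [hcz z hz.1 hz.2]
          exact hz
        · intro hy
          exact ⟨y, hy, hcz y hy.1 hy.2⟩
      · exact autFun_image α
    · intro i hi q hq
      interval_cases i
      · show _ ∈ (⊥ : Subgroup L)
        have hz : q ∈ Subgroup.center L := (show q ∈ F.core ⊓ Subgroup.center L from hq).2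
        rw [Subgroup.mem_bot, Subgroup.mem_center_iff.mp hz x, mul_inv_cancel_right, inv_mul_cancel]
      · have hq' : q ∈ F.core := hq
        exact ⟨F.core.mul_mem (F.core.inv_mem hq')
          (conj_mem_of_mem_normalizer (Fusion.normal_le_normalizer hQn hx) hq'), h q hq'⟩
  -- the image
  let U : Sylow p (L ⧸ Subgroup.center L) := T.mapSurjective (QuotientGroup.mk'_surjective _)
  have hU : (U : Subgroup (L ⧸ Subgroup.center L)) = (T : Subgroup L).map π := rfl
  rw [← hU]
  have hEs := groupFusionSystem_isSaturated U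
  obtain ⟨n, hn⟩ := exists_zSer_top T.2 hQT
  have hlift : ∀ {g : L} {x t : L}, x ∈ (T : Subgroup L) → t ∈ (T : Subgroup L) →
      π (g * x * g⁻¹) = π t → g * x * g⁻¹ ∈ (T : Subgroup L) := by
    intro g x t hx ht he
    obtain ⟨z, hz, hzt⟩ := (QuotientGroup.mk'_eq_mk' _).mp he.symm
    -- `hzt : t * z = g * x * g⁻¹`
    obtain ⟨a, ha⟩ := T.2 ⟨x, hx⟩
    obtain ⟨b, hb⟩ := T.2 ⟨t, ht⟩
    have hxa : x ^ p ^ (a + b) = 1 := by
      have ha' : x ^ p ^ a = 1 := by simpa using congrArg Subtype.val ha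
      rw [pow_add, pow_mul, ha', one_pow]
    have htb : t ^ p ^ (a + b) = 1 := by
      have hb' : t ^ p ^ b = 1 := by simpa using congrArg Subtype.val hb
      rw [add_comm, pow_add, pow_mul, hb', one_pow]
    have hzp : z ^ p ^ (a + b) = 1 := by
      have h1 : (g * x * g⁻¹) ^ p ^ (a + b) = 1 := by rw [conj_pow, hxa]; group
      have hcomm : Commute t z := Subgroup.mem_center_iff.mp hz t
      rw [← hzt, hcomm.mul_pow, htb, one_mul] at h1
      exact h1
    have hZp : IsPGroup p (Subgroup.zpowers z) := by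
      rintro ⟨y, hy⟩
      obtain ⟨m, rfl⟩ := hy
      refine ⟨a + b, Subtype.ext ?_⟩
      show (z ^ m) ^ (p ^ (a + b)) = 1
      rw [← zpow_natCast, ← zpow_mul, mul_comm, zpow_mul, zpow_natCast, hzp, one_zpow]
    haveI : (Subgroup.zpowers z).Normal := by
      refine ⟨fun y hy g => ?_⟩
      have hyz : y ∈ Subgroup.center L := Subgroup.zpowers_le.mpr hz hy
      rw [Subgroup.mem_center_iff.mp hyz g, mul_inv_cancel_right]
      exact hy
    have hzT : z ∈ (T : Subgroup L) :=
      Thompson.pCore_le_sylow T (Thompson.le_pCore inferInstance hZp (Subgroup.mem_zpowers z))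
    exact hzt ▸ (T : Subgroup L).mul_mem ht hzT
  have hcl : ∀ i, (Cfsg.groupFusionSystem (U : Subgroup (L ⧸ Subgroup.center L))).StronglyClosed
      ((zSer F.core i).map π) := by
    intro i
    have hzT : zSer F.core i ≤ (T : Subgroup L) := (zSer_le _ i).trans hQT
    refine stronglyClosed_iff.mpr ⟨Subgroup.map_mono hzT, fun P f hf y hy hyz => ?_⟩
    obtain ⟨-, hfU, g', hg'⟩ := isMap_group_iff.mp hf
    obtain ⟨g, rfl⟩ := QuotientGroup.mk'_surjective _ g'
    obtain ⟨x, hx, rfl⟩ := hyz
    have h1 : f (π x) ∈ (T : Subgroup L).map π := hfU _ hy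
    obtain ⟨t, ht, hte⟩ := h1
    have h2 : f (π x) = π (g * x * g⁻¹) := by
      rw [hg' _ hy, map_mul, map_mul, map_inv]
    have hgT := hlift (hzT hx) ht (h2.symm.trans hte.symm)
    have hclz := stronglyClosed_of_normal (isNormal_char hQn (zSer_le F.core i) (zSer_subgroupOf_char F.core i))
    have hm : IsMap F (zSer F.core i ⊓ Subgroup.zpowers x) fun y => g * y * g⁻¹ := by
      refine isMap_group_iff.mpr ⟨inf_le_left.trans hzT, fun y hy => ?_, g, fun _ _ => rfl⟩
      obtain ⟨m, rfl⟩ := hy.2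
      show g * x ^ m * g⁻¹ ∈ (T : Subgroup L)
      rw [← conj_zpow]
      exact Subgroup.zpow_mem _ hgT m
    exact ⟨_, (stronglyClosed_iff.mp hclz).2 _ _ hm x ⟨hx, Subgroup.mem_zpowers x⟩ hx, h2.symm⟩
  have hN : (Cfsg.groupFusionSystem (U : Subgroup (L ⧸ Subgroup.center L))).IsNormal (F.core.map π) := by
    refine isNormal_of_series U.2 hEs (fun i => (zSer F.core i).map π) n ?_ ?_ (fun i _ => hcl i) ?_
    · simp [zSer_zero]
    · simp only [hn]
    · intro i _
      rw [← Subgroup.map_commutator]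
      exact Subgroup.map_mono (zSer_commutator F.core i)
  refine ⟨hEs, F.core.map π, hN, hN.1, fun R hR => ?_⟩
  obtain ⟨f, hf⟩ := isConj_iff.mp hR
  have hm : ∀ x ∈ F.core.map π, f x ∈ F.core.map π := fun x hx =>
    (stronglyClosed_iff.mp (stronglyClosed_of_normal hN)).2 _ f hf.1 x hx hx
  have hRle : F.core.map π ≤ R := fun y hy => by
    obtain ⟨x, hx, rfl⟩ := surjOn_of_card_le hN.1 hf.1.injOn hm le_rfl y hy
    exact hf.mem hx
  rintro y ⟨⟨x, hx, rfl⟩, hyc⟩
  refine hRle ⟨x, key x hx fun q hq => ?_, rfl⟩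
  have h1 := Subgroup.mem_centralizer_iff.mp hyc (π q) (hRle ⟨q, hq, rfl⟩)
  rw [← QuotientGroup.eq_one_iff]
  show π (q⁻¹ * (x * q * x⁻¹)) = 1
  rw [map_mul, map_mul, map_mul, map_inv, map_inv, ← h1, mul_inv_cancel_right, inv_mul_cancel]

theorem component_quotient_constrained {G : Type u} [Group G] [Finite G] (S : Sylow 2 G)
    (hF : (Cfsg.groupFusionSystem (S : Subgroup G)).IsConstrained 2) (L : Subgroup G) (hL : Cfsg.IsComponent L) :
    (Cfsg.groupFusionSystem (((S : Subgroup G).subgroupOf L).map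
      (QuotientGroup.mk' (Subgroup.center L)))).IsConstrained 2 := by
  haveI : Fact (Nat.Prime 2) := ⟨Nat.prime_two⟩
  obtain ⟨T, hT, hTc⟩ := isConstrained_of_subnormal S hF hL.1
  rw [← hT]
  exact constrained_center_quotient T hTc

end Cfsg.Agent.Fusion91
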