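import Cfsg.Prelude.Def_TwoFusion
import Cfsg.Agent.Lib.Fusion.Saturation
import Cfsg.Agent.Fus93.Iso
import Cfsg.Agent.Lib.Fusion.Invariant

set_option autoImplicit false
set_option linter.style.haveILetI false

/-! Strongly closed direct factors of a saturated system. -/

namespace Cfsg.Agent.Fusion91.Direct

open Cfsg Cfsg.Agent.Fusion
open Cfsg.FusionSystem (normalizerIn centralizerIn)

variable {Ω : Type*} [Group Ω] {S : Subgroup Ω} {F : Cfsg.FusionSystem S}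

theorem mem_of_sup {A B C : Subgroup Ω} {f : Ω → Ω} (h : IsMap F (A ⊔ B) f)
    (hA : ∀ x ∈ A, f x ∈ C) (hB : ∀ x ∈ B, f x ∈ C) : ∀ x ∈ A ⊔ B, f x ∈ C := by
  obtain ⟨φ, -, hφ⟩ := h
  have h1 : A ⊔ B ≤ (C.comap φ).map (A ⊔ B).subtype := by
    refine sup_le (fun x hx => ?_) fun x hx => ?_
    · exact ⟨⟨x, le_sup_left (b := B) hx⟩, by
        show φ _ ∈ C
        rw [hφ]
        exact hA x hx, rfl⟩
    · exact ⟨⟨x, le_sup_right (a := A) hx⟩, by
        show φ _ ∈ C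
        rw [hφ]
        exact hB x hx, rfl⟩
  intro x hx
  obtain ⟨y, hy, rfl⟩ := h1 hx
  exact hφ y ▸ hy

theorem exists_decomp {A B : Subgroup Ω} (h : ∀ a ∈ A, ∀ b ∈ B, a * b = b * a) {x : Ω}
    (hx : x ∈ A ⊔ B) : ∃ a ∈ A, ∃ b ∈ B, x = a * b := by
  let C : Subgroup Ω :=
    { carrier := {x | ∃ a ∈ A, ∃ b ∈ B, x = a * b}
      one_mem' := ⟨1, A.one_mem, 1, B.one_mem, (mul_one 1).symm⟩
      mul_mem' := by
        rintro _ _ ⟨a, ha, b, hb, rfl⟩ ⟨c, hc, d, hd, rfl⟩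
        refine ⟨a * c, A.mul_mem ha hc, b * d, B.mul_mem hb hd, ?_⟩
        rw [mul_assoc, ← mul_assoc b, ← h c hc b hb]
        group
      inv_mem' := by
        rintro _ ⟨a, ha, b, hb, rfl⟩
        refine ⟨a⁻¹, A.inv_mem ha, b⁻¹, B.inv_mem hb, ?_⟩
        rw [mul_inv_rev, h _ (A.inv_mem ha) _ (B.inv_mem hb)] }
  have : A ⊔ B ≤ C := sup_le (fun a ha => ⟨a, ha, 1, B.one_mem, (mul_one a).symm⟩)
    fun b hb => ⟨1, A.one_mem, b, hb, (one_mul b).symm⟩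
  exact this hx

theorem fullyAutomized_sub {T : Subgroup Ω} {E : Cfsg.FusionSystem T} {p : ℕ} {Q : Subgroup Ω}
    (hQT : Q ≤ T) (hle : E.autGroup Q ≤ F.autGroup Q) (hind : autInducedBy T Q = autInducedBy S Q)
    (hF : F.IsFullyAutomized p Q) : E.IsFullyAutomized p Q := by
  obtain ⟨-, R, hR⟩ := hF
  refine ⟨hQT, ?_⟩
  rw [hind]
  have hA : autInducedBy S Q ≤ E.autGroup Q := hind ▸ autInducedBy_le_autGroup hQT
  let i := Subgroup.inclusion hle
  have hi : Function.Injective i := Subgroup.inclusion_injective hle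
  have hmap : ((autInducedBy S Q).subgroupOf (E.autGroup Q)).map i = (R : Subgroup (F.autGroup Q)) := by
    rw [hR]
    ext α
    constructor
    · rintro ⟨β, hβ, rfl⟩
      exact hβ
    · intro hα
      exact ⟨⟨α, hA hα⟩, hα, Subtype.ext rfl⟩
  refine ⟨⟨(autInducedBy S Q).subgroupOf (E.autGroup Q), ?_, fun {K} hK hle' => ?_⟩, rfl⟩
  · refine IsPGroup.of_injective ?_ (Subgroup.equivMapOfInjective _ i hi).toMonoidHom (MulEquiv.injective _)
    rw [hmap]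
    exact R.2
  · refine Subgroup.map_injective hi ?_
    rw [hmap]
    exact R.3 (hK.map i) (hmap ▸ Subgroup.map_mono hle')

variable {p : ℕ} [Fact p.Prime] [Finite S] {S₁ S₂ : Subgroup Ω}

omit [Finite S] in
theorem comm_mem {hprod : Cfsg.IsInternalDirectProduct S₁ S₂ S} {P : Subgroup Ω} (hP : P ≤ S₁) :
    S₂ ≤ centralizerIn S P :=
  le_inf hprod.2.1 fun b hb => Subgroup.mem_centralizer_iff.mpr fun a ha => hprod.2.2.1 a (hP ha) b hb

omit [Finite S] in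
theorem autInduced_eq (hprod : Cfsg.IsInternalDirectProduct S₁ S₂ S) {P : Subgroup Ω} (hP : P ≤ S₁) :
    autInducedBy S₁ P = autInducedBy S P := by
  refine le_antisymm (autInducedBy_mono hprod.1) fun α hα => ?_
  obtain ⟨g, hg, hgα⟩ := mem_autInducedBy.mp hα
  obtain ⟨a, ha, b, hb, rfl⟩ := exists_decomp hprod.2.2.1 (hprod.2.2.2.2.symm ▸ hg)
  refine mem_autInducedBy.mpr ⟨a, ha, fun x => ?_⟩
  rw [hgα x]
  have h := hprod.2.2.1 x (hP x.2) b hb
  calc a * b * (x : Ω) * (a * b)⁻¹ = a * (b * x) * b⁻¹ * a⁻¹ := by group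
    _ = a * (x * b) * b⁻¹ * a⁻¹ := by rw [h]
    _ = a * x * a⁻¹ := by group

theorem image_closed {T : Subgroup Ω} (hT : F.StronglyClosed T) {M : Subgroup Ω} {a : Ω → Ω}
    (ha : IsMap F M a) (hTM : T ≤ M) : a '' (T : Set Ω) = T := by
  have hm : ∀ x ∈ T, a x ∈ T := fun x hx => (stronglyClosed_iff.mp hT).2 M a ha x (hTM hx) hx
  refine Set.Subset.antisymm (by rintro _ ⟨x, hx, rfl⟩; exact hm x hx) fun y hy => ?_
  exact surjOn_of_card_le hT.1 (ha.injOn.mono hTM) hm le_rfl y hy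

theorem exists_fn {P' : Subgroup Ω} (hP : P' ≤ S) : ∃ Q f, F.IsFullyNormalized Q ∧ IsIso F P' Q f := by
  obtain ⟨Q, hPQ, hQ⟩ := exists_fullyNormalized hP
  obtain ⟨f, hf⟩ := isConj_iff.mp hPQ
  exact ⟨Q, f, hQ, hf⟩

theorem extendsStab_factor (hS : IsPGroup p S) (hF : F.IsSaturated p)
    (hprod : Cfsg.IsInternalDirectProduct S₁ S₂ S) (h₁ : F.StronglyClosed S₁) (h₂ : F.StronglyClosed S₂)
    {P : Subgroup Ω} {f : Ω → Ω} (hf : IsMap F P f) (hP : P ≤ S₁) : ExtendsStab F S₂ P f := by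
  obtain ⟨Q, hfQ⟩ := hf.exists_image
  have hQ : Q ≤ S₁ := fun y hy => by
    obtain ⟨x, hx, rfl⟩ := hfQ.exists_preimage hy
    exact (stronglyClosed_iff.mp h₁).2 _ _ hf x hx (hP hx)
  obtain ⟨Q₀, β, hQ₀, hβ⟩ := exists_fn (F := F) hfQ.cod_le
  have hr := receptive_of_fullyNormalized hS hF hQ₀
  obtain ⟨b, hb, hbe⟩ := receptive_extend hr hβ (isExtendable_centralizerIn β)
  obtain ⟨a, ha, hae⟩ := receptive_extend hr (hfQ.comp hβ) (isExtendable_centralizerIn (β ∘ f))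
  have hbm : IsMap F (Q ⊔ S₂) b := hb.mono (sup_le_sup_left (comm_mem (hprod := hprod) hQ) _)
  have ham : IsMap F (P ⊔ S₂) a := ha.mono (sup_le_sup_left (comm_mem (hprod := hprod) hP) _)
  obtain ⟨I, hI⟩ := hbm.exists_image
  obtain ⟨bi, hbi, hbl, hbr⟩ := hI.exists_inv
  have hbS₂ := image_closed h₂ hbm le_sup_right
  have hmem : ∀ x ∈ P ⊔ S₂, a x ∈ I := by
    refine mem_of_sup ham (fun x hx => ?_) fun x hx => ?_
    · rw [hae hx, Function.comp_apply, ← hbe (hfQ.mem hx)]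
      exact hI.mem (le_sup_left (b := S₂) (hfQ.mem hx))
    · have : a x ∈ b '' (S₂ : Set Ω) := by
        rw [hbS₂]
        exact (stronglyClosed_iff.mp h₂).2 _ _ ham x (le_sup_right (a := P) hx) hx
      obtain ⟨y, hy, hye⟩ := this
      rw [← hye]
      exact hI.mem (le_sup_right (a := Q) hy)
  have hm : IsMap F (P ⊔ S₂) (bi ∘ a) := ham.comp hbi.1 hmem
  refine ⟨_, hm, fun x hx => ?_, image_closed h₂ hm le_sup_right⟩
  rw [Function.comp_apply, hae hx, Function.comp_apply, ← hbe (hfQ.mem hx),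
    hbl _ (le_sup_left (b := S₂) (hfQ.mem hx))]

theorem exists_aut_ext (hS : IsPGroup p S) (hF : F.IsSaturated p)
    (hprod : Cfsg.IsInternalDirectProduct S₁ S₂ S) (h₂ : F.StronglyClosed S₂) {β : Ω → Ω}
    (hβ : IsIso F S₂ S₂ β) : ∃ k, IsIso F S S k ∧ Set.EqOn k β S₂ := by
  have hfn : F.IsFullyNormalized S₂ := by
    refine ⟨h₂.1, fun Q hQ => ?_⟩
    obtain ⟨u, hu⟩ := isConj_iff.mp hQ
    have : Q = S₂ := SetLike.coe_injective (hu.2.symm.trans (image_closed h₂ hu.1 le_rfl))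
    rw [this]
  obtain ⟨k, hk, hke⟩ := receptive_extend (receptive_of_fullyNormalized hS hF hfn) hβ
    (isExtendable_centralizerIn β)
  have hle : S ≤ S₂ ⊔ centralizerIn S S₂ := by
    conv_lhs => rw [← hprod.2.2.2.2]
    refine sup_le (fun a ha => le_sup_right (a := S₂) ⟨hprod.1 ha, ?_⟩) le_sup_left
    exact Subgroup.mem_centralizer_iff.mpr fun b hb => (hprod.2.2.1 a ha b hb).symm
  have hk' := hk.mono hle
  refine ⟨k, ⟨hk', Set.Subset.antisymm ?_ fun y hy => ?_⟩, hke⟩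
  · rintro _ ⟨x, hx, rfl⟩
    exact hk'.apply_mem hx
  · exact surjOn_of_card_le le_rfl hk'.injOn (fun x hx => hk'.apply_mem hx) le_rfl y hy

theorem fullyNormalized_sup (hprod : Cfsg.IsInternalDirectProduct S₁ S₂ S) (h₁ : F.StronglyClosed S₁)
    (h₂ : F.StronglyClosed S₂) {Q : Subgroup Ω} (hQ₁ : Q ≤ S₁) (hQ : F.IsFullyNormalized Q) :
    F.IsFullyNormalized (Q ⊔ S₂) := by
  refine ⟨sup_le hQ.1 hprod.2.1, fun W hW => ?_⟩
  obtain ⟨u, hu⟩ := isConj_iff.mp hW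
  obtain ⟨Q', hQ'⟩ := (hu.1.mono (le_sup_left : Q ≤ Q ⊔ S₂)).exists_image
  have hu₂ := image_closed h₂ hu.1 le_sup_right
  have hQ'₁ : Q' ≤ S₁ := fun y hy => by
    obtain ⟨x, hx, rfl⟩ := hQ'.exists_preimage hy
    exact (stronglyClosed_iff.mp h₁).2 _ _ hQ'.1 x hx (hQ₁ hx)
  have hWS₁ : ∀ y, y ∈ Q' ↔ y ∈ W ∧ y ∈ S₁ := by
    intro y
    constructor
    · intro hy
      obtain ⟨x, hx, rfl⟩ := hQ'.exists_preimage hy
      exact ⟨hu.mem (le_sup_left (b := S₂) hx), hQ'₁ hy⟩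
    · rintro ⟨hyW, hy₁⟩
      obtain ⟨x, hx, rfl⟩ := hu.exists_preimage hyW
      obtain ⟨q, hq, s, hs, rfl⟩ := exists_decomp (fun a ha b hb => hprod.2.2.1 a (hQ₁ ha) b hb) hx
      rw [hu.1.map_mul (le_sup_left (b := S₂) hq) (le_sup_right (a := Q) hs)] at hy₁ ⊢
      have h2 : u s ∈ S₁ ⊓ S₂ := ⟨by
          have := S₁.mul_mem (S₁.inv_mem (hQ'₁ (hQ'.mem hq))) hy₁
          rwa [inv_mul_cancel_left] at this,
        (stronglyClosed_iff.mp h₂).2 _ _ hu.1 s (le_sup_right (a := Q) hs) hs⟩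
      rw [hprod.2.2.2.1, Subgroup.mem_bot] at h2
      rw [h2, mul_one]
      exact hQ'.mem hq
  have hN₁ : ∀ g ∈ S, ∀ y, (g * y * g⁻¹ ∈ S₁ ↔ y ∈ S₁) := by
    have key : ∀ g ∈ S, ∀ y ∈ S₁, g * y * g⁻¹ ∈ S₁ := fun g hg y hy =>
      (stronglyClosed_iff.mp h₁).2 S₁ _ (isMap_conj h₁.1 hg) y hy hy
    intro g hg y
    refine ⟨fun h => ?_, key g hg y⟩
    have := key g⁻¹ (S.inv_mem hg) _ h
    simpa [mul_assoc] using this
  have hle₁ : normalizerIn S W ≤ normalizerIn S Q' := fun g hg => ⟨hg.1,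
    Subgroup.mem_normalizer_iff.mpr fun y => by
      show y ∈ Q' ↔ g * y * g⁻¹ ∈ Q'
      rw [hWS₁, hWS₁, hN₁ g hg.1 y]
      exact and_congr_left fun _ => Subgroup.mem_normalizer_iff.mp hg.2 y⟩
  have hle₂ : normalizerIn S Q ≤ normalizerIn S (Q ⊔ S₂) := fun g hg => by
    refine ⟨hg.1, ?_⟩
    have key : ∀ g ∈ normalizerIn S Q, ∀ y ∈ Q ⊔ S₂, g * y * g⁻¹ ∈ Q ⊔ S₂ := fun g hg => by
      refine mem_of_sup (F := F) (isMap_conj (sup_le hQ.1 hprod.2.1) hg.1) (fun x hx => ?_) fun x hx => ?_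
      · exact le_sup_left (b := S₂) ((Subgroup.mem_normalizer_iff.mp hg.2 x).mp hx)
      · exact le_sup_right (a := Q)
          ((stronglyClosed_iff.mp h₂).2 S₂ _ (isMap_conj h₂.1 hg.1) x hx hx)
    refine Subgroup.mem_normalizer_iff.mpr fun y => ⟨key g hg y, fun h => ?_⟩
    have := key g⁻¹ (inv_mem hg) _ h
    simpa [mul_assoc] using this
  haveI : Finite (normalizerIn S Q') := Fusion.finite_of_le inf_le_left
  haveI : Finite (normalizerIn S (Q ⊔ S₂)) := Fusion.finite_of_le inf_le_left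
  exact ((Subgroup.card_le_of_le hle₁).trans (hQ.2 Q' hQ'.isConj)).trans (Subgroup.card_le_of_le hle₂)

section main

variable (hS : IsPGroup p S) (hF : F.IsSaturated p) (hprod : Cfsg.IsInternalDirectProduct S₁ S₂ S)
  (h₁ : F.StronglyClosed S₁) (h₂ : F.StronglyClosed S₂) {R R' : Cfsg.FusionSystem S₁}
  (hR : ∀ P : Subgroup Ω, P ≤ S₁ → R.Hom P = F.Hom P)
  (hR' : ∀ P : Subgroup Ω, P ≤ S₁ → R'.Hom P = F.centralizerHom S₂ P)

include hR in
omit [Finite S] in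
theorem isMap_R {P : Subgroup Ω} {f : Ω → Ω} : IsMap R P f ↔ IsMap F P f ∧ P ≤ S₁ :=
  ⟨fun h => ⟨h.of_subset (hR P h.dom_le).le, h.dom_le⟩, fun h => h.1.of_subset (hR P h.2).ge⟩

include hprod h₁ hR' in
omit [Finite S] in
theorem isMap_R' {P : Subgroup Ω} {f : Ω → Ω} : IsMap R' P f ↔ P ≤ S₁ ∧ ExtendsFix F S₂ P f := by
  have hC : S₁ ≤ centralizerIn S S₂ := le_inf hprod.1 fun a ha =>
    Subgroup.mem_centralizer_iff.mpr fun b hb => (hprod.2.2.1 a ha b hb).symm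
  constructor
  · intro h
    obtain ⟨φ, hφ, hφf⟩ := id h
    rw [hR' P h.dom_le] at hφ
    exact ⟨h.dom_le, ((mem_centralizerHom hφf).mp hφ).2.2.2⟩
  · rintro ⟨hP, hf⟩
    obtain ⟨f', hf', he, hfix⟩ := id hf
    have hm : IsMap F P f := (hf'.mono le_sup_left).congr he
    obtain ⟨φ, -, hφf⟩ := id hm
    refine ⟨φ, ?_, hφf⟩
    rw [hR' P hP]
    exact (mem_centralizerHom hφf).mpr
      ⟨hm, hP.trans hC, fun x hx => hC ((stronglyClosed_iff.mp h₁).2 _ _ hm x hx (hP hx)), hf⟩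

include hprod h₁ hR' in
omit [Finite S] in
theorem isMap_of_R' {P : Subgroup Ω} {f : Ω → Ω} (h : IsMap R' P f) : IsMap F P f := by
  obtain ⟨f', hf', he, -⟩ := ((isMap_R' hprod h₁ hR').mp h).2
  exact (hf'.mono le_sup_left).congr he

include hS hF hprod h₁ hR in
theorem saturated_R : R.IsSaturated p := by
  intro P hP
  obtain ⟨Q, f, hQ, hf⟩ := exists_fn (F := F) (hP.trans hprod.1)
  have hQ₁ : Q ≤ S₁ := fun y hy => by
    obtain ⟨x, hx, rfl⟩ := hf.exists_preimage hy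
    exact (stronglyClosed_iff.mp h₁).2 _ _ hf.1 x hx (hP hx)
  refine ⟨Q, IsIso.isConj ⟨(isMap_R hR).mpr ⟨hf.1, hP⟩, hf.2⟩,
    fullyAutomized_sub hQ₁ (autGroup_mono (hR Q hQ₁).le) (autInduced_eq hprod hQ₁)
      (fullyAutomized_of_fullyNormalized hS hF hQ),
    isReceptive_of hQ₁ fun P' g hg M hPM hM => ?_⟩
  obtain ⟨g', hg', he⟩ := receptive_extend (receptive_of_fullyNormalized hS hF hQ)
    (⟨((isMap_R hR).mp hg.1).1, hg.2⟩ : IsIso F P' Q g)
    (⟨hM.1.trans hprod.1, fun x hx => by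
      obtain ⟨h1, y, hy, H⟩ := hM.2 x hx
      exact ⟨h1, y, hprod.1 hy, H⟩⟩ : IsExtendable S P' g M)
  exact ⟨g', (isMap_R hR).mpr ⟨hg'.mono le_sup_right, hM.1⟩, he⟩

include hS hF hprod h₁ h₂ hR' in
theorem saturated_R' : R'.IsSaturated p := by
  intro P hP
  obtain ⟨Q₀, f, hQ₀, hf⟩ := exists_fn (F := F) (hP.trans hprod.1)
  obtain ⟨a, ha, hae, hastab⟩ := extendsStab_factor hS hF hprod h₁ h₂ hf.1 hP
  obtain ⟨k, hk, hke⟩ := exists_aut_ext hS hF hprod h₂ ⟨ha.mono le_sup_right, hastab⟩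
  obtain ⟨ki, hki, hkl, hkr⟩ := hk.exists_inv
  have hm : IsMap F (P ⊔ S₂) (ki ∘ a) := ha.comp hki.1 fun x hx => ha.apply_mem hx
  have hfix : ∀ x ∈ S₂, (ki ∘ a) x = x := fun x hx => by
    rw [Function.comp_apply, ← hke hx, hkl x (hprod.2.1 hx)]
  have hmap : IsMap R' P (ki ∘ f) :=
    (isMap_R' hprod h₁ hR').mpr ⟨hP, ki ∘ a, hm, fun x hx => congrArg ki (hae hx), hfix⟩
  obtain ⟨Q, hQiso⟩ := hmap.exists_image
  have hQ₁ : Q ≤ S₁ := hQiso.cod_le
  have hkiQ : IsIso F Q₀ Q ki := ⟨hki.1.mono hQ₀.1, by rw [← hQiso.2, Set.image_comp, hf.2]⟩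
  have hQ : F.IsFullyNormalized Q := by
    refine ⟨hkiQ.cod_le, fun W hW => (hQ₀.2 W (Fusion.isConj_trans hkiQ.isConj hW)).trans ?_⟩
    refine card_le_of_injOn inf_le_left (hki.1.injOn.mono fun x hx => hx.1) fun x hx => ?_
    exact map_mem_normalizer hki.1 hQ₀.1 hkiQ.2 hx.1 hx.2
  refine ⟨Q, hQiso.isConj, fullyAutomized_sub hQ₁ ?_ (autInduced_eq hprod hQ₁)
    (fullyAutomized_of_fullyNormalized hS hF hQ), isReceptive_of hQ₁ fun P' g hg M hPM hM => ?_⟩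
  · exact autGroup_mono fun φ hφ => (isMap_of_R' hprod h₁ hR' (isMap_extFun hφ)).mem_hom
      fun x => (extFun_coe φ x).symm
  obtain ⟨hP', g', hg', hge, hgfix⟩ := (isMap_R' hprod h₁ hR').mp hg.1
  have hiso : IsIso F (P' ⊔ S₂) (Q ⊔ S₂) g' := by
    have hin : ∀ x ∈ P' ⊔ S₂, g' x ∈ Q ⊔ S₂ := mem_of_sup hg'
      (fun x hx => hge hx ▸ le_sup_left (b := S₂) (hg.mem hx))
      fun x hx => (hgfix x hx).symm ▸ le_sup_right (a := Q) hx
    refine ⟨hg', Set.Subset.antisymm (by rintro _ ⟨x, hx, rfl⟩; exact hin x hx) fun y hy => ?_⟩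
    obtain ⟨q, hq, s, hs, rfl⟩ := exists_decomp (fun a ha b hb => hprod.2.2.1 a (hQ₁ ha) b hb) hy
    obtain ⟨x, hx, rfl⟩ := hg.exists_preimage hq
    refine ⟨x * s, mul_mem (le_sup_left (b := S₂) hx) (le_sup_right (a := P') hs), ?_⟩
    rw [hg'.map_mul (le_sup_left (b := S₂) hx) (le_sup_right (a := P') hs), hge hx, hgfix s hs]
  have hM' : IsExtendable S (P' ⊔ S₂) g' M := by
    refine ⟨hM.1.trans hprod.1, fun x hx => ?_⟩
    obtain ⟨hxN, y, hy, H⟩ := hM.2 x hx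
    have hcx : ∀ s ∈ S₂, x * s * x⁻¹ = s := fun s hs => by
      rw [hprod.2.2.1 x (hM.1 hx) s hs, mul_inv_cancel_right]
    have hcy : ∀ s ∈ S₂, y * s * y⁻¹ = s := fun s hs => by
      rw [hprod.2.2.1 y hy s hs, mul_inv_cancel_right]
    have hmm : ∀ z ∈ P' ⊔ S₂, x * z * x⁻¹ ∈ P' ⊔ S₂ ∧ g' (x * z * x⁻¹) = y * g' z * y⁻¹ := by
      intro z hz
      obtain ⟨q, hq, s, hs, rfl⟩ := exists_decomp (fun a ha b hb => hprod.2.2.1 a (hP' ha) b hb) hz
      have hq' := conj_mem_of_mem_normalizer hxN hq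
      have e : x * (q * s) * x⁻¹ = (x * q * x⁻¹) * s := by
        conv_rhs => rw [← hcx s hs]
        group
      rw [e]
      refine ⟨mul_mem (le_sup_left (b := S₂) hq') (le_sup_right (a := P') hs), ?_⟩
      rw [hg'.map_mul (le_sup_left (b := S₂) hq') (le_sup_right (a := P') hs),
        hg'.map_mul (le_sup_left (b := S₂) hq) (le_sup_right (a := P') hs), hge hq', hge hq, H q hq,
        hgfix s hs]
      conv_lhs => rw [← hcy s hs]
      group
    refine ⟨?_, y, hprod.1 hy, fun z hz => (hmm z hz).2⟩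
    haveI := Fusion.finite_of_le hg'.dom_le
    exact Subgroup.mem_normalizer_iff.mpr fun z => ⟨fun hz => (hmm z hz).1, fun hz => by
      obtain ⟨w, hw⟩ := (Finite.injective_iff_surjective.mp
        (show Function.Injective (fun z : (P' ⊔ S₂ : Subgroup Ω) =>
          (⟨x * z * x⁻¹, (hmm z z.2).1⟩ : (P' ⊔ S₂ : Subgroup Ω))) from fun a b hab =>
          Subtype.ext (mul_left_cancel (mul_right_cancel (congrArg Subtype.val hab))))) ⟨_, hz⟩
      rw [← mul_left_cancel (mul_right_cancel (congrArg Subtype.val hw))]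
      exact w.2⟩
  obtain ⟨ψ, hψ, hψe⟩ := receptive_extend
    (receptive_of_fullyNormalized hS hF (fullyNormalized_sup hprod h₁ h₂ hQ₁ hQ)) hiso hM'
  refine ⟨ψ, (isMap_R' hprod h₁ hR').mpr ⟨hM.1, ψ, hψ.mono
    (sup_le le_sup_right (le_sup_right.trans le_sup_left)), fun _ _ => rfl, fun x hx => ?_⟩,
    fun x hx => ?_⟩
  · rw [hψe (le_sup_right (a := P') hx), hgfix x hx]
  · rw [hψe (le_sup_left (b := S₂) hx), hge hx]

include hS hF hprod h₁ h₂ hR' in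
theorem R'_invariant : R'.IsInvariantIn F := by
  refine Fus93.isInvariantIn_of
    (fun P φ hφ => (isMap_of_R' hprod h₁ hR' (isMap_extFun hφ)).mem_hom fun x => (extFun_coe φ x).symm)
    h₁ ?_ ?_
  · intro P f hf k hk P' hP'
    obtain ⟨hP, f', hf', hfe, hfix⟩ := (isMap_R' hprod h₁ hR').mp hf
    obtain ⟨K, hK, hKe, hKstab⟩ := extendsStab_factor hS hF hprod h₁ h₂ hk.1 le_rfl
    have hsup : S₁ ⊔ S₂ = S := hprod.2.2.2.2
    have hKS : IsIso F S S K := by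
      refine ⟨hsup ▸ hK, Set.Subset.antisymm ?_ fun y hy => ?_⟩
      · rintro _ ⟨x, hx, rfl⟩
        exact hK.apply_mem (hsup.symm ▸ hx)
      · exact surjOn_of_card_le le_rfl (hsup ▸ hK.injOn : Set.InjOn K S)
          (fun x hx => hK.apply_mem (hsup.symm ▸ hx)) le_rfl y hy
    obtain ⟨Ki, hKi, hKl, hKr⟩ := hKS.exists_inv
    have hP'le : P' ≤ S₁ := fun y hy => by
      obtain ⟨x, hx, rfl⟩ := (Set.ext_iff.mp hP' y).mp hy
      exact hk.mem (hP hx)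
    have hKix : ∀ x ∈ P, Ki (k x) = x := fun x hx => by rw [← hKe (hP hx), hKl x (hprod.1 (hP hx))]
    have hKiS₂ : ∀ s ∈ S₂, ∃ t ∈ S₂, Ki s = t ∧ K t = s := fun s hs => by
      obtain ⟨t, ht, rfl⟩ := (Set.ext_iff.mp hKstab s).mpr hs
      exact ⟨t, ht, hKl t (hprod.2.1 ht), rfl⟩
    have hm : IsMap F (P' ⊔ S₂) (K ∘ f' ∘ Ki) := by
      have hKim : IsMap F (P' ⊔ S₂) Ki := hKi.1.mono (sup_le (hP'le.trans hprod.1) hprod.2.1)
      refine (hKim.comp hf' (mem_of_sup hKim (fun y hy => ?_) fun y hy => ?_)).comp hKS.1 fun y hy => ?_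
      · obtain ⟨x, hx, rfl⟩ := (Set.ext_iff.mp hP' y).mp hy
        rw [hKix x hx]
        exact le_sup_left (b := S₂) hx
      · obtain ⟨t, ht, h1, -⟩ := hKiS₂ y hy
        exact h1.symm ▸ le_sup_right (a := P) ht
      · refine hf'.apply_mem ?_
        refine mem_of_sup hKim (fun y hy => ?_) (fun y hy => ?_) y hy
        · obtain ⟨x, hx, rfl⟩ := (Set.ext_iff.mp hP' y).mp hy
          rw [hKix x hx]
          exact le_sup_left (b := S₂) hx
        · obtain ⟨t, ht, h1, -⟩ := hKiS₂ y hy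
          exact h1.symm ▸ le_sup_right (a := P) ht
    refine ⟨K ∘ f' ∘ Ki, (isMap_R' hprod h₁ hR').mpr ⟨hP'le, _, hm, fun _ _ => rfl, fun s hs => ?_⟩,
      fun x hx => ?_⟩
    · obtain ⟨t, ht, h1, h2⟩ := hKiS₂ s hs
      simp only [Function.comp_apply]
      rw [h1, hfix t ht, h2]
    · simp only [Function.comp_apply]
      rw [hKix x hx, hfe hx, hKe (hf.apply_mem hx)]
  · intro P f hf hP
    obtain ⟨a, ha, hae, hastab⟩ := extendsStab_factor hS hF hprod h₁ h₂ hf hP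
    obtain ⟨k, hk, hke⟩ := exists_aut_ext hS hF hprod h₂ ⟨ha.mono le_sup_right, hastab⟩
    obtain ⟨ki, hki, hkl, hkr⟩ := hk.exists_inv
    refine ⟨k, ki ∘ f, ⟨hk.1.mono hprod.1, image_closed h₁ hk.1 hprod.1⟩,
      (isMap_R' hprod h₁ hR').mpr ⟨hP, ki ∘ a, ha.comp hki.1 fun x hx => ha.apply_mem hx,
        fun x hx => congrArg ki (hae hx), fun x hx => ?_⟩, fun x hx => ?_⟩
    · rw [Function.comp_apply, ← hke hx, hkl x (hprod.2.1 hx)]
    · rw [Function.comp_apply, hkr _ (hf.apply_mem hx)]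

theorem quot_mem {T : Subgroup Ω} {G : Cfsg.FusionSystem T} {f : Ω → Ω} (hf : IsIso G T T f) {a : Ω}
    (ha : a ∈ T) (hac : a ∈ Subgroup.centralizer (T : Set Ω)) :
    a⁻¹ * f a ∈ T ⊓ Subgroup.centralizer (T : Set Ω) := by
  refine ⟨T.mul_mem (T.inv_mem ha) (hf.mem ha), Subgroup.mul_mem _ (Subgroup.inv_mem _ hac)
    (Subgroup.mem_centralizer_iff.mpr fun y hy => ?_)⟩
  obtain ⟨x, hx, rfl⟩ := hf.exists_preimage hy
  rw [← hf.1.map_mul hx ha, ← hf.1.map_mul ha hx, Subgroup.mem_centralizer_iff.mp hac x hx]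

include hS hF hprod h₁ h₂ hR hR' in
theorem main : R.IsSaturated p ∧ R'.IsSaturated p ∧ R'.IsNormalIn F p ∧ R'.IsNormalIn R p ∧
    R.IsWeaklyNormalIn F p := by
  have hsR := saturated_R hS hF hprod h₁ hR
  have hsR' := saturated_R' hS hF hprod h₁ h₂ hR'
  have hinv := R'_invariant hS hF hprod h₁ h₂ hR'
  have hF' : ∀ {P : Subgroup Ω} {f : Ω → Ω}, IsMap R P f → IsMap F P f := fun h => ((isMap_R hR).mp h).1
  have hsub : R'.IsSubsystemOf R := fun P φ hφ =>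
    ((isMap_R hR).mpr ⟨isMap_of_R' hprod h₁ hR' (isMap_extFun hφ), (R'.le_of_mem hφ).1⟩).mem_hom
      fun x => (extFun_coe φ x).symm
  refine ⟨hsR, hsR', ⟨⟨hsR', hF, hinv⟩, fun α hα => ?_⟩, ⟨⟨hsR', hsR, ?_⟩, fun α hα => ?_⟩,
    hsR, hF, ?_⟩
  · have hf := (mem_autGroup le_rfl).mp hα
    obtain ⟨-, f', hf', hfe, hfix⟩ := (isMap_R' hprod h₁ hR').mp hf.1
    have hsup : S₁ ⊔ centralizerIn S S₁ = S := le_antisymm (sup_le hprod.1 inf_le_left)
      (hprod.2.2.2.2.symm.le.trans (sup_le_sup_left (comm_mem (hprod := hprod) le_rfl) _))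
    have hm : IsMap F (S₁ ⊔ centralizerIn S S₁) f' := hf'.mono (hsup.trans hprod.2.2.2.2.symm).le
    have hiso : IsIso F (S₁ ⊔ centralizerIn S S₁) (S₁ ⊔ centralizerIn S S₁) f' := by
      refine ⟨hm, ?_⟩
      rw [hsup]
      replace hm := hm.mono hsup.ge
      exact Set.Subset.antisymm (by rintro _ ⟨x, hx, rfl⟩; exact hm.apply_mem hx)
        fun y hy => surjOn_of_card_le le_rfl hm.injOn (fun x hx => hm.apply_mem hx) le_rfl y hy
    obtain ⟨β, hβ, hβe⟩ := hiso.exists_aut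
    refine ⟨β, hβ, fun x => ?_, fun c hc => ?_⟩
    · exact ((autFun_of_mem β (le_sup_left (b := centralizerIn S S₁) x.2)).symm.trans
        (hβe (le_sup_left (b := centralizerIn S S₁) x.2))).trans ((hfe x.2).trans (autFun_coe α x))
    · rw [← autFun_coe β c, hβe c.2]
      obtain ⟨a, ha, b, hb, e⟩ := exists_decomp hprod.2.2.1 (hprod.2.2.2.2.symm ▸ hc.1 : (c : Ω) ∈ S₁ ⊔ S₂)
      have hac : a ∈ Subgroup.centralizer (S₁ : Set Ω) := by
        have h3 := Subgroup.mul_mem _ hc.2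
          (Subgroup.inv_mem _ (comm_mem (hprod := hprod) (P := S₁) le_rfl hb).2)
        rwa [e, mul_inv_cancel_right] at h3
      have h4 := quot_mem hf ha hac
      rw [e, hf'.map_mul (le_sup_left (b := S₂) ha) (le_sup_right (a := S₁) hb), hfe ha, hfix b hb]
      have h5 := hprod.2.2.1 _ h4.1 b hb
      have e2 : (a * b)⁻¹ * (autFun α a * b) = a⁻¹ * autFun α a := by
        calc (a * b)⁻¹ * (autFun α a * b) = b⁻¹ * ((a⁻¹ * autFun α a) * b) := by group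
          _ = b⁻¹ * (b * (a⁻¹ * autFun α a)) := by rw [h5]
          _ = _ := inv_mul_cancel_left _ _
      rw [e2]
      exact h4
  · refine Fus93.isInvariantIn_of hsub ⟨le_rfl, fun P hP φ hφ x => (R.le_of_mem hφ).2 x⟩ ?_ ?_
    · intro P f hf k hk P' hP'
      exact invariant_inv hinv hf ⟨hF' hk.1, hk.2⟩ hP'
    · intro P f hf hP
      obtain ⟨k, g, hk, hg, he⟩ := invariant_frattini hinv (hF' hf) hP
      exact ⟨k, g, ⟨(isMap_R hR).mpr ⟨hk.1, le_rfl⟩, hk.2⟩, hg, he⟩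
  · have hf := (mem_autGroup le_rfl).mp hα
    have hsup : S₁ ⊔ centralizerIn S₁ S₁ = S₁ := sup_eq_left.mpr inf_le_left
    have hiso : IsIso R (S₁ ⊔ centralizerIn S₁ S₁) (S₁ ⊔ centralizerIn S₁ S₁) (autFun α) := by
      rw [hsup]
      exact ⟨(isMap_R hR).mpr ⟨isMap_of_R' hprod h₁ hR' hf.1, le_rfl⟩, hf.2⟩
    obtain ⟨β, hβ, hβe⟩ := hiso.exists_aut
    refine ⟨β, hβ, fun x => ?_, fun c hc => ?_⟩
    · exact ((autFun_of_mem β (le_sup_left (b := centralizerIn S₁ S₁) x.2)).symm.trans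
        (hβe (le_sup_left (b := centralizerIn S₁ S₁) x.2))).trans (autFun_coe α x)
    · rw [← autFun_coe β c, hβe c.2]
      exact quot_mem hf hc.1 hc.2
  · refine Fus93.isInvariantIn_of (fun P φ hφ => (hF' (isMap_extFun hφ)).mem_hom
      fun x => (extFun_coe φ x).symm) h₁ ?_ ?_
    · intro P f hf k hk P' hP'
      have hi : IsIso F P P' k := ⟨hk.1.mono hf.dom_le, hP'.symm⟩
      obtain ⟨ki, hki, hkl, -⟩ := hi.exists_inv
      refine ⟨k ∘ f ∘ ki, (isMap_R hR).mpr ⟨(hki.comp_map (hF' hf)).comp hk.1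
        (fun x hx => hf.apply_mem (hki.mem hx)), fun y hy => ?_⟩, fun x hx => ?_⟩
      · obtain ⟨x, hx, rfl⟩ := (Set.ext_iff.mp hP' y).mp hy
        exact hk.mem (hf.dom_le hx)
      · simp only [Function.comp_apply, hkl x hx]
    · intro P f hf hP
      exact ⟨id, f, isIso_id hprod.1, (isMap_R hR).mpr ⟨hf, hP⟩, fun _ _ => rfl⟩

end main

end Cfsg.Agent.Fusion91.Direct
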