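import Cfsg.Agent.Lib.Fusion.Alperin
import Cfsg.Agent.Lib.LinearGroup.SylowChar
import Cfsg.Agent.OddLocal43.RankTwo

set_option autoImplicit false

/-! Automizers of small essential subgroups. -/

namespace Cfsg.Agent.Fusion91

open Cfsg

variable {Ω : Type*} [Group Ω] {S : Subgroup Ω} {F : Cfsg.FusionSystem S} {p : ℕ} [Fact p.Prime]

/-- An abelian essential subgroup has trivial inner automorphisms. -/
theorem inn_eq_bot {P : Subgroup Ω} (h : IsMulCommutative P) : Cfsg.Inn P = ⊥ := by
  refine (Subgroup.eq_bot_iff_forall _).mpr fun α hα => ?_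
  obtain ⟨a, rfl⟩ := hα
  refine MulEquiv.ext fun x => ?_
  show a * x * a⁻¹ = x
  rw [h.is_comm.comm a x, mul_inv_cancel_right]

/-- The automizer of an abelian essential subgroup has order divisible by `p` and no normal Sylow
subgroup. -/
theorem autGroup_of_essential_abelian [Finite S] {P : Subgroup Ω} (hP : F.IsEssential p P)
    (hab : IsMulCommutative P) :
    p ∣ Nat.card (F.autGroup P) ∧ ∀ R : Sylow p (F.autGroup P), ¬ (R : Subgroup (F.autGroup P)).Normal := by
  obtain ⟨hc, -, hn, E, hE⟩ := hP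
  have : Finite P := Fusion.finite_of_le hc.1
  have : Finite (MulAut P) := Fusion.finite_mulAut P
  set N := (Cfsg.Inn P).subgroupOf (F.autGroup P) with hN
  have hNbot : N = ⊥ := by rw [hN, inn_eq_bot hab, Subgroup.bot_subgroupOf]
  have hdvd : p ∣ Nat.card (F.autGroup P) := hE.1.trans (Subgroup.card_quotient_dvd_card N)
  refine ⟨hdvd, fun R hR => Sylow.ne_bot_of_dvd_card R hdvd ?_⟩
  have := Fusion.eq_bot_of_spe hE (hR.map _ (QuotientGroup.mk'_surjective N)) (R.isPGroup'.map _)
  rwa [Subgroup.map_eq_bot_iff, QuotientGroup.ker_mk', hNbot, le_bot_iff] at this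

theorem not_isCyclic_of_essential [Finite S] {P : Subgroup Ω} (hP : F.IsEssential p P) :
    ¬ IsCyclic P := by
  intro hcyc
  have hab : IsMulCommutative P := ⟨⟨fun a b => by
    obtain ⟨g, hg⟩ := hcyc.exists_generator
    obtain ⟨i, rfl⟩ := hg a
    obtain ⟨j, rfl⟩ := hg b
    exact zpow_mul_comm g i j⟩⟩
  obtain ⟨R⟩ : Nonempty (Sylow p (F.autGroup P)) := inferInstance
  refine (autGroup_of_essential_abelian hP hab).2 R ⟨fun n hn g => ?_⟩
  have hcomm : g * n = n * g := Subtype.ext (by
    apply (IsCyclic.mulAutMulEquiv (G := P)).injective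
    push_cast
    rw [map_mul, map_mul, mul_comm])
  rw [hcomm, mul_inv_cancel_right]
  exact hn

/-- The automizer of an essential subgroup of order `p²`. -/
theorem sl2_of_essential_sq [Finite S] (hS : IsPGroup p S) {H : Subgroup Ω} (hH : F.IsEssential p H)
    (hcard : Nat.card H = p ^ 2) :
    Cfsg.IsElementaryAbelian p H ∧
      ∃ K : Subgroup ↥(F.autGroup H), Nonempty (↥K ≃* Matrix.SpecialLinearGroup (Fin 2) (ZMod p)) := by
  classical
  have hp := (Fact.out : p.Prime)
  have hab : IsMulCommutative H := IsPGroup.isMulCommutative_of_card_eq_prime_sq hcard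
  have : Finite H := Fusion.finite_of_le hH.1.1
  have hexp : ∀ a : H, a ^ p = 1 := by
    intro a
    have hd : orderOf a ∣ p ^ 2 := hcard ▸ orderOf_dvd_natCard a
    obtain ⟨k, hk, hka⟩ := (Nat.dvd_prime_pow hp).mp hd
    rcases Nat.lt_or_ge k 2 with h | h
    · exact orderOf_dvd_iff_pow_eq_one.mp (hka ▸ (by
        simpa using pow_dvd_pow p (show k ≤ 1 by omega)))
    · obtain rfl : k = 2 := by omega
      exact absurd (isCyclic_of_orderOf_eq_card a (hka.trans hcard.symm)) (not_isCyclic_of_essential hH)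
  refine ⟨⟨hab, fun a ha => congrArg Subtype.val (hexp ⟨a, ha⟩)⟩, ?_⟩
  obtain ⟨f, hf⟩ := OddLocal43.exists_injective_to_GL_two (V := H) hab.is_comm.comm hexp hcard.le
  let τ : Matrix.SpecialLinearGroup (Fin 2) (ZMod p) →* GL (Fin 2) (ZMod p) :=
    Matrix.SpecialLinearGroup.toGL
  have hτ : Function.Injective τ := Matrix.SpecialLinearGroup.toGL_injective
  have hdet : ∀ (M : GL (Fin 2) (ZMod p)) (k : ℕ), M ^ p ^ k = 1 → M ∈ τ.range := by
    intro M k hk
    have h1 := congrArg (fun z : GL (Fin 2) (ZMod p) => (z : Matrix (Fin 2) (Fin 2) (ZMod p)).det) hk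
    simp only [Units.val_pow_eq_pow_val, Matrix.det_pow, Units.val_one, Matrix.det_one,
      ZMod.pow_card_pow] at h1
    exact ⟨⟨(M : Matrix (Fin 2) (Fin 2) (ZMod p)), h1⟩, Units.ext rfl⟩
  have : Finite (MulAut H) := Fusion.finite_mulAut H
  obtain ⟨hdvd, hnn⟩ := autGroup_of_essential_abelian hH hab
  obtain ⟨R₁⟩ : Nonempty (Sylow p (F.autGroup H)) := inferInstance
  obtain ⟨R₂, hne⟩ : ∃ R₂ : Sylow p (F.autGroup H), R₂ ≠ R₁ := by
    by_contra h
    push Not at h
    exact hnn R₁ (have : Subsingleton (Sylow p (F.autGroup H)) := ⟨fun a b => (h a).trans (h b).symm⟩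
      Sylow.normal_of_subsingleton R₁)
  let j : F.autGroup H →* GL (Fin 2) (ZMod p) := f.comp (F.autGroup H).subtype
  have hj : Function.Injective j := hf.comp (F.autGroup H).subtype_injective
  have hsyl : ∀ R : Sylow p (F.autGroup H), ∃ P : Sylow p (Matrix.SpecialLinearGroup (Fin 2) (ZMod p)),
      (P : Subgroup (Matrix.SpecialLinearGroup (Fin 2) (ZMod p))).map τ =
        (R : Subgroup (F.autGroup H)).map j := by
    intro R
    have hle : (R : Subgroup (F.autGroup H)).map j ≤ τ.range := by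
      rintro _ ⟨a, ha, rfl⟩
      obtain ⟨k, hk⟩ := R.isPGroup' ⟨a, ha⟩
      refine hdet _ k ?_
      rw [← map_pow, show a ^ p ^ k = 1 from congrArg Subtype.val hk, map_one]
    obtain ⟨P, hP⟩ := ((R.isPGroup'.map j).comap_of_injective τ hτ).exists_le_sylow
    refine ⟨P, ?_⟩
    have h1 : Nat.card P = p := by
      rw [LinearGroup.card_sylow_SL_two p P, Nat.card_zmod]
    have h2 : p ≤ Nat.card R := by
      obtain ⟨k, hk⟩ := IsPGroup.iff_card.mp R.isPGroup'
      rw [hk]
      refine Nat.le_self_pow ?_ p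
      rintro rfl
      exact Sylow.ne_bot_of_dvd_card R hdvd (Subgroup.card_eq_one.mp (by simpa using hk))
    refine (Subgroup.eq_of_le_of_card_ge ?_ ?_).symm
    · rw [← Subgroup.map_comap_eq_self hle]
      exact Subgroup.map_mono hP
    · rw [Subgroup.card_map_of_injective hτ, Subgroup.card_map_of_injective hj, h1]
      exact h2
  obtain ⟨P₁, hP₁⟩ := hsyl R₁
  obtain ⟨P₂, hP₂⟩ := hsyl R₂
  have hPne : P₁ ≠ P₂ := fun h => hne (Sylow.ext (Subgroup.map_injective hj (by rw [← hP₁, ← hP₂, h])))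
  have hle : τ.range ≤ j.range := by
    rw [MonoidHom.range_eq_map, ← LinearGroup.sylow_sup_eq_top_SL_two p P₁ P₂ hPne, Subgroup.map_sup,
      hP₁, hP₂]
    exact sup_le (Subgroup.map_le_range _ _) (Subgroup.map_le_range _ _)
  refine ⟨τ.range.comap j, ⟨((τ.range.comap j).equivMapOfInjective j hj).trans
    ((MulEquiv.subgroupCongr (Subgroup.map_comap_eq_self hle)).trans (MonoidHom.ofInjective hτ).symm)⟩⟩

end Cfsg.Agent.Fusion91
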