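import Mathlib
import Cfsg.Agent.Lib.PGroup.Commutator
import Cfsg.Agent.Lib.PGroup.Basic

set_option autoImplicit false

/-! Elementary facts on groups of order `p⁴`. -/

namespace Cfsg.Agent.Fusion91

open scoped commutatorElement

variable {p : ℕ} [Fact p.Prime] {G : Type*} [Group G] [Finite G]

theorem mul_card_le_of_lt (hG : IsPGroup p G) {A B : Subgroup G} (h : A < B) :
    p * Nat.card A ≤ Nat.card B := by
  have hp := (Fact.out : p.Prime)
  obtain ⟨a, ha⟩ := IsPGroup.iff_card.mp (hG.to_subgroup A)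
  obtain ⟨b, hb⟩ := IsPGroup.iff_card.mp (hG.to_subgroup B)
  rw [ha, hb, ← pow_succ']
  refine Nat.pow_le_pow_right hp.pos ?_
  by_contra hab
  exact h.ne (Subgroup.eq_of_le_of_card_ge h.le (by rw [ha, hb]; exact Nat.pow_le_pow_right hp.pos (by omega)))

theorem eq_top_of_lt (hG : IsPGroup p G) {A B : Subgroup G} (h : A < B)
    (hA : Nat.card G ≤ p * Nat.card A) : B = ⊤ :=
  Subgroup.eq_top_of_card_eq B (le_antisymm (Subgroup.card_le_card_group B) (hA.trans (mul_card_le_of_lt hG h)))

theorem exists_type0 (E : Type*) [Group E] [Finite E] :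
    ∃ (E' : Type) (_ : Group E') (_ : Finite E'), Nonempty (E ≃* E') := by
  let f : E →* Equiv.Perm (Fin (Nat.card E)) :=
    (Equiv.permCongrHom (Finite.equivFin E)).toMonoidHom.comp (MulAction.toPermHom E E)
  have hf : Function.Injective f :=
    (Equiv.permCongrHom (Finite.equivFin E)).injective.comp MulAction.toPerm_injective
  exact ⟨f.range, inferInstance, inferInstance, ⟨MonoidHom.ofInjective hf⟩⟩

/-- The homomorphism from a cyclic group of order `n` given by an element killed by `n`. -/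
def zmodHom (n : ℕ) (a : G) (h : a ^ n = 1) : Multiplicative (ZMod n) →* G :=
  AddMonoidHom.toMultiplicativeLeft (ZMod.lift n ⟨zmultiplesHom (Additive G) (Additive.ofMul a), by
    simp only [zmultiplesHom_apply, natCast_zsmul]
    apply Additive.toMul.injective
    rw [toMul_nsmul, toMul_ofMul, h]
    rfl⟩)

omit [Fact p.Prime] [Finite G] in
theorem mem_range_zmodHom (n : ℕ) (a : G) (h : a ^ n = 1) : a ∈ (zmodHom n a h).range := by
  refine ⟨Multiplicative.ofAdd ((1 : ℤ) : ZMod n), ?_⟩
  show Additive.toMul (ZMod.lift _ _ ((1 : ℤ) : ZMod n)) = a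
  rw [ZMod.lift_coe]
  simp

omit [Fact p.Prime] [Finite G] in
theorem range_zmodHom_le (n : ℕ) (a : G) (h : a ^ n = 1) : (zmodHom n a h).range ≤ Subgroup.zpowers a := by
  rintro _ ⟨x, rfl⟩
  obtain ⟨i, hi⟩ := ZMod.intCast_surjective x.toAdd
  refine ⟨i, ?_⟩
  show a ^ i = Additive.toMul (ZMod.lift _ _ x.toAdd)
  rw [← hi, ZMod.lift_coe]
  simp

theorem exists_prod_equiv (hG : IsPGroup p G) {E : Subgroup G} {c : G} (hc : c ∈ Subgroup.center G)
    (hcp : c ^ p = 1) (hcE : c ∉ E) (hcard : Nat.card G = Nat.card E * p) :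
    ∃ e : E × Multiplicative (ZMod p) ≃* G, ∀ w : E, e (w, 1) = (w : G) := by
  let f : E × Multiplicative (ZMod p) →* G := E.subtype.noncommCoprod (zmodHom p c hcp) fun e x => by
    have := range_zmodHom_le p c hcp ⟨x, rfl⟩
    exact Subgroup.mem_center_iff.mp ((Subgroup.zpowers_le.mpr hc) this) e
  have hE : E ≤ f.range := fun e he => ⟨(⟨e, he⟩, 1), by
    show e * zmodHom p c hcp 1 = e
    rw [map_one, mul_one]⟩
  have hc' : c ∈ f.range := by
    obtain ⟨x, hx⟩ := mem_range_zmodHom p c hcp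
    exact ⟨(1, x), by
      show ((1 : E) : G) * zmodHom p c hcp x = c
      rw [hx, OneMemClass.coe_one, one_mul]⟩
  have htop := eq_top_of_lt hG (lt_of_le_of_ne hE fun h => hcE (h ▸ hc')) (by rw [hcard, mul_comm])
  have : NeZero p := ⟨(Fact.out : p.Prime).ne_zero⟩
  have hbij : Function.Bijective f := (Nat.bijective_iff_surjective_and_card f).mpr
    ⟨MonoidHom.range_eq_top.mp htop, by
      rw [Nat.card_prod, Nat.card_congr Multiplicative.toAdd, Nat.card_zmod, hcard]⟩
  refine ⟨MulEquiv.ofBijective f hbij, fun w => ?_⟩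
  show (w : G) * zmodHom p c hcp 1 = w
  rw [map_one, mul_one]

/-- Commutation with `a`, as a homomorphism when commutators are central. -/
def commHom (a : G) (h : ∀ y, ⁅a, y⁆ ∈ Subgroup.center G) : G →* G :=
  MonoidHom.mk' (fun y => ⁅a, y⁆) fun y z => by
    rw [commutatorElement_def, commutatorElement_def, commutatorElement_def]
    have := Subgroup.mem_center_iff.mp (h z) (y : G)
    rw [commutatorElement_def] at this
    calc a * (y * z) * a⁻¹ * (y * z)⁻¹ = a * y * a⁻¹ * ((a * z * a⁻¹ * z⁻¹) * y⁻¹) := by group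
      _ = a * y * a⁻¹ * y⁻¹ * (a * z * a⁻¹ * z⁻¹) := by
        rw [show (a * z * a⁻¹ * z⁻¹) * y⁻¹ = y⁻¹ * (a * z * a⁻¹ * z⁻¹) from
          (Subgroup.mem_center_iff.mp (by simpa [commutatorElement_def] using h z) y⁻¹).symm]
        group

omit [Fact p.Prime] in
theorem index_centralizer_le (a : G) (h : ∀ y, ⁅a, y⁆ ∈ Subgroup.center G) :
    (Subgroup.centralizer ({a} : Set G)).index ≤ Nat.card (Subgroup.center G) := by
  have hker : (commHom a h).ker = Subgroup.centralizer ({a} : Set G) := by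
    ext y
    rw [MonoidHom.mem_ker, Subgroup.mem_centralizer_singleton_iff]
    show ⁅a, y⁆ = 1 ↔ _
    rw [commutatorElement_eq_one_iff_mul_comm]
    exact eq_comm
  rw [← hker, Subgroup.index_ker]
  refine Subgroup.card_le_of_le ?_
  rintro _ ⟨y, rfl⟩
  exact h y

omit [Fact p.Prime] [Finite G] in
theorem comm_pow_eq_one {n : ℕ} (hcomm : ∀ a b : G, ⁅a, b⁆ ∈ Subgroup.center G)
    (hpow : ∀ a : G, a ^ n ∈ Subgroup.center G) (a b : G) : ⁅a, b⁆ ^ n = 1 := by
  have h : commHom a (hcomm a) (b ^ n) = commHom a (hcomm a) b ^ n := map_pow _ b n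
  change ⁅a, b ^ n⁆ = ⁅a, b⁆ ^ n at h
  rw [← h, commutatorElement_eq_one_iff_mul_comm]
  exact Subgroup.mem_center_iff.mp (hpow b) a

omit [Finite G] in
theorem center_index_ne_prime : (Subgroup.center G).index ≠ p := by
  intro h
  have : IsCyclic (G ⧸ Subgroup.center G) := isCyclic_of_prime_card (p := p) h
  have hc := (QuotientGroup.mk' (Subgroup.center G)).isMulCommutative_of_isCyclic_of_ker_le_center
    (QuotientGroup.ker_mk' _).le
  have htop : Subgroup.center G = ⊤ := eq_top_iff.mpr fun x _ =>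
    Subgroup.mem_center_iff.mpr fun g => hc.is_comm.comm g x
  rw [htop, Subgroup.index_top] at h
  exact (Fact.out : p.Prime).one_lt.ne h

omit [Fact p.Prime] [Finite G] in
theorem center_eq_top_of_index_one (h : (Subgroup.center G).index = 1) (a b : G) : a * b = b * a :=
  Subgroup.mem_center_iff.mp (Subgroup.index_eq_one.mp h ▸ Subgroup.mem_top b) a

/-- The centre of a nonabelian group of order `p⁴` has order `p` or `p²`. -/
theorem card_center_four (hcard : Nat.card G = p ^ 4) (hna : ¬ IsMulCommutative G) :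
    Nat.card (Subgroup.center G) = p ∨ Nat.card (Subgroup.center G) = p ^ 2 := by
  have hp := (Fact.out : p.Prime)
  have hG : IsPGroup p G := IsPGroup.of_card hcard
  have : Nontrivial G := Finite.one_lt_card_iff_nontrivial.mp (hcard ▸ Nat.one_lt_pow (by norm_num) hp.one_lt)
  obtain ⟨k, hk, hZ⟩ :=
    (Nat.dvd_prime_pow hp).mp (hcard ▸ Subgroup.card_subgroup_dvd_card (Subgroup.center G))
  have h := Subgroup.card_mul_index (Subgroup.center G)
  have hk0 : k ≠ 0 := by
    rintro rfl
    have := PGroup.dvd_card_center hG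
    rw [hZ, pow_zero, Nat.dvd_one] at this
    exact hp.one_lt.ne' this
  have hk3 : k ≠ 3 := by
    rintro rfl
    rw [hZ, hcard, pow_succ p 3] at h
    exact center_index_ne_prime (Nat.eq_of_mul_eq_mul_left (pow_pos hp.pos 3) h)
  have hk4 : k ≠ 4 := by
    rintro rfl
    rw [hZ, hcard] at h
    exact hna ⟨⟨center_eq_top_of_index_one
      (Nat.eq_of_mul_eq_mul_left (pow_pos hp.pos 4) (h.trans (mul_one _).symm))⟩⟩
  rcases (by omega : k = 1 ∨ k = 2) with rfl | rfl
  · exact Or.inl (hZ.trans (pow_one p))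
  · exact Or.inr hZ

end Cfsg.Agent.Fusion91
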