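import Cfsg.Agent.Fusion91.RankTwoEssential
import Cfsg.Agent.Fusion91.GroupsFour

set_option autoImplicit false

/-! Abelian groups of order `p⁴` with Frattini subgroup of order `p`. -/

namespace Cfsg.Agent.Fusion91

variable {p : ℕ} [Fact p.Prime]

theorem equiv_of_frattini_prime {G : Type*} [CommGroup G] [Finite G] (hcard : Nat.card G = p ^ 4)
    (hfr : Nat.card (powSub G p 1) = p) :
    Nonempty (G ≃* Multiplicative (ZMod (p ^ 2) × ZMod p × ZMod p)) := by
  have hp := (Fact.out : p.Prime)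
  have hG : IsPGroup p G := IsPGroup.of_card hcard
  let W := (powMonoidHom p : G →* G).ker
  have hW : Nat.card W = p ^ 3 := by
    have h := Subgroup.card_mul_index W
    have h1 : (powMonoidHom p : G →* G).range = powSub G p 1 := by rw [powSub, pow_one]
    rw [Subgroup.index_ker, h1, hfr, hcard, pow_succ p 3] at h
    exact Nat.eq_of_mul_eq_mul_right hp.pos h
  obtain ⟨a, ha⟩ : ∃ a : G, a ^ p ≠ 1 := by
    by_contra h
    push Not at h
    have h1 : powSub G p 1 = ⊥ := (Subgroup.eq_bot_iff_forall _).mpr (by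
      rintro _ ⟨x, rfl⟩
      simpa using h x)
    rw [h1, Subgroup.card_bot] at hfr
    exact hp.one_lt.ne hfr
  have hap : (a ^ p) ^ p = 1 := by
    have h1 : (⟨a ^ p, ⟨a, by simp⟩⟩ : powSub G p 1) ^ Nat.card (powSub G p 1) = 1 := pow_card_eq_one'
    rw [hfr] at h1
    exact congrArg Subtype.val h1
  let A₁ := Subgroup.zpowers (a ^ p)
  have hA₁ : Nat.card A₁ = p := by rw [Nat.card_zpowers, orderOf_eq_prime hap ha]
  have hA₁W : A₁ ≤ W := Subgroup.zpowers_le.mpr hap
  obtain ⟨b, hbW, hb⟩ : ∃ b ∈ W, b ∉ A₁ := by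
    by_contra h
    push Not at h
    have := Subgroup.card_le_of_le (show W ≤ A₁ from h)
    rw [hA₁, hW] at this
    exact absurd this (not_le.mpr (lt_self_pow₀ hp.one_lt (by norm_num)))
  have hbp : b ^ p = 1 := hbW
  have hbc : Nat.card (Subgroup.zpowers b) = p := by
    rw [Nat.card_zpowers, orderOf_eq_prime hbp fun h => hb (h ▸ Subgroup.one_mem _)]
  let A₂ := Subgroup.zpowers b ⊔ A₁
  have hA₂ : Nat.card A₂ ≤ p ^ 2 := by
    have h := Subgroup.relIndex_mul_relIndex ⊥ A₁ A₂ bot_le le_sup_right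
    rw [Subgroup.relIndex_bot_left, Subgroup.relIndex_bot_left, hA₁, Subgroup.relIndex_sup_right] at h
    rw [← h, sq]
    refine Nat.mul_le_mul_left p (le_trans ?_ hbc.le)
    exact Nat.le_of_dvd Nat.card_pos (Subgroup.relIndex_dvd_card _ _)
  obtain ⟨c, hcW, hc⟩ : ∃ c ∈ W, c ∉ A₂ := by
    by_contra h
    push Not at h
    have := Subgroup.card_le_of_le (show W ≤ A₂ from h)
    rw [hW] at this
    exact absurd (this.trans hA₂) (not_le.mpr (Nat.pow_lt_pow_right hp.one_lt (by norm_num)))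
  have hcp : c ^ p = 1 := hcW
  have ha2 : a ^ p ^ 2 = 1 := by rw [sq, pow_mul, hap]
  let f : Multiplicative (ZMod (p ^ 2)) × (Multiplicative (ZMod p) × Multiplicative (ZMod p)) →* G :=
    (zmodHom _ a ha2).coprod ((zmodHom p b hbp).coprod (zmodHom p c hcp))
  have h1 : a ∈ f.range := by
    obtain ⟨x, hx⟩ := mem_range_zmodHom _ a ha2
    refine ⟨(x, 1, 1), ?_⟩
    show zmodHom _ a ha2 x * (zmodHom p b hbp 1 * zmodHom p c hcp 1) = a
    simp [hx]
  have h2 : b ∈ f.range := by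
    obtain ⟨x, hx⟩ := mem_range_zmodHom _ b hbp
    refine ⟨(1, x, 1), ?_⟩
    show zmodHom _ a ha2 1 * (zmodHom p b hbp x * zmodHom p c hcp 1) = b
    simp [hx]
  have h3 : c ∈ f.range := by
    obtain ⟨x, hx⟩ := mem_range_zmodHom _ c hcp
    refine ⟨(1, 1, x), ?_⟩
    show zmodHom _ a ha2 1 * (zmodHom p b hbp 1 * zmodHom p c hcp x) = c
    simp [hx]
  let A₃ := A₂ ⊔ Subgroup.zpowers c
  have hA₃W : A₃ ≤ W :=
    sup_le (sup_le (Subgroup.zpowers_le.mpr hbW) hA₁W) (Subgroup.zpowers_le.mpr hcW)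
  have hA₃ : A₃ = W := by
    refine Subgroup.eq_of_le_of_card_ge hA₃W ?_
    have e1 := mul_card_le_of_lt hG (show A₁ < A₂ from lt_of_le_of_ne le_sup_right fun h =>
      hb (h.symm.le (Subgroup.mem_sup_left (Subgroup.mem_zpowers b))))
    have e2 := mul_card_le_of_lt hG (show A₂ < A₃ from lt_of_le_of_ne le_sup_left fun h =>
      hc (h.symm.le (Subgroup.mem_sup_right (Subgroup.mem_zpowers c))))
    rw [hA₁] at e1
    rw [hW]
    calc p ^ 3 = p * (p * p) := by ring
      _ ≤ p * Nat.card A₂ := Nat.mul_le_mul_left _ e1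
      _ ≤ _ := e2
  have hWle : W ≤ f.range := hA₃ ▸ sup_le (sup_le (Subgroup.zpowers_le.mpr h2)
    (Subgroup.zpowers_le.mpr (Subgroup.pow_mem _ h1 p))) (Subgroup.zpowers_le.mpr h3)
  have htop := eq_top_of_lt hG (lt_of_le_of_ne hWle fun h => ha (show a ∈ W from h.symm ▸ h1))
    (by rw [hcard, hW, ← pow_succ'])
  have : NeZero p := ⟨hp.ne_zero⟩
  have : NeZero (p ^ 2) := ⟨(pow_pos hp.pos 2).ne'⟩
  have hbij : Function.Bijective f := (Nat.bijective_iff_surjective_and_card f).mpr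
    ⟨MonoidHom.range_eq_top.mp htop, by
      rw [Nat.card_prod, Nat.card_prod, Nat.card_congr Multiplicative.toAdd,
        Nat.card_congr Multiplicative.toAdd, Nat.card_zmod, Nat.card_zmod, hcard]
      ring⟩
  exact ⟨(MulEquiv.ofBijective f hbij).symm.trans ((MulEquiv.prodCongr (MulEquiv.refl _)
    (MulEquiv.prodMultiplicative _ _).symm).trans (MulEquiv.prodMultiplicative _ _).symm)⟩

end Cfsg.Agent.Fusion91
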