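import Cfsg.Agent.Fusion91.EssentialFourCenter
import Cfsg.Agent.Fusion91.EssentialFourAbelian

set_option autoImplicit false

/-! Essential subgroups of order `p⁴`. -/

namespace Cfsg.Agent.Fusion91

open Cfsg Cfsg.Agent.Fusion
open scoped commutatorElement

variable {Ω : Type*} [Group Ω] {S : Subgroup Ω} {F : Cfsg.FusionSystem S} {p : ℕ} [Fact p.Prime]

/-- The nonabelian essential subgroups of order `p⁴`. -/
theorem essential_four_nonabelian [Finite S] (hS : IsPGroup p S) {P : Subgroup Ω} (hP : F.IsEssential p P)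
    (hcard : Nat.card P = p ^ 4) (hna : ¬ IsMulCommutative P) :
    (Odd p ∧ ∃ (E : Type) (_ : Group E) (_ : Finite E), Cfsg.IsExtraspecial p E ∧ Nat.card E = p ^ 3 ∧
        (∀ x : E, x ^ p = 1) ∧ Nonempty (P ≃* E × Multiplicative (ZMod p))) ∨
      (p = 2 ∧ Nonempty (P ≃* QuaternionGroup 2 × Multiplicative (ZMod 2))) ∨
      ((∀ x ∈ P, x ^ (p ^ 2) = 1) ∧ IsCyclic (Subgroup.center P) ∧
        Nat.card (Subgroup.center P) = p ^ 2) := by
  classical
  have hp := (Fact.out : p.Prime)
  have : Finite P := finite_of_le hP.1.1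
  have hG : IsPGroup p P := IsPGroup.of_card hcard
  rcases card_center_four hcard hna with cZ | cZ
  · exact (center_card_ne_prime hS hP hcard cZ).elim
  let Z := Subgroup.center P
  have hidxZ : Z.index = p ^ 2 := by
    have h := Subgroup.card_mul_index Z
    rw [cZ, hcard, show p ^ 4 = p ^ 2 * p ^ 2 by ring] at h
    exact Nat.eq_of_mul_eq_mul_left (pow_pos hp.pos 2) h
  have hQ : Nat.card (P ⧸ Z) = p ^ 2 := hidxZ
  have hqc : IsMulCommutative (P ⧸ Z) := IsPGroup.isMulCommutative_of_card_eq_prime_sq hQ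
  have hcomm : ∀ a b : P, ⁅a, b⁆ ∈ Z := fun a b => by
    rw [← QuotientGroup.eq_one_iff, ← QuotientGroup.mk'_apply, map_commutatorElement,
      commutatorElement_eq_one_iff_mul_comm]
    exact hqc.is_comm.comm _ _
  have hpowZ : ∀ x : P, x ^ p ∈ Z := by
    intro x
    rw [← QuotientGroup.eq_one_iff, QuotientGroup.mk_pow]
    obtain ⟨i, hi, hio⟩ := (Nat.dvd_prime_pow hp).mp (hQ ▸ orderOf_dvd_natCard (x : P ⧸ Z))
    rcases Nat.lt_or_ge i 2 with h | h
    · exact orderOf_dvd_iff_pow_eq_one.mp (hio ▸ (by simpa using pow_dvd_pow p (show i ≤ 1 by omega)))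
    · obtain rfl : i = 2 := by omega
      have : IsCyclic (P ⧸ Z) := isCyclic_of_orderOf_eq_card _ (hio.trans hQ.symm)
      exact absurd ((QuotientGroup.mk' Z).isMulCommutative_of_isCyclic_of_ker_le_center
        (QuotientGroup.ker_mk' _).le) hna
  obtain ⟨a, b, hab⟩ : ∃ a b : P, ⁅a, b⁆ ≠ 1 := by
    by_contra h
    push Not at h
    exact hna ⟨⟨fun a b => commutatorElement_eq_one_iff_mul_comm.mp (h a b)⟩⟩
  let C₀ := Subgroup.zpowers ⁅a, b⁆
  have hC₀ : Nat.card C₀ = p := by
    rw [Nat.card_zpowers, orderOf_eq_prime (comm_pow_eq_one hcomm hpowZ a b) hab]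
  have hgen : ∀ (K : Subgroup P), Z ≤ K → a ∈ K → b ∈ K → K = ⊤ := by
    intro K hZK haK hbK
    have haZ : a ∉ Z := fun h =>
      hab (commutatorElement_eq_one_iff_mul_comm.mpr (Subgroup.mem_center_iff.mp h b).symm)
    let T := Z ⊔ Subgroup.zpowers a
    have hTc : T ≤ Subgroup.centralizer ({a} : Set P) := sup_le
      (fun z hz => Subgroup.mem_centralizer_singleton_iff.mpr (Subgroup.mem_center_iff.mp hz a).symm)
      (Subgroup.zpowers_le.mpr (Subgroup.mem_centralizer_singleton_iff.mpr rfl))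
    have e1 := mul_card_le_of_lt hG (show Z < T from lt_of_le_of_ne le_sup_left fun h =>
      haZ (h.symm.le (Subgroup.mem_sup_right (Subgroup.mem_zpowers a))))
    have hbT : b ∉ T := fun h => hab (commutatorElement_eq_one_iff_mul_comm.mpr
      (Subgroup.mem_centralizer_singleton_iff.mp (hTc h)).symm)
    refine eq_top_of_lt hG (lt_of_le_of_ne (sup_le hZK (Subgroup.zpowers_le.mpr haK)) fun h =>
      hbT (h.symm.le hbK)) ?_
    rw [cZ] at e1
    calc Nat.card P = p * (p * p ^ 2) := by rw [hcard]; ring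
      _ ≤ _ := Nat.mul_le_mul_left _ e1
  have hin : ∀ g y : P, ⁅g, a⁆ ∈ C₀ → ⁅g, b⁆ ∈ C₀ → ⁅g, y⁆ ∈ C₀ := by
    intro g y ha' hb'
    have h := hgen (C₀.comap (commHom g (hcomm g))) (fun z hz => ?_) ha' hb'
    · exact (h.symm ▸ Subgroup.mem_top y : y ∈ C₀.comap (commHom g (hcomm g)))
    · show ⁅g, z⁆ ∈ C₀
      rw [commutatorElement_eq_one_iff_mul_comm.mpr (Subgroup.mem_center_iff.mp hz g)]
      exact Subgroup.one_mem _
  have hC₀mem : ∀ x y : P, ⁅x, y⁆ ∈ C₀ := by
    have ha' : ∀ y, ⁅a, y⁆ ∈ C₀ := fun y =>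
      hin a y (by rw [commutatorElement_self]; exact Subgroup.one_mem _) (Subgroup.mem_zpowers _)
    have hb' : ∀ y, ⁅b, y⁆ ∈ C₀ := fun y => hin b y
      (by rw [← commutatorElement_inv]; exact Subgroup.inv_mem _ (Subgroup.mem_zpowers _))
      (by rw [commutatorElement_self]; exact Subgroup.one_mem _)
    intro x y
    refine hin x y ?_ ?_ <;> rw [← commutatorElement_inv]
    · exact Subgroup.inv_mem _ (ha' x)
    · exact Subgroup.inv_mem _ (hb' x)
  have hC₀eq : commutator P = C₀ := by
    refine le_antisymm ?_ (Subgroup.zpowers_le.mpr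
      (Subgroup.commutator_mem_commutator (Subgroup.mem_top a) (Subgroup.mem_top b)))
    rw [commutator_def]
    exact Subgroup.commutator_le.mpr fun x _ y _ => hC₀mem x y
  have hC₀char : C₀.Characteristic := hC₀eq ▸ (inferInstance : (commutator P).Characteristic)
  have : C₀.Normal := @Subgroup.normal_of_characteristic _ _ C₀ hC₀char
  have hC₀Z : C₀ ≤ Z := Subgroup.zpowers_le.mpr (hcomm a b)
  have hsmall : ∀ z : Z, ¬ IsCyclic Z → z ^ p = 1 := fun z hcyc => by
    obtain ⟨i, hi, hio⟩ := (Nat.dvd_prime_pow hp).mp (cZ ▸ orderOf_dvd_natCard z)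
    rcases Nat.lt_or_ge i 2 with h | h
    · exact orderOf_dvd_iff_pow_eq_one.mp (hio ▸ (by simpa using pow_dvd_pow p (show i ≤ 1 by omega)))
    · obtain rfl : i = 2 := by omega
      exact absurd (isCyclic_of_orderOf_eq_card _ (hio.trans cZ.symm)) hcyc
  have hZpow : ∀ z ∈ Z, z ^ p ∈ C₀ := by
    by_cases hcyc : IsCyclic Z
    · obtain ⟨g, hg⟩ := hcyc.exists_generator
      have hgo : orderOf g = p ^ 2 := (orderOf_eq_card_of_forall_mem_zpowers hg).trans cZ
      have hsub : C₀ = Subgroup.zpowers ((g : P) ^ p) := by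
        refine Subgroup.eq_of_le_of_card_ge (Subgroup.zpowers_le.mpr ?_) ?_
        · obtain ⟨i, hi⟩ := hg ⟨⁅a, b⁆, hcomm a b⟩
          have hi' : ((g : P)) ^ i = ⁅a, b⁆ := by
            rw [← SubgroupClass.coe_zpow]
            exact congrArg Subtype.val hi
          have h1 : g ^ (i * (p : ℤ)) = 1 := Subtype.ext (by
            rw [SubgroupClass.coe_zpow, zpow_mul, hi', zpow_natCast, OneMemClass.coe_one]
            exact comm_pow_eq_one hcomm hpowZ a b)
          have h2 : ((p ^ 2 : ℕ) : ℤ) ∣ i * (p : ℤ) := hgo ▸ orderOf_dvd_iff_zpow_eq_one.mpr h1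
          rw [Nat.cast_pow, sq] at h2
          obtain ⟨q, hq⟩ := (mul_dvd_mul_iff_right (Int.natCast_ne_zero.mpr hp.ne_zero)).mp h2
          refine ⟨q, ?_⟩
          show ((g : P) ^ p) ^ q = ⁅a, b⁆
          rw [← hi', hq, zpow_mul, zpow_natCast]
        · rw [hC₀, Nat.card_zpowers]
          refine Nat.le_of_dvd hp.pos (orderOf_dvd_of_pow_eq_one ?_)
          rw [← pow_mul, ← sq, ← SubmonoidClass.coe_pow, ← hgo, pow_orderOf_eq_one, OneMemClass.coe_one]
      intro z hz
      obtain ⟨i, hi⟩ := hg ⟨z, hz⟩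
      have hi' : ((g : P)) ^ i = z := by
        rw [← SubgroupClass.coe_zpow]
        exact congrArg Subtype.val hi
      rw [hsub, ← hi']
      refine ⟨i, ?_⟩
      show ((g : P) ^ p) ^ i = ((g : P) ^ i) ^ p
      rw [← zpow_natCast (g : P), ← zpow_mul, ← zpow_natCast ((g : P) ^ i), ← zpow_mul, mul_comm]
    · intro z hz
      rw [show z ^ p = 1 from congrArg Subtype.val (hsmall ⟨z, hz⟩ hcyc)]
      exact Subgroup.one_mem _
  have hmulp : ∀ x y : P, (x * y) ^ p = x ^ p * y ^ p * ⁅y, x⁆ ^ p.choose 2 := fun x y =>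
    PGroup.mul_pow_of_commute_commutator (Subgroup.mem_center_iff.mp (hcomm y x) x).symm
      (Subgroup.mem_center_iff.mp (hcomm y x) y).symm p
  have hker3 : ∀ {Q : Type _} [Group Q] (φ : P →* Q) (x : P), φ x ≠ 1 → Nat.card φ.range ≤ p →
      Nat.card φ.ker = p ^ 3 := fun {Q} _ φ x hx hr => by
    have hlt : φ.ker < ⊤ := lt_top_iff_ne_top.mpr fun h => hx (h.symm ▸ Subgroup.mem_top x : x ∈ φ.ker)
    refine le_antisymm ?_ ?_
    · have := mul_card_le_of_lt hG hlt
      rw [Subgroup.card_top, hcard, pow_succ' p 3] at this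
      exact Nat.le_of_mul_le_mul_left this hp.pos
    · have h1 := Subgroup.card_mul_index φ.ker
      refine Nat.le_of_mul_le_mul_right ?_ hp.pos
      calc p ^ 3 * p = Nat.card φ.ker * φ.ker.index := by rw [h1, hcard]; ring
        _ ≤ _ := Nat.mul_le_mul_left _ ((Subgroup.index_ker φ).le.trans hr)
  let ψ : P →* P ⧸ C₀ := MonoidHom.mk' (fun x => ((x ^ p : P) : P ⧸ C₀)) fun x y => by
    rw [hmulp, QuotientGroup.mk_mul, QuotientGroup.mk_mul,
      (QuotientGroup.eq_one_iff (⁅y, x⁆ ^ p.choose 2)).mpr (Subgroup.pow_mem _ (hC₀mem y x) _), mul_one]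
  have hC₀pow : ∀ x : P, x ^ p ∈ C₀ := by
    by_contra hne
    push Not at hne
    obtain ⟨x, hx⟩ := hne
    have hW : ψ.ker.Characteristic := Subgroup.characteristic_iff_le_comap.mpr fun φ y hy => by
      have hy' : y ^ p ∈ C₀ := (QuotientGroup.eq_one_iff _).mp hy
      show ((φ y ^ p : P) : P ⧸ C₀) = 1
      rw [QuotientGroup.eq_one_iff, ← map_pow]
      exact Subgroup.characteristic_iff_le_comap.mp hC₀char φ hy'
    have hZW : Z ≤ ψ.ker := fun z hz => (QuotientGroup.eq_one_iff _).mpr (hZpow z hz)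
    have hr : Nat.card ψ.range ≤ p := by
      have h3 : ψ.range ≤ Z.map (QuotientGroup.mk' C₀) := by
        rintro _ ⟨y, rfl⟩
        exact ⟨y ^ p, hpowZ y, rfl⟩
      refine (Subgroup.card_le_of_le h3).trans (le_of_eq ?_)
      have h4 := Subgroup.relIndex_ker (K := Z) (QuotientGroup.mk' C₀)
      rw [QuotientGroup.ker_mk'] at h4
      have h5 := Subgroup.relIndex_mul_relIndex ⊥ C₀ Z bot_le hC₀Z
      rw [Subgroup.relIndex_bot_left, Subgroup.relIndex_bot_left, hC₀, cZ, h4, sq] at h5
      exact Nat.eq_of_mul_eq_mul_left hp.pos h5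
    exact no_char_series_four hS hP hcard hC₀Z hZW hC₀char Subgroup.centerCharacteristic hW hC₀ cZ
      (hker3 ψ x (fun h => hx ((QuotientGroup.eq_one_iff _).mp h)) hr)
  by_cases hcyc : IsCyclic Z
  · refine Or.inr (Or.inr ⟨fun x hx => ?_, hcyc, cZ⟩)
    have h1 : (⟨(⟨x, hx⟩ : P) ^ p, hC₀pow _⟩ : C₀) ^ Nat.card C₀ = 1 := pow_card_eq_one'
    rw [hC₀] at h1
    have h2 : ((⟨x, hx⟩ : P) ^ p) ^ p = 1 := congrArg Subtype.val h1
    rw [← pow_mul, ← sq] at h2
    exact congrArg Subtype.val h2
  have hZexp : ∀ z ∈ Z, z ^ p = 1 := fun z hz => congrArg Subtype.val (hsmall ⟨z, hz⟩ hcyc)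
  obtain ⟨c, hcZ, hc⟩ : ∃ c ∈ Z, c ∉ C₀ := by
    by_contra h
    push Not at h
    have := Subgroup.card_le_of_le (show Z ≤ C₀ from h)
    rw [hC₀, cZ] at this
    exact absurd this (not_le.mpr (lt_self_pow₀ hp.one_lt (by norm_num)))
  have hcp : c ^ p = 1 := hZexp c hcZ
  obtain ⟨Mb, -, hMb, hcMb⟩ := PGroup.exists_isCoatom_not_mem (p := p) (G := P ⧸ C₀)
    (fun x y => by
      obtain ⟨x, rfl⟩ := QuotientGroup.mk_surjective x
      obtain ⟨y, rfl⟩ := QuotientGroup.mk_surjective y
      rw [← commutatorElement_eq_one_iff_commute, ← QuotientGroup.mk'_apply, ← QuotientGroup.mk'_apply,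
        ← map_commutatorElement, QuotientGroup.mk'_apply, QuotientGroup.eq_one_iff]
      exact hC₀mem x y)
    (fun x => by
      obtain ⟨x, rfl⟩ := QuotientGroup.mk_surjective x
      rw [← QuotientGroup.mk_pow, QuotientGroup.eq_one_iff]
      exact hC₀pow x)
    (H := ⊥) (v := (c : P ⧸ C₀)) (fun h => hc ((QuotientGroup.eq_one_iff c).mp (Subgroup.mem_bot.mp h)))
  let E := Mb.comap (QuotientGroup.mk' C₀)
  have hcE : c ∉ E := hcMb
  have hEidx : E.index = p := by
    rw [Subgroup.index_comap_of_surjective _ (QuotientGroup.mk'_surjective C₀),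
      PGroup.index_eq_prime_of_isCoatom (hG.to_quotient C₀) hMb]
  have hEcard : Nat.card E = p ^ 3 := by
    have h := Subgroup.card_mul_index E
    rw [hEidx, hcard, pow_succ p 3] at h
    exact Nat.eq_of_mul_eq_mul_right hp.pos h
  have hEna : ¬ IsMulCommutative E := by
    intro hEab
    have hle : E ≤ Z := fun e he => Subgroup.mem_center_iff.mpr fun g => by
      have hK : Subgroup.centralizer ({e} : Set P) = ⊤ := by
        have h1 : E ≤ Subgroup.centralizer ({e} : Set P) := fun w hw =>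
          Subgroup.mem_centralizer_singleton_iff.mpr (congrArg Subtype.val (hEab.is_comm.comm ⟨w, hw⟩ ⟨e, he⟩))
        refine eq_top_of_lt hG (lt_of_le_of_ne h1 fun h => hcE (h.symm.le ?_)) (by rw [hcard, hEcard, ← pow_succ'])
        exact Subgroup.mem_centralizer_singleton_iff.mpr (Subgroup.mem_center_iff.mp hcZ e).symm
      exact Subgroup.mem_centralizer_singleton_iff.mp
        ((by rw [hK]; exact Subgroup.mem_top g) : g ∈ Subgroup.centralizer ({e} : Set P))
    have := Subgroup.card_le_of_le hle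
    rw [hEcard, cZ] at this
    exact absurd this (not_le.mpr (Nat.pow_lt_pow_right hp.one_lt (by norm_num)))
  obtain ⟨eqv, heqv⟩ := exists_prod_equiv hG hcZ hcp hcE (by rw [hcard, hEcard, ← pow_succ])
  rcases hp.eq_two_or_odd' with h2 | hodd
  · right; left
    subst h2
    refine ⟨rfl, ?_⟩
    have hxs := extraspecial_of_card_cube hEcard hEna
    by_cases hinv : ∀ x : E, x ^ 2 = 1 → x ∈ Subgroup.center E
    · obtain ⟨q⟩ := PGroup.xs_two_small hxs quaternion_xs.1 (by rw [hEcard]; rfl)
        (by rw [Nat.card_eq_fintype_card]; rfl) (iff_of_true hinv quaternion_xs.2)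
      exact ⟨eqv.symm.trans (MulEquiv.prodCongr q (MulEquiv.refl _))⟩
    exfalso
    push Not at hinv
    obtain ⟨s, hs, hsc⟩ := hinv
    obtain ⟨e⟩ := SmallGroups.dihedral_of_card_eight (by rw [hEcard]; rfl) s
      (orderOf_eq_prime hs fun h => hsc (h ▸ Subgroup.one_mem _)) hsc
    let r : E := e.symm (DihedralGroup.r 1)
    have hro : orderOf r = 4 := by rw [MulEquiv.orderOf_eq, DihedralGroup.orderOf_r_one]
    have hmem : ∀ x : E, orderOf x = 4 → x ∈ Subgroup.zpowers r := by
      intro x hx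
      have hx' : orderOf (e x) = 4 := by rw [MulEquiv.orderOf_eq, hx]
      obtain ⟨i, hi⟩ : ∃ i : ℕ, e x = DihedralGroup.r 1 ^ i := by
        cases hxe : e x with
        | r i => exact ⟨i.val, by rw [DihedralGroup.r_one_pow, ZMod.natCast_zmod_val]⟩
        | sr i => rw [hxe, DihedralGroup.orderOf_sr] at hx'; omega
      refine ⟨(i : ℤ), ?_⟩
      show r ^ (i : ℤ) = x
      rw [zpow_natCast, ← map_pow, ← hi, MulEquiv.symm_apply_apply]
    let W := Z ⊔ Subgroup.zpowers (r : P)
    have hsqW : ∀ y : P, y ^ 2 ≠ 1 → y ∈ W := by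
      intro y hy
      obtain ⟨⟨w, i⟩, hwi⟩ := eqv.surjective y
      have hsplit : y = (w : P) * eqv (1, i) := by
        rw [← hwi, ← heqv w, ← map_mul, Prod.mk_mul_mk, mul_one, one_mul]
      have hiZ : eqv (1, i) ∈ Z := by
        rw [Subgroup.mem_center_iff]
        intro g
        obtain ⟨q, rfl⟩ := eqv.surjective g
        rw [← map_mul, ← map_mul]
        exact congrArg eqv (Prod.ext ((mul_one _).trans (one_mul _).symm) (mul_comm _ _))
      rw [hsplit]
      refine Subgroup.mul_mem _ (Subgroup.mem_sup_right ?_) (Subgroup.mem_sup_left hiZ)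
      have hw2 : ¬ w ^ 2 ^ 1 = 1 := fun h => hy (by
        rw [hsplit, Commute.mul_pow (Subgroup.mem_center_iff.mp hiZ (w : P)), hZexp _ hiZ, mul_one]
        exact congrArg Subtype.val (h : w ^ 2 = 1))
      have hw4 : w ^ 2 ^ (1 + 1) = 1 := by
        have h := hC₀pow (w : P)
        refine Subtype.ext ?_
        rw [SubmonoidClass.coe_pow, show 2 ^ (1 + 1) = 2 * 2 from rfl, pow_mul, OneMemClass.coe_one]
        exact hZexp _ (hC₀Z h)
      obtain ⟨q, hq⟩ := hmem w (orderOf_eq_prime_pow hw2 hw4)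
      exact ⟨q, by rw [← hq]; rfl⟩
    have hr2 : (r : P) ^ 2 ≠ 1 := fun h => by
      have h1 := orderOf_dvd_of_pow_eq_one (Subtype.ext h : r ^ 2 = 1)
      rw [hro] at h1
      norm_num at h1
    have hWc : W.Characteristic := Subgroup.characteristic_iff_map_le.mpr fun φ => by
      rw [Subgroup.map_sup, MonoidHom.map_zpowers,
        Subgroup.characteristic_iff_map_eq.mp Subgroup.centerCharacteristic φ, sup_le_iff,
        Subgroup.zpowers_le]
      refine ⟨le_sup_left, hsqW _ fun h => hr2 (φ.injective ?_)⟩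
      rw [map_pow, map_one]
      exact h
    have hW3 : Nat.card W = 2 ^ 3 := by
      refine le_antisymm ?_ ?_
      · have hne : W ≠ ⊤ := fun h => by
          have hle : W ≤ Subgroup.centralizer ({(r : P)} : Set P) := sup_le
            (fun z hz => Subgroup.mem_centralizer_singleton_iff.mpr (Subgroup.mem_center_iff.mp hz _).symm)
            (Subgroup.zpowers_le.mpr (Subgroup.mem_centralizer_singleton_iff.mpr rfl))
          have hrZ : (r : P) ∈ Z := Subgroup.mem_center_iff.mpr fun g =>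
            Subgroup.mem_centralizer_singleton_iff.mp (hle (h.symm ▸ Subgroup.mem_top g))
          exact hr2 (hZexp _ hrZ)
        have := mul_card_le_of_lt hG (lt_top_iff_ne_top.mpr hne)
        rw [Subgroup.card_top, hcard, pow_succ' 2 3] at this
        exact Nat.le_of_mul_le_mul_left this two_pos
      · have := mul_card_le_of_lt hG (show Z < W from lt_of_le_of_ne le_sup_left fun h =>
          hr2 (hZexp _ (h.symm.le (Subgroup.mem_sup_right (Subgroup.mem_zpowers _)))))
        rw [cZ, ← pow_succ'] at this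
        exact this
    exact no_char_series_four hS hP hcard hC₀Z le_sup_left hC₀char Subgroup.centerCharacteristic hWc
      hC₀ cZ hW3
  · refine Or.inl ⟨hodd, ?_⟩
    have hexp : ∀ x : P, x ^ p = 1 := by
      by_contra hne
      push Not at hne
      obtain ⟨x, hx⟩ := hne
      have hchoose : p ∣ p.choose 2 := hp.dvd_choose_self two_ne_zero (by
        rcases hodd with ⟨m, rfl⟩
        have := hp.two_le
        omega)
      let φ : P →* P := MonoidHom.mk' (fun y => y ^ p) fun y z => by
        obtain ⟨m, hm⟩ := hchoose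
        rw [hmulp, hm, pow_mul, comm_pow_eq_one hcomm hpowZ, one_pow, mul_one]
      have hker : φ.ker.Characteristic := characteristic_of_pow fun x => Iff.rfl
      have hr : Nat.card φ.range ≤ p := by
        refine (Subgroup.card_le_of_le (?_ : φ.range ≤ C₀)).trans hC₀.le
        rintro _ ⟨y, rfl⟩
        exact hC₀pow y
      exact no_char_series_four hS hP hcard hC₀Z hZexp hC₀char Subgroup.centerCharacteristic hker
        hC₀ cZ (hker3 φ x hx hr)
    obtain ⟨E', iG, iF, ⟨u⟩⟩ := exists_type0 E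
    have hE'na : ¬ IsMulCommutative E' := fun h => hEna ⟨⟨fun x y => u.injective (by
      rw [map_mul, map_mul]
      exact h.is_comm.comm _ _)⟩⟩
    have hE'card : Nat.card E' = p ^ 3 := (Nat.card_congr u.toEquiv).symm.trans hEcard
    refine ⟨E', iG, iF, extraspecial_of_card_cube hE'card hE'na, hE'card, fun x => ?_,
      ⟨eqv.symm.trans (MulEquiv.prodCongr u (MulEquiv.refl _))⟩⟩
    rw [← u.apply_symm_apply x, ← map_pow,
      show (u.symm x) ^ p = 1 from Subtype.ext (by rw [SubmonoidClass.coe_pow]; exact hexp _), map_one]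

/-- The essential subgroups of order `p⁴`. -/
theorem essential_four [Finite S] (hS : IsPGroup p S) {H : Subgroup Ω} (hH : F.IsEssential p H)
    (hcard : Nat.card H = p ^ 4) :
    Cfsg.IsElementaryAbelian p H ∨
      Nonempty (H ≃* Multiplicative (ZMod (p ^ 2) × ZMod p × ZMod p)) ∨
      ((p = 2 ∨ p = 3) ∧ Nonempty (H ≃* Multiplicative (ZMod (p ^ 2) × ZMod (p ^ 2)))) ∨
      (Odd p ∧ ∃ (E : Type) (_ : Group E) (_ : Finite E), Cfsg.IsExtraspecial p E ∧ Nat.card E = p ^ 3 ∧
        (∀ x : E, x ^ p = 1) ∧ Nonempty (H ≃* E × Multiplicative (ZMod p))) ∨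
      (p = 2 ∧ Nonempty (H ≃* QuaternionGroup 2 × Multiplicative (ZMod 2))) ∨
      (¬ IsMulCommutative H ∧ (∀ x ∈ H, x ^ (p ^ 2) = 1) ∧ IsCyclic (Subgroup.center H) ∧
        Nat.card (Subgroup.center H) = p ^ 2) := by
  classical
  have hp := (Fact.out : p.Prime)
  have : Finite H := finite_of_le hH.1.1
  by_cases hab : IsMulCommutative H
  · have hHp : IsPGroup p H := IsPGroup.of_card hcard
    rcases Nat.lt_or_ge (p ^ 2) (frattini H).index with hlt | hrk
    · obtain ⟨m, hm⟩ := hHp.index (frattini H)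
      rw [hm] at hlt
      have hm3 : 3 ≤ m := (Nat.pow_lt_pow_iff_right hp.one_lt).mp hlt
      have hcm := Subgroup.card_mul_index (frattini H)
      rw [hm, hcard] at hcm
      have hm4 : m ≤ 4 := (Nat.pow_dvd_pow_iff_le_right hp.one_lt).mp ⟨_, (hcm.symm.trans (mul_comm _ _))⟩
      rcases (by omega : m = 3 ∨ m = 4) with rfl | rfl
      · right; left
        letI : CommGroup H := { (inferInstance : Group H) with mul_comm := hab.is_comm.comm }
        refine equiv_of_frattini_prime hcard ?_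
        rw [powSub_one_eq_frattini hHp]
        exact Nat.eq_of_mul_eq_mul_right (pow_pos hp.pos 3) (hcm.trans (pow_succ' p 3))
      · left
        refine ⟨hab, fun x hx => ?_⟩
        have h1 : Nat.card (frattini H) = 1 :=
          Nat.eq_of_mul_eq_mul_right (pow_pos hp.pos 4) (hcm.trans (one_mul _).symm)
        have h2 : frattini H = ⊥ := Subgroup.card_eq_one.mp h1
        have h3 := PGroup.pow_mem_frattini hHp (⟨x, hx⟩ : H)
        rw [h2, Subgroup.mem_bot] at h3
        exact congrArg Subtype.val h3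
    · rcases essential_rank_two hS hH hab hrk with ⟨-, h2⟩ | ⟨hp3, k, ⟨e⟩⟩
      · rw [hcard] at h2
        exact absurd (Nat.pow_right_injective hp.two_le h2) (by norm_num)
      · right; right; left
        have hk := Nat.card_congr (e.toEquiv.trans Multiplicative.toAdd)
        rw [hcard, Nat.card_prod, Nat.card_zmod, ← pow_add] at hk
        obtain rfl : k = 2 := by
          have := Nat.pow_right_injective hp.two_le hk
          omega
        refine ⟨?_, ⟨e⟩⟩
        have := hp.two_le
        omega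
  · right; right; right
    rcases essential_four_nonabelian hS hH hcard hab with h | h | h
    · exact Or.inl h
    · exact Or.inr (Or.inl h)
    · exact Or.inr (Or.inr ⟨hab, h⟩)

end Cfsg.Agent.Fusion91
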