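import Cfsg.Agent.Fusion91.RankTwoEssential
import Cfsg.Agent.Fusion91.GroupsFour

set_option autoImplicit false

/-! Essential subgroups of order `p⁴`: the centre. -/

namespace Cfsg.Agent.Fusion91

open Cfsg Cfsg.Agent.Fusion
open scoped commutatorElement

variable {Ω : Type*} [Group Ω] {S : Subgroup Ω} {F : Cfsg.FusionSystem S} {p : ℕ} [Fact p.Prime]

theorem no_char_series_four [Finite S] (hS : IsPGroup p S) {P : Subgroup Ω} (hP : F.IsEssential p P)
    (hcard : Nat.card P = p ^ 4) {A B C : Subgroup P} (hAB : A ≤ B) (hBC : B ≤ C) (hA : A.Characteristic)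
    (hB : B.Characteristic) (hC : C.Characteristic) (cA : Nat.card A = p) (cB : Nat.card B = p ^ 2)
    (cC : Nat.card C = p ^ 3) : False := by
  have hp := (Fact.out : p.Prime)
  have : Finite P := finite_of_le hP.1.1
  let L : ℕ → Subgroup P := fun i =>
    match i with
    | 0 => ⊥
    | 1 => A
    | 2 => B
    | 3 => C
    | _ => ⊤
  have hrel : ∀ {X Y : Subgroup P} {j : ℕ}, X ≤ Y → Nat.card X = p ^ j → Nat.card Y = p ^ (j + 1) →
      X.relIndex Y ≤ p := fun {X Y j} h hX hY => by
    have h1 := Subgroup.relIndex_mul_relIndex ⊥ X Y bot_le h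
    rw [Subgroup.relIndex_bot_left, Subgroup.relIndex_bot_left, hX, hY, pow_succ] at h1
    exact (Nat.eq_of_mul_eq_mul_left (pow_pos hp.pos j) h1).le
  refine no_char_series hS hP L 4 (fun i => ?_) rfl rfl fun i hi => ?_
  · rcases i with _ | _ | _ | _ | i
    · exact (inferInstance : (⊥ : Subgroup P).Characteristic)
    · exact hA
    · exact hB
    · exact hC
    · exact (inferInstance : (⊤ : Subgroup P).Characteristic)
  · rcases i with _ | _ | _ | _ | i
    · exact hrel (j := 0) bot_le Subgroup.card_bot (by rw [pow_one]; exact cA)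
    · exact hrel (j := 1) hAB (by rw [pow_one]; exact cA) cB
    · exact hrel hBC cB cC
    · exact hrel le_top cC (Subgroup.card_top.trans hcard)
    · omega

/-- An essential subgroup of order `p⁴` does not have a centre of order `p`. -/
theorem center_card_ne_prime [Finite S] (hS : IsPGroup p S) {P : Subgroup Ω} (hP : F.IsEssential p P)
    (hcard : Nat.card P = p ^ 4) (cZ : Nat.card (Subgroup.center P) = p) : False := by
  classical
  have hp := (Fact.out : p.Prime)
  have : Finite P := finite_of_le hP.1.1
  have hG : IsPGroup p P := IsPGroup.of_card hcard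
  let Z := Subgroup.center P
  have hidxZ : Z.index = p ^ 3 := by
    have h := Subgroup.card_mul_index Z
    rw [cZ, hcard, pow_succ'] at h
    exact Nat.eq_of_mul_eq_mul_left hp.pos h
  let Y : Subgroup P := (Subgroup.center (P ⧸ Z)).comap (QuotientGroup.mk' Z)
  have hmemY : ∀ {a : P}, a ∈ Y → ∀ y, ⁅a, y⁆ ∈ Z := fun {a} ha y => by
    rw [← QuotientGroup.eq_one_iff, ← QuotientGroup.mk'_apply, map_commutatorElement,
      commutatorElement_eq_one_iff_mul_comm]
    exact (Subgroup.mem_center_iff.mp ha _).symm
  have hYc : Y.Characteristic := Subgroup.Characteristic.comap_quotient_mk Subgroup.centerCharacteristic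
  have hZY : Z ≤ Y := fun z hz => by
    rw [Subgroup.mem_comap, QuotientGroup.mk'_apply, (QuotientGroup.eq_one_iff z).mpr hz]
    exact Subgroup.one_mem _
  have hne : Z ≠ ⊤ := fun h => by
    rw [h, Subgroup.index_top] at hidxZ
    exact (Nat.one_lt_pow (by norm_num) hp.one_lt).ne hidxZ
  have hidxY : Y.index = (Subgroup.center (P ⧸ Z)).index :=
    Subgroup.index_comap_of_surjective _ (QuotientGroup.mk'_surjective Z)
  have hQ : Nat.card (P ⧸ Z) = p ^ 3 := hidxZ
  obtain ⟨j, hj, hYj⟩ := (Nat.dvd_prime_pow hp).mp (hcard ▸ Subgroup.card_subgroup_dvd_card Y)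
  have hj2 : 2 ≤ j := by
    have : Nontrivial (P ⧸ Z) :=
      Finite.one_lt_card_iff_nontrivial.mp (hQ ▸ Nat.one_lt_pow (by norm_num) hp.one_lt)
    have h1 : Z < Y := lt_of_le_of_ne hZY fun h => by
      have h2 : Subgroup.center (P ⧸ Z) = ⊥ := by
        rw [Subgroup.eq_bot_iff_forall]
        intro q hq
        obtain ⟨a, rfl⟩ := QuotientGroup.mk_surjective q
        exact (QuotientGroup.eq_one_iff a).mpr (h ▸ hq)
      exact (hG.to_quotient Z).bot_lt_center.ne h2.symm
    have h3 := mul_card_le_of_lt hG h1
    rw [hYj, cZ, ← sq] at h3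
    exact (Nat.pow_le_pow_iff_right hp.one_lt).mp h3
  have hj3 : j ≠ 3 := by
    rintro rfl
    have h := Subgroup.card_mul_index Y
    rw [hYj, hidxY, hcard, pow_succ p 3] at h
    exact center_index_ne_prime (Nat.eq_of_mul_eq_mul_left (pow_pos hp.pos 3) h)
  have hC : ∀ a ∈ Y, a ∉ Z → Nat.card (Subgroup.centralizer ({a} : Set P)) = p ^ 3 := by
    intro a ha haZ
    have h1 := index_centralizer_le a (hmemY ha)
    rw [cZ] at h1
    have h2 := Subgroup.card_mul_index (Subgroup.centralizer ({a} : Set P))
    obtain ⟨i, hi⟩ := hG.index (Subgroup.centralizer ({a} : Set P))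
    have hne1 : (Subgroup.centralizer ({a} : Set P)).index ≠ 1 := fun h => haZ (by
      rw [Subgroup.index_eq_one] at h
      exact Subgroup.mem_center_iff.mpr fun g =>
        Subgroup.mem_centralizer_singleton_iff.mp (h.symm ▸ Subgroup.mem_top g))
    rw [hi] at h1 hne1
    obtain rfl : i = 1 := by
      rcases i with _ | _ | i
      · simp at hne1
      · rfl
      · exact absurd h1 (not_le.mpr (lt_self_pow₀ hp.one_lt (by omega)))
    rw [hi, pow_one, hcard, pow_succ p 3] at h2
    exact Nat.eq_of_mul_eq_mul_right hp.pos h2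
  have hcen : ∀ (a : P), Z ≤ Subgroup.centralizer ({a} : Set P) := fun a z hz =>
    Subgroup.mem_centralizer_singleton_iff.mpr (Subgroup.mem_center_iff.mp hz a).symm
  rcases Nat.lt_or_ge j 3 with hj' | hj'
  · obtain rfl : j = 2 := by omega
    have hYcomm : IsMulCommutative Y := IsPGroup.isMulCommutative_of_card_eq_prime_sq hYj
    obtain ⟨a, ha, haZ⟩ : ∃ a ∈ Y, a ∉ Z := by
      by_contra h
      push Not at h
      have := Subgroup.card_dvd_of_le (H := Y) (K := Z) h
      rw [hYj, cZ] at this
      have := Nat.le_of_dvd hp.pos this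
      nlinarith [hp.two_le]
    let C := Subgroup.centralizer (Y : Set P)
    have hCa : C = Subgroup.centralizer ({a} : Set P) := by
      refine le_antisymm (Subgroup.centralizer_le (Set.singleton_subset_iff.mpr ha)) fun g hg => ?_
      have h1 : Z < Y ⊓ Subgroup.centralizer ({g} : Set P) := lt_of_le_of_ne (le_inf hZY (hcen g)) fun h =>
        haZ (h ▸ ⟨ha, Subgroup.mem_centralizer_singleton_iff.mpr
          (Subgroup.mem_centralizer_singleton_iff.mp hg).symm⟩)
      have h2 : Y ⊓ Subgroup.centralizer ({g} : Set P) = Y := Subgroup.eq_of_le_of_card_ge inf_le_left (by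
        have := mul_card_le_of_lt hG h1
        rw [hYj]
        rwa [cZ, ← sq] at this)
      exact fun y hy => Subgroup.mem_centralizer_singleton_iff.mp (inf_eq_left.mp h2 hy)
    refine no_char_series_four hS hP hcard hZY ?_ Subgroup.centerCharacteristic hYc
      (Subgroup.characteristic_centralizer : C.Characteristic) cZ hYj
      ((congrArg (fun K : Subgroup P => Nat.card K) hCa).trans (hC a ha haZ))
    intro y hy z hz
    exact congrArg Subtype.val (hYcomm.is_comm.comm ⟨z, hz⟩ ⟨y, hy⟩)
  · obtain rfl : j = 4 := by omega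
    have hall : ∀ a : P, a ∈ Y := fun a => by
      rw [Subgroup.eq_top_of_card_eq Y (hYj.trans hcard.symm)]
      trivial
    obtain ⟨x, hx⟩ : ∃ x : P, x ∉ Z := by
      by_contra h
      push Not at h
      exact hne (eq_top_iff.mpr fun x _ => h x)
    let M := Subgroup.centralizer ({x} : Set P)
    have hM : Nat.card M = p ^ 3 := hC x (hall x) hx
    obtain ⟨y, hy⟩ : ∃ y : P, y ∉ M := by
      by_contra h
      push Not at h
      exact hx (Subgroup.mem_center_iff.mpr fun g => Subgroup.mem_centralizer_singleton_iff.mp (h g))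
    have hyZ : y ∉ Z := fun h => hy (hcen x h)
    let D := M ⊓ Subgroup.centralizer ({y} : Set P)
    have hxM : x ∈ M := Subgroup.mem_centralizer_singleton_iff.mpr rfl
    have hxD : x ∉ D := fun h => hy (Subgroup.mem_centralizer_singleton_iff.mpr
      (Subgroup.mem_centralizer_singleton_iff.mp h.2).symm)
    have hDM : D < M := lt_of_le_of_ne inf_le_left fun h => hxD (h.symm ▸ hxM)
    have hD : Nat.card D = p ^ 2 := by
      refine le_antisymm ?_ ?_
      · have := mul_card_le_of_lt hG hDM
        rw [hM, pow_succ' p 2] at this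
        exact Nat.le_of_mul_le_mul_left this hp.pos
      · have h1 := Subgroup.card_mul_index D
        have hiM : ∀ (K : Subgroup P), Nat.card K = p ^ 3 → K.index = p := fun K hK => by
          have h := Subgroup.card_mul_index K
          rw [hK, hcard, pow_succ p 3] at h
          exact Nat.eq_of_mul_eq_mul_left (pow_pos hp.pos 3) h
        have h2 : D.index ≤ p * p := Subgroup.index_inf_le.trans
          (le_of_eq (by rw [hiM M hM, hiM _ (hC y (hall y) hyZ)]))
        have h3 : p ^ 2 * (p * p) ≤ Nat.card D * (p * p) :=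
          calc p ^ 2 * (p * p) = p ^ 4 := by ring
            _ = Nat.card D * D.index := by rw [h1, hcard]
            _ ≤ _ := Nat.mul_le_mul_left _ h2
        exact Nat.le_of_mul_le_mul_right h3 (Nat.mul_pos hp.pos hp.pos)
    have hDc : IsMulCommutative D := IsPGroup.isMulCommutative_of_card_eq_prime_sq hD
    have hDZ : D ≤ Z := by
      intro z hz
      let K := Subgroup.centralizer ({z} : Set P)
      have hDK : D ≤ K := fun w hw => Subgroup.mem_centralizer_singleton_iff.mpr
        (congrArg Subtype.val (hDc.is_comm.comm ⟨w, hw⟩ ⟨z, hz⟩))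
      have hxK : x ∈ K := Subgroup.mem_centralizer_singleton_iff.mpr
        (Subgroup.mem_centralizer_singleton_iff.mp hz.1).symm
      have hyK : y ∈ K := Subgroup.mem_centralizer_singleton_iff.mpr
        (Subgroup.mem_centralizer_singleton_iff.mp hz.2).symm
      have hMK : M ≤ K := by
        have h1 : D < M ⊓ K := lt_of_le_of_ne (le_inf inf_le_left hDK) fun h => hxD (h ▸ ⟨hxM, hxK⟩)
        have h2 : M ⊓ K = M := Subgroup.eq_of_le_of_card_ge inf_le_left (by
          have := mul_card_le_of_lt hG h1
          rw [hM, pow_succ' p 2]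
          rwa [hD] at this)
        exact inf_eq_left.mp h2
      have hK := eq_top_of_lt hG (lt_of_le_of_ne hMK fun h => hy (h ▸ hyK))
        (by rw [hcard, hM, ← pow_succ'])
      exact Subgroup.mem_center_iff.mpr fun g => Subgroup.mem_centralizer_singleton_iff.mp
        ((by rw [hK]; exact Subgroup.mem_top g) : g ∈ K)
    have := Subgroup.card_le_of_le hDZ
    rw [hD, cZ] at this
    nlinarith [hp.two_le]

end Cfsg.Agent.Fusion91
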