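import Cfsg.Agent.Fusion91.Transvection
import Cfsg.Agent.Fusion91.Core
import Cfsg.Agent.Lib.Fusion.Normal
import Cfsg.Agent.Lib.Fusion.Saturation
import Cfsg.Agent.Lib.PGroup.Extraspecial

set_option autoImplicit false
set_option linter.style.haveILetI false

/-! Fusion systems over `p`-groups with an extraspecial subgroup of index `p`: the centre. -/

namespace Cfsg.Agent.Fusion91

open Cfsg Cfsg.Agent.Fusion
open Cfsg.FusionSystem (normalizerIn centralizerIn)
open scoped commutatorElement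

variable {Ω : Type*} [Group Ω] {S : Subgroup Ω} {F : Cfsg.FusionSystem S} {p : ℕ} [Fact p.Prime]

theorem essential_lt [Finite S] (hS : IsPGroup p S) (hF : F.IsSaturated p) {P : Subgroup Ω}
    (hP : F.IsEssential p P) : P < S := by
  refine lt_of_le_of_ne hP.1.1 fun h => ?_
  subst h
  obtain ⟨-, -, hn, E, hE⟩ := hP
  haveI := hn
  haveI := finite_mulAut P
  obtain ⟨R, hR⟩ := exists_outSylow (F := F) hS hF (fullyNormalized_self (F := F))
  refine Sylow.ne_bot_of_dvd_card R hE.1 ?_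
  rw [Subgroup.eq_bot_iff_forall]
  intro q hq
  obtain ⟨β, rfl⟩ := QuotientGroup.mk'_surjective _ q
  have h1 := (hR β).mp hq
  rw [autInducedBy_self_eq_inn] at h1
  exact (QuotientGroup.eq_one_iff β).mpr h1

/-- An element of `S` inducing an automorphism in a normal series of an essential subgroup lies in it. -/
theorem mem_of_series_two [Finite S] (hS : IsPGroup p S) {P L : Subgroup Ω} (hP : F.IsEssential p P)
    (hLP : L ≤ P) (hinv : ∀ α ∈ F.autGroup P, ∀ x ∈ L, autFun α x ∈ L) {g : Ω}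
    (hg : g ∈ normalizerIn S P) (hL : ∀ x ∈ L, g * x * g⁻¹ = x)
    (hmove : ∀ x ∈ P, x⁻¹ * (g * x * g⁻¹) ∈ L) : g ∈ P := by
  have hP' : F.IsCentric P := hP.1
  haveI := finite_of_le hP'.1
  refine radical_chain hS hP' (isRadical_of_essential hS hP)
    (fun i => if i = 0 then ⊥ else if i = 1 then L else P) 2 (fun i => ?_) rfl rfl (fun i hi α hα => ?_)
    hg (fun i hi x hx => ?_)
  · show (if i = 0 then (⊥ : Subgroup Ω) else if i = 1 then L else P) ≤ P
    split_ifs
    exacts [bot_le, hLP, le_rfl]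
  · have : i = 0 ∨ i = 1 ∨ i = 2 := by omega
    rcases this with rfl | rfl | rfl
    · simp only [if_true, Subgroup.coe_bot, Set.image_singleton]
      rw [autFun_of_mem α P.one_mem, show (⟨1, P.one_mem⟩ : P) = 1 from rfl, map_one]
      rfl
    · simp only [one_ne_zero, if_false, if_true]
      refine Set.Subset.antisymm ?_ fun y hy => ?_
      · rintro _ ⟨x, hx, rfl⟩
        exact hinv α hα x hx
      · refine ⟨autFun (α⁻¹ : MulAut P) y, hinv _ (Subgroup.inv_mem _ hα) y hy, ?_⟩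
        rw [autFun_of_mem _ (hLP hy), autFun_coe]
        exact congrArg Subtype.val (α.apply_symm_apply _)
    · exact autFun_image α
  · have : i = 0 ∨ i = 1 := by omega
    rcases this with rfl | rfl
    · simp only [zero_add, one_ne_zero, if_false, if_true] at hx
      simp only [if_true]
      rw [hL x hx, inv_mul_cancel]
      exact Subgroup.one_mem _
    · simp only [one_ne_zero, if_false, if_true]
      exact hmove x hx

theorem normal_core_ne_bot [Finite S] {Q : Subgroup Ω} (hQ : F.IsNormal Q) (hne : Q ≠ ⊥) :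
    F.core ≠ ⊥ := fun h => hne (le_bot_iff.mp (h ▸ le_core hQ))

/-- `C_S(S) = C_Q(Q)` when `O_p(F)` is trivial. -/
theorem center_eq_of_index_prime [Finite S] (hp : Odd p) (hS : IsPGroup p S) {Q : Subgroup Ω}
    (hQS : Q ≤ S) (hQ : Cfsg.IsExtraspecial p Q) (hQi : (Q.subgroupOf S).index = p)
    (hF : F.IsSaturated p) (hO : F.core = ⊥) :
    S ⊓ Subgroup.centralizer (S : Set Ω) = Q ⊓ Subgroup.centralizer (Q : Set Ω) := by
  classical
  have hpp := (Fact.out : p.Prime)
  have hp2 : p ≠ 2 := fun h => by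
    subst h
    exact absurd hp (by decide)
  set Z := S ⊓ Subgroup.centralizer (S : Set Ω) with hZdef
  set W := Q ⊓ Subgroup.centralizer (Q : Set Ω) with hWdef
  haveI := finite_of_le hQS
  have hZS : Z ≤ S := inf_le_left
  haveI : Finite Z := finite_of_le hZS
  have hWQ : W ≤ Q := inf_le_left
  have hWmap : W = (Subgroup.center Q).map Q.subtype := by
    ext x
    constructor
    · rintro ⟨hx, hc⟩
      exact ⟨⟨x, hx⟩, Subgroup.mem_center_iff.mpr fun y =>
        Subtype.ext (Subgroup.mem_centralizer_iff.mp hc y y.2), rfl⟩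
    · rintro ⟨y, hy, rfl⟩
      exact ⟨y.2, Subgroup.mem_centralizer_iff.mpr fun z hz =>
        congrArg Subtype.val (Subgroup.mem_center_iff.mp hy ⟨z, hz⟩)⟩
  have hWcard : Nat.card W = p := by
    rw [hWmap, Subgroup.card_map_of_injective Q.subtype_injective, hQ.2]
  haveI : Finite W := Nat.finite_of_card_ne_zero (hWcard ▸ hpp.ne_zero)
  have hQn : S ≤ Subgroup.normalizer (Q : Set Ω) := by
    haveI := PGroup.normal_of_index_eq_prime hS hQi
    exact (Subgroup.normal_subgroupOf_iff_le_normalizer hQS).mp inferInstance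
  have hWn : ∀ g ∈ S, ∀ x ∈ W, g * x * g⁻¹ ∈ W := fun g hg x hx => by
    refine ⟨conj_mem_of_mem_normalizer (hQn hg) hx.1, Subgroup.mem_centralizer_iff.mpr fun y hy => ?_⟩
    have h1 : g⁻¹ * y * g⁻¹⁻¹ ∈ Q := conj_mem_of_mem_normalizer (inv_mem (hQn hg)) hy
    have h2 := Subgroup.mem_centralizer_iff.mp hx.2 _ h1
    calc y * (g * x * g⁻¹) = g * (g⁻¹ * y * g⁻¹⁻¹ * x) * g⁻¹ := by group
      _ = g * (x * (g⁻¹ * y * g⁻¹⁻¹)) * g⁻¹ := by rw [h2]
      _ = g * x * g⁻¹ * y := by group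
  have hWZ : W ≤ Z := by
    have hn : (W.subgroupOf S).Normal := ⟨fun x hx g => by
      rw [Subgroup.mem_subgroupOf] at hx ⊢
      exact hWn g g.2 x hx⟩
    have hle := PGroup.le_center_of_card_eq_prime hS (N := W.subgroupOf S) (by
      rw [Nat.card_congr (Subgroup.subgroupOfEquivOfLe (hWQ.trans hQS)).toEquiv, hWcard])
    exact fun x hx => ⟨hQS (hWQ hx), Subgroup.mem_centralizer_iff.mpr fun y hy =>
      congrArg Subtype.val (Subgroup.mem_center_iff.mp
        (hle (show (⟨x, hQS (hWQ hx)⟩ : S) ∈ W.subgroupOf S from hx)) ⟨y, hy⟩)⟩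
  refine le_antisymm ?_ hWZ
  by_contra hnot
  obtain ⟨c, hc, hcW⟩ := SetLike.not_le_iff_exists.mp hnot
  have hcQ : c ∉ Q := fun h => hcW ⟨h, Subgroup.centralizer_le hQS hc.2⟩
  have hQZ : ∀ s ∈ S, ∃ q ∈ Q, ∃ z ∈ Z, s = q * z := by
    intro s hs
    have hM := PGroup.isCoatom_iff_index_eq_prime hS |>.mpr hQi
    have htop : Q.subgroupOf S ⊔ Z.subgroupOf S = ⊤ := hM.2 _ (lt_of_le_of_ne le_sup_left fun h =>
      hcQ (h.symm.le (Subgroup.mem_sup_right (show (⟨c, hZS hc⟩ : S) ∈ Z.subgroupOf S from hc))))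
    haveI : (Z.subgroupOf S).Normal := ⟨fun x hx g => by
      rw [Subgroup.mem_subgroupOf] at hx ⊢
      have := Subgroup.mem_centralizer_iff.mp hx.2 g g.2
      simp only [Subgroup.coe_mul, Subgroup.coe_inv, this, mul_inv_cancel_right]
      exact hx⟩
    obtain ⟨q, hq, z, hz, he⟩ := Subgroup.mem_sup_of_normal_right.mp (htop.symm ▸ Subgroup.mem_top (⟨s, hs⟩ : S))
    exact ⟨q, hq, z, hz, (congrArg Subtype.val he).symm⟩
  have hcommW : ∀ s ∈ S, ∀ t ∈ S, t⁻¹ * (s * t * s⁻¹) ∈ W := by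
    intro s hs t ht
    obtain ⟨q, hq, z, hz, rfl⟩ := hQZ s hs
    obtain ⟨q', hq', z', hz', rfl⟩ := hQZ t ht
    have e : ∀ u ∈ Z, ∀ v ∈ S, v * u = u * v := fun u hu v hv => Subgroup.mem_centralizer_iff.mp hu.2 v hv
    have h1 : (q' * z')⁻¹ * (q * z * (q' * z') * (q * z)⁻¹) = q'⁻¹ * (q * q' * q⁻¹) := by
      have a1 : z * (q' * z') * z⁻¹ = q' * z' := by
        rw [← e z hz _ ht, mul_inv_cancel_right]
      calc (q' * z')⁻¹ * (q * z * (q' * z') * (q * z)⁻¹)
          = (q' * z')⁻¹ * (q * (z * (q' * z') * z⁻¹) * q⁻¹) := by group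
        _ = (q' * z')⁻¹ * (q * (q' * z') * q⁻¹) := by rw [a1]
        _ = z'⁻¹ * (q'⁻¹ * q * q') * (z' * q⁻¹) := by group
        _ = z'⁻¹ * (q'⁻¹ * q * q') * (q⁻¹ * z') := by rw [e z' hz' q⁻¹ (S.inv_mem (hQS hq))]
        _ = z'⁻¹ * ((q'⁻¹ * (q * q' * q⁻¹)) * z') := by group
        _ = z'⁻¹ * (z' * (q'⁻¹ * (q * q' * q⁻¹))) := by
            rw [e z' hz' (q'⁻¹ * (q * q' * q⁻¹)) (S.mul_mem (S.inv_mem (hQS hq'))
              (S.mul_mem (S.mul_mem (hQS hq) (hQS hq')) (S.inv_mem (hQS hq))))]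
        _ = _ := by group
    rw [h1, hWmap]
    refine ⟨⁅(⟨q', hq'⟩ : Q)⁻¹, ⟨q, hq⟩⁆, PGroup.xs_comm_mem hQ _ _, ?_⟩
    rw [map_commutatorElement, commutatorElement_def]
    simp [mul_assoc]
  obtain ⟨l, hlne⟩ : ∃ l : W, l ≠ 1 := by
    have : Nontrivial W := Finite.one_lt_card_iff_nontrivial.mp (hWcard ▸ hpp.one_lt)
    exact exists_ne 1
  have hlord : orderOf (l : Ω) = p := by
    rw [Subgroup.orderOf_coe]
    have hd : orderOf l ∣ p := hWcard ▸ orderOf_dvd_natCard l
    exact ((Nat.dvd_prime hpp).mp hd).resolve_left fun h => hlne (orderOf_eq_one_iff.mp h)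
  have hWl : W = Subgroup.zpowers (l : Ω) := (Subgroup.eq_of_le_of_card_ge
    (Subgroup.zpowers_le.mpr l.2) (by rw [Nat.card_zpowers, hlord, hWcard])).symm
  have hZcard : Nat.card Z = p ^ 2 := by
    have hi : (Q.subgroupOf S).relIndex (Z.subgroupOf S) ≤ p := by
      haveI := PGroup.normal_of_index_eq_prime hS hQi
      exact Nat.le_of_dvd hpp.pos (hQi ▸ Subgroup.relIndex_dvd_index_of_normal _ _)
    refine le_antisymm ?_ ?_
    · have hZQ : Q ⊓ Z ≤ W := fun x hx => ⟨hx.1, Subgroup.centralizer_le hQS hx.2.2⟩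
      have h1 := Subgroup.relIndex_mul_relIndex ⊥ (Q ⊓ Z) Z bot_le inf_le_right
      rw [Subgroup.relIndex_bot_left, Subgroup.relIndex_bot_left, Subgroup.inf_relIndex_right] at h1
      rw [← h1, sq]
      refine Nat.mul_le_mul ((Subgroup.card_le_of_le hZQ).trans hWcard.le) ?_
      rwa [← Subgroup.relIndex_subgroupOf hZS]
    · have := mul_card_le_of_lt (p := p) hS (A := W.subgroupOf S) (B := Z.subgroupOf S)
        (lt_of_le_of_ne (fun x hx => hWZ hx) fun h =>
          hcW (h.symm.le (show (⟨c, hZS hc⟩ : S) ∈ Z.subgroupOf S from hc)))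
      rwa [Nat.card_congr (Subgroup.subgroupOfEquivOfLe (hWQ.trans hQS)).toEquiv, hWcard,
        Nat.card_congr (Subgroup.subgroupOfEquivOfLe hZS).toEquiv, ← sq] at this
  have hSne : S ≠ ⊥ := fun h => by
    rw [h] at hZS
    rw [le_bot_iff.mp hZS, Subgroup.card_bot] at hZcard
    exact (Nat.one_lt_pow two_ne_zero hpp.one_lt).ne hZcard
  -- the invariant attached to an essential subgroup
  have key : ∀ P, F.IsEssential p P → Z ≤ P ∧ ∃ τ ∈ F.autGroup S, ∃ t ∈ F.autGroup P,
      (∀ x ∈ P, autFun t x = autFun τ x) ∧ autFun τ (l : Ω) = (l : Ω)⁻¹ ∧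
      (∀ x ∈ Z, x⁻¹ * autFun τ x ∈ W) ∧ (∃ x ∈ Z, x ≠ 1 ∧ autFun τ x = x) ∧
      ∀ β ∈ F.autGroup P, ∀ x ∈ Z, autFun τ x = x → autFun β x ∈ Z ∧ autFun τ (autFun β x) = autFun β x := by
    intro P hP
    have hPS := hP.1.1
    haveI := finite_of_le hPS
    haveI := finite_mulAut P
    have hZP : Z ≤ P := fun x hx => hP.1.2 P (isConj_refl hPS)
      ⟨hx.1, Subgroup.centralizer_le hPS hx.2⟩
    refine ⟨hZP, ?_⟩
    have hPn : S ≤ Subgroup.normalizer (P : Set Ω) := fun g hg => by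
      rw [Subgroup.mem_normalizer_iff]
      intro x
      constructor
      · intro hx
        have := P.mul_mem hx (hZP (hWZ (hcommW g hg x (hPS hx))))
        rwa [mul_inv_cancel_left] at this
      · intro hx
        have h1 : x = g⁻¹ * (g * x * g⁻¹) * g := by group
        have := P.mul_mem hx (hZP (hWZ (hcommW g⁻¹ (S.inv_mem hg) _ (hPS hx))))
        rw [mul_inv_cancel_left, inv_inv] at this
        exact h1 ▸ this
    have hnotinv : ¬ ∀ α ∈ F.autGroup P, ∀ x ∈ W, autFun α x ∈ W := fun hinv => by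
      refine (essential_lt hS hF hP).not_ge fun g hg => ?_
      refine mem_of_series_two hS hP (hWZ.trans hZP) hinv ⟨hg, hPn hg⟩ (fun x hx => ?_) fun x hx => ?_
      · rw [Subgroup.mem_centralizer_iff.mp (hWZ hx).2 g hg, mul_inv_cancel_right]
      · exact hcommW g hg x (hPS hx)
    have hab : IsMulCommutative P := by
      refine ⟨⟨fun a b => ?_⟩⟩
      by_contra hne
      refine hnotinv fun α hα x hx => ?_
      set k := b⁻¹ * (a * b * a⁻¹) with hk
      have hkW : (k : Ω) ∈ W := hcommW a (hPS a.2) b (hPS b.2)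
      have hk1 : (k : Ω) ≠ 1 := fun h => hne (by
        have h' : k = 1 := Subtype.ext h
        rw [hk, inv_mul_eq_one] at h'
        exact (eq_mul_inv_iff_mul_eq.mp h').symm)
      have hgen : Subgroup.zpowers (k : Ω) = W := by
        refine Subgroup.eq_of_le_of_card_ge (Subgroup.zpowers_le.mpr hkW) ?_
        have hd := Subgroup.orderOf_dvd_natCard W hkW
        rw [hWcard] at hd ⊢
        rw [Nat.card_zpowers]
        exact (((Nat.dvd_prime hpp).mp hd).resolve_left fun h => hk1 (orderOf_eq_one_iff.mp h)).ge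
      rw [← hgen] at hx
      obtain ⟨i, rfl⟩ := hx
      show autFun α ((k : Ω) ^ i) ∈ W
      rw [← SubgroupClass.coe_zpow, autFun_coe, map_zpow, SubgroupClass.coe_zpow]
      refine Subgroup.zpow_mem _ ?_ i
      rw [hk, map_mul, map_inv, map_mul, map_mul, map_inv]
      exact hcommW _ (hPS (α a).2) _ (hPS (α b).2)
    letI : CommGroup P := { (inferInstance : Group P) with mul_comm := hab.is_comm.comm }
    let : MulDistribMulAction (F.autGroup P) P := inferInstance
    have hsm : ∀ (a : F.autGroup P) (x : P), a • x = (a : MulAut P) x := fun a x => rfl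
    obtain ⟨R, hR⟩ := (fullyAutomized_of_fullyNormalized hS hF hP.2.1).2
    obtain ⟨-, -, hn, E, hE⟩ := id hP
    have hNbot : (Cfsg.Inn P).subgroupOf (F.autGroup P) = ⊥ := by
      rw [show Cfsg.Inn P = ⊥ from (Subgroup.eq_bot_iff_forall _).mpr fun α ⟨a, ha⟩ => ha ▸
        MulEquiv.ext fun x => (show a * x * a⁻¹ = x by rw [mul_comm a x, mul_inv_cancel_right]),
        Subgroup.bot_subgroupOf]
    obtain ⟨M, hRM, hMtop, hMemb⟩ : ∃ M : Subgroup (F.autGroup P), (R : Subgroup (F.autGroup P)) ≤ M ∧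
        M ≠ ⊤ ∧ LocalEven61.NormalizersLE p M := by
      have : ((Cfsg.Inn P).subgroupOf (F.autGroup P)).Normal := hn
      let q := QuotientGroup.mk' ((Cfsg.Inn P).subgroupOf (F.autGroup P))
      have hq : Function.Injective q := by
        rw [← MonoidHom.ker_eq_bot_iff, QuotientGroup.ker_mk', hNbot]
      let U := R.mapSurjective (QuotientGroup.mk'_surjective ((Cfsg.Inn P).subgroupOf (F.autGroup P)))
      have hK := closure_linkSet_ne_top U hE
      have hKemb := LocalEven61.normalizersLE_of_spe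
        (spe_closure_linkSet U (Sylow.ne_bot_of_dvd_card U hE.1) hK)
      refine ⟨(Subgroup.closure (linkSet (U : Subgroup _))).comap q, fun r hr => ?_, fun h => hK ?_,
        fun A hA hAp hne => ?_⟩
      · have hu : q r ∈ (U : Subgroup _) := by
          rw [Sylow.coe_mapSurjective]
          exact ⟨r, hr, rfl⟩
        by_cases h1 : q r = 1
        · rw [Subgroup.mem_comap, h1]; exact Subgroup.one_mem _
        · exact Subgroup.subset_closure ⟨q r, hu, h1, by rwa [mul_inv_cancel_right]⟩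
      · exact Subgroup.comap_injective (QuotientGroup.mk'_surjective _) (h.trans (Subgroup.comap_top _).symm)
      · refine fun g hg => hKemb (A.map q) (Subgroup.map_le_iff_le_comap.mpr hA) (hAp.map q)
          (fun h => hne ((Subgroup.map_eq_bot_iff_of_injective _ hq).mp h)) ?_
        exact Subgroup.le_normalizer_map q ⟨g, hg, rfl⟩
    let lP : P := ⟨l, hZP (hWZ l.2)⟩
    have hlP : ∀ x : P, x ∈ Subgroup.zpowers lP ↔ (x : Ω) ∈ W := fun x => by
      rw [hWl]
      constructor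
      · rintro ⟨i, rfl⟩
        exact ⟨i, by simp [lP]⟩
      · rintro ⟨i, hi⟩
        exact ⟨i, Subtype.ext (by rw [SubgroupClass.coe_zpow]; exact hi)⟩
    have hRmem : ∀ r : F.autGroup P, r ∈ (R : Subgroup (F.autGroup P)) ↔
        ∃ g ∈ S, ∀ x : P, (((r : MulAut P) x : P) : Ω) = g * x * g⁻¹ := fun r => by
      rw [hR, Subgroup.mem_subgroupOf, mem_autInducedBy]
    obtain ⟨α₀, hα₀, x₀, hx₀, hx₀'⟩ : ∃ α ∈ F.autGroup P, ∃ x ∈ W, autFun α x ∉ W := by
      by_contra h
      push Not at h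
      exact hnotinv h
    let T : Transvection p (F.autGroup P) P :=
      { R := R
        l := lP
        faith := fun a ha => Subtype.ext (MulEquiv.ext ha)
        ne := fun h => by
          obtain ⟨g, hg, hgP⟩ := SetLike.exists_of_lt (essential_lt hS hF hP)
          have hm : conjAutHom S P ⟨g, hg, hPn hg⟩ ∈ autInducedBy S P := by
            rw [← range_conjAutHom]; exact ⟨_, rfl⟩
          have h1 : (⟨_, autInducedBy_le_autGroup hPS hm⟩ : F.autGroup P) ∈ (R : Subgroup (F.autGroup P)) := by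
            rw [hR]; exact hm
          rw [h, Subgroup.mem_bot] at h1
          have h2 := congrArg Subtype.val h1
          refine hgP (hP.1.2 P (isConj_refl hPS) ⟨hg, Subgroup.mem_centralizer_iff.mpr fun x hx => ?_⟩)
          have h3 := congrArg Subtype.val (DFunLike.congr_fun h2 ⟨x, hx⟩)
          simp only [conjAutHom_apply, OneMemClass.coe_one, MulAut.one_apply] at h3
          exact (mul_inv_eq_iff_eq_mul.mp h3).symm
        order := by rw [← Subgroup.orderOf_coe]; exact hlord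
        move := fun r hr x => by
          obtain ⟨g, hg, hgx⟩ := (hRmem r).mp hr
          rw [hlP, Subgroup.coe_mul, Subgroup.coe_inv, hsm, hgx]
          exact hcommW g hg x (hPS x.2)
        fix := fun r hr => by
          obtain ⟨g, hg, hgx⟩ := (hRmem r).mp hr
          refine Subtype.ext ?_
          rw [hsm, hgx, Subgroup.mem_centralizer_iff.mp (hWZ l.2).2 g hg, mul_inv_cancel_right]
        fixed := Z.subgroupOf P
        mem_fixed := fun x => by
          constructor
          · intro hx r hr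
            obtain ⟨g, hg, hgx⟩ := (hRmem r).mp hr
            refine Subtype.ext ?_
            rw [hsm, hgx, Subgroup.mem_centralizer_iff.mp (Subgroup.mem_subgroupOf.mp hx).2 g hg,
              mul_inv_cancel_right]
          · intro h
            refine ⟨hPS x.2, Subgroup.mem_centralizer_iff.mpr fun g hg => ?_⟩
            have hm : conjAutHom S P ⟨g, hg, hPn hg⟩ ∈ autInducedBy S P := by
              rw [← range_conjAutHom]; exact ⟨_, rfl⟩
            have h1 := congrArg Subtype.val (h ⟨_, autInducedBy_le_autGroup hPS hm⟩ (by rw [hR]; exact hm))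
            rw [hsm, conjAutHom_apply] at h1
            exact mul_inv_eq_iff_eq_mul.mp h1
        g := ⟨α₀, hα₀⟩
        hg := fun h => hx₀' (by
          rw [hWl] at hx₀
          obtain ⟨i, rfl⟩ := hx₀
          show autFun α₀ ((l : Ω) ^ i) ∈ W
          have h1 : ((l : Ω) ^ i) = ((lP ^ i : P) : Ω) := by simp [lP]
          rw [h1, autFun_coe, map_zpow, SubgroupClass.coe_zpow]
          exact Subgroup.zpow_mem _ ((hlP _).mp h) i)
        M := M
        le := hRM
        ne_top := hMtop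
        emb := hMemb }
    obtain ⟨t, ht, htm, htc, ⟨x₁, hx₁, hx₁1, hx₁t⟩, hinvt⟩ := T.exists_invariant hp2 (by
      show Nat.card (Z.subgroupOf P) = p ^ 2
      rw [Nat.card_congr (Subgroup.subgroupOfEquivOfLe hZP).toEquiv, hZcard])
    have hiso : IsIso F P P (autFun (t : MulAut P)) := (mem_autGroup hPS).mp t.2
    have hext : IsExtendable S P (autFun (t : MulAut P)) S := by
      refine ⟨le_rfl, fun g hg => ⟨hPn hg, g, hg, fun x hx => ?_⟩⟩
      have hm : conjAutHom S P ⟨g, hg, hPn hg⟩ ∈ autInducedBy S P := by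
        rw [← range_conjAutHom]; exact ⟨_, rfl⟩
      have h1 := congrArg (fun a : F.autGroup P => (((a : MulAut P) ⟨x, hx⟩ : P) : Ω))
        (htc ⟨_, autInducedBy_le_autGroup hPS hm⟩ (by show _ ∈ (R : Subgroup (F.autGroup P)); rw [hR]; exact hm))
      simp only [Subgroup.coe_mul, MulAut.mul_apply, conjAutHom_apply] at h1
      rw [autFun_of_mem _ hx, autFun_of_mem _ (conj_mem_of_mem_normalizer (hPn hg) hx)]
      exact h1
    obtain ⟨f', hf', he⟩ := receptive_extend (receptive_of_fullyNormalized hS hF hP.2.1) hiso hext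
    rw [sup_eq_right.mpr hPS] at hf'
    have hfS : IsIso F S S f' := ⟨hf', Set.Subset.antisymm (by rintro _ ⟨x, hx, rfl⟩; exact hf'.apply_mem hx)
      fun y hy => surjOn_of_card_le le_rfl hf'.injOn (fun x hx => hf'.apply_mem hx) le_rfl y hy⟩
    obtain ⟨τ, hτ, hτe⟩ := hfS.exists_aut
    have hagree : ∀ x ∈ P, autFun (t : MulAut P) x = autFun τ x := fun x hx => by
      rw [← he hx]
      exact (hτe (hPS hx)).symm
    have hval : ∀ x : P, autFun τ (x : Ω) = ((t • x : P) : Ω) := fun x => by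
      rw [← hagree x x.2, autFun_coe]
      rfl
    refine ⟨τ, hτ, t, t.2, hagree, ?_, fun x hx => ?_, ⟨(x₁ : Ω), hx₁, fun h => hx₁1 (Subtype.ext h), ?_⟩,
      fun β hβ x hx hxt => ?_⟩
    · rw [show (l : Ω) = ((lP : P) : Ω) from rfl, hval, ht, Subgroup.coe_inv]
    · have h1 := (hlP _).mp (htm ⟨x, hZP hx⟩ hx)
      rw [Subgroup.coe_mul, Subgroup.coe_inv] at h1
      rw [show x = ((⟨x, hZP hx⟩ : P) : Ω) from rfl, hval]
      exact h1
    · rw [hval, hx₁t]
    · obtain ⟨h1, h2⟩ := hinvt ⟨β, hβ⟩ ⟨x, hZP hx⟩ hx (Subtype.ext ((hval ⟨x, hZP hx⟩).symm.trans hxt))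
      rw [show x = ((⟨x, hZP hx⟩ : P) : Ω) from rfl, autFun_coe]
      exact ⟨h1, (hval _).trans (congrArg Subtype.val h2)⟩
  -- automorphisms of `S` act on `Z` through a `p'`-group
  haveI := finite_mulAut S
  have hfixZ : ∀ σ ∈ F.autGroup S, autFun σ (l : Ω) = l → ∀ y ∈ Z, y⁻¹ * autFun σ y ∈ W →
      autFun σ y = y := by
    intro σ hσ hl' y hy hyW
    let u : F.autGroup S := ⟨σ, hσ⟩
    let ys : S := ⟨y, hZS hy⟩
    let K : Subgroup (F.autGroup S) :=
      { carrier := {a | (a : MulAut S) ys = ys}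
        one_mem' := rfl
        mul_mem' := fun {a b} ha hb => by
          show ((a : MulAut S) * (b : MulAut S)) ys = ys
          rw [MulAut.mul_apply, hb, ha]
        inv_mem' := fun {a} ha => by
          show (a : MulAut S)⁻¹ ys = ys
          exact (MulEquiv.symm_apply_eq _).mpr (Eq.symm ha) }
    have hσi := (mem_autGroup le_rfl).mp hσ
    have hiter : ∀ n : ℕ, (((u ^ n : F.autGroup S) : MulAut S) ys : Ω) = y * (y⁻¹ * autFun σ y) ^ n := by
      intro n
      induction n with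
      | zero => simp [ys]
      | succ n ih =>
        rw [pow_succ', Subgroup.coe_mul, MulAut.mul_apply, ← autFun_coe, ih]
        show autFun σ _ = _
        have hz : autFun σ (y⁻¹ * autFun σ y) = y⁻¹ * autFun σ y := by
          have h0 := hyW
          rw [hWl] at h0
          obtain ⟨i, hi⟩ := h0
          rw [← hi]
          show autFun σ ((l : Ω) ^ i) = (l : Ω) ^ i
          have h1 : (l : Ω) ^ i = (((⟨l, hZS (hWZ l.2)⟩ : S) ^ i : S) : Ω) := by simp
          rw [h1, autFun_coe, map_zpow]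
          congr 2
          exact Subtype.ext ((autFun_coe σ ⟨l, hZS (hWZ l.2)⟩).symm.trans hl')
        rw [hσi.1.map_mul (hZS hy) (S.pow_mem (hZS (hWZ hyW)) n), hσi.1.map_pow (hZS (hWZ hyW)), hz,
          pow_succ', ← mul_assoc, mul_inv_cancel_left]
    have hp' : u ^ p ∈ K := by
      refine Subtype.ext ((hiter p).trans ?_)
      have hd : orderOf (y⁻¹ * autFun σ y) ∣ p := hWcard ▸ Subgroup.orderOf_dvd_natCard W hyW
      rw [orderOf_dvd_iff_pow_eq_one.mp hd, mul_one]
    obtain ⟨k, m, hm, hkm⟩ := Nat.exists_eq_pow_mul_and_not_dvd (orderOf_pos u).ne' p hpp.ne_one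
    have hm' : u ^ m ∈ K := by
      obtain ⟨R, hR⟩ := (fullyAutomized_of_fullyNormalized hS hF (fullyNormalized_self (F := F))).2
      rw [autInducedBy_self_eq_inn] at hR
      haveI : (R : Subgroup (F.autGroup S)).Normal := hR ▸ inn_subgroupOf_normal
      have hpow : (u ^ m) ^ p ^ k = 1 := by rw [← pow_mul, mul_comm, ← hkm, pow_orderOf_eq_one]
      have hP : IsPGroup p (Subgroup.zpowers (u ^ m)) := by
        obtain ⟨j, -, hj⟩ := (Nat.dvd_prime_pow hpp).mp (orderOf_dvd_of_pow_eq_one hpow)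
        exact IsPGroup.of_card (n := j) (by rw [Nat.card_zpowers, hj])
      have hmem : u ^ m ∈ (R : Subgroup (F.autGroup S)) := ((hP.inf_normalizer_sylow R).le
        ⟨Subgroup.mem_zpowers _, (Subgroup.normalizer_eq_top (R : Subgroup (F.autGroup S))).ge (Subgroup.mem_top _)⟩).2
      rw [hR, Subgroup.mem_subgroupOf] at hmem
      obtain ⟨g, hg⟩ := hmem
      show ((u ^ m : F.autGroup S) : MulAut S) ys = ys
      rw [← hg]
      refine Subtype.ext ?_
      show (g : Ω) * y * (g : Ω)⁻¹ = y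
      rw [Subgroup.mem_centralizer_iff.mp hy.2 g g.2, mul_inv_cancel_right]
    have hb : Int.gcdA p m * p + Int.gcdB p m * m = 1 := by
      have := Int.gcd_eq_gcd_ab (p : ℤ) m
      rw [Int.gcd_natCast_natCast, (hpp.coprime_iff_not_dvd.mpr hm).gcd_eq_one] at this
      rw [mul_comm (Int.gcdA p m), mul_comm (Int.gcdB p m)]
      exact_mod_cast this.symm
    have : u ^ (1 : ℤ) ∈ K := by
      rw [← hb, zpow_add, mul_comm (Int.gcdA p m), mul_comm (Int.gcdB p m), zpow_mul, zpow_mul,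
        zpow_natCast, zpow_natCast]
      exact Subgroup.mul_mem _ (Subgroup.zpow_mem _ hp' _) (Subgroup.zpow_mem _ hm' _)
    rw [zpow_one] at this
    rw [autFun_of_mem σ (hZS hy)]
    exact congrArg Subtype.val (this : σ ys = ys)
  have hWinv : ∀ σ ∈ F.autGroup S, ∀ x ∈ W, autFun σ x ∈ W := by
    obtain ⟨a, ha⟩ := PGroup.xs_exists_not_mem_center hQ
    obtain ⟨b, hb⟩ : ∃ b : Q, b⁻¹ * (a * b * a⁻¹) ≠ 1 := by
      by_contra h
      push Not at h
      exact ha (Subgroup.mem_center_iff.mpr fun g => by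
        have := inv_mul_eq_one.mp (h g)
        exact eq_mul_inv_iff_mul_eq.mp this)
    intro σ _ x hx
    set k := (⟨b, hQS b.2⟩ : S)⁻¹ * (⟨a, hQS a.2⟩ * ⟨b, hQS b.2⟩ * (⟨a, hQS a.2⟩ : S)⁻¹) with hk
    have hkW : (k : Ω) ∈ W := hcommW a (hQS a.2) b (hQS b.2)
    have hgen : Subgroup.zpowers (k : Ω) = W := by
      refine Subgroup.eq_of_le_of_card_ge (Subgroup.zpowers_le.mpr hkW) ?_
      have hd := Subgroup.orderOf_dvd_natCard W hkW
      rw [hWcard] at hd ⊢
      rw [Nat.card_zpowers]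
      refine (((Nat.dvd_prime hpp).mp hd).resolve_left fun h => hb (Subtype.ext ?_)).ge
      exact orderOf_eq_one_iff.mp h
    rw [← hgen] at hx
    obtain ⟨i, rfl⟩ := hx
    show autFun σ ((k : Ω) ^ i) ∈ W
    rw [← SubgroupClass.coe_zpow, autFun_coe, map_zpow, SubgroupClass.coe_zpow]
    refine Subgroup.zpow_mem _ ?_ i
    rw [hk, map_mul, map_inv, map_mul, map_mul, map_inv]
    exact hcommW _ (σ _).2 _ (σ _).2
  have hZinv : ∀ σ ∈ F.autGroup S, ∀ x ∈ Z, autFun σ x ∈ Z := fun σ _ x hx => by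
    rw [autFun_of_mem σ (hZS hx)]
    refine ⟨(σ _).2, Subgroup.mem_centralizer_iff.mpr fun g hg => ?_⟩
    have h : σ.symm ⟨g, hg⟩ * ⟨x, hZS hx⟩ = ⟨x, hZS hx⟩ * σ.symm ⟨g, hg⟩ :=
      Subtype.ext (Subgroup.mem_centralizer_iff.mp hx.2 _ (σ.symm _).2)
    have h2 := congrArg σ h
    rw [map_mul, map_mul, MulEquiv.apply_symm_apply] at h2
    exact congrArg Subtype.val h2
  have hagree : ∀ τ₁ ∈ F.autGroup S, ∀ τ₂ ∈ F.autGroup S, autFun τ₁ (l : Ω) = (l : Ω)⁻¹ →
      (∀ x ∈ Z, x⁻¹ * autFun τ₁ x ∈ W) → autFun τ₂ (l : Ω) = (l : Ω)⁻¹ →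
      (∀ x ∈ Z, x⁻¹ * autFun τ₂ x ∈ W) → ∀ x ∈ Z, autFun τ₁ x = autFun τ₂ x := by
    intro τ₁ hτ₁ τ₂ hτ₂ e₁ m₁ e₂ m₂
    have hfix : ∀ τ ∈ F.autGroup S, autFun τ (l : Ω) = (l : Ω)⁻¹ →
        (∀ x ∈ Z, x⁻¹ * autFun τ x ∈ W) → ∀ y ∈ Z, autFun τ (autFun τ₂ y) = y := fun τ hτ e m => by
      have hi₂ := (mem_autGroup le_rfl).mp hτ₂
      have hi := (mem_autGroup le_rfl).mp hτ
      have hZ₂ : ∀ y ∈ Z, autFun τ₂ y ∈ Z := fun y hy => by
        have := Z.mul_mem hy (hWZ (m₂ y hy))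
        rwa [mul_inv_cancel_left] at this
      intro y hy
      rw [← Function.comp_apply (f := autFun τ) (g := autFun τ₂), ← autFun_mul τ τ₂ (hZS hy)]
      refine hfixZ (τ * τ₂) (mul_mem hτ hτ₂) ?_ y hy ?_
      · rw [autFun_mul τ τ₂ (hZS (hWZ l.2)), Function.comp_apply, e₂, hi.1.map_inv (hZS (hWZ l.2)), e, inv_inv]
      · rw [autFun_mul τ τ₂ (hZS hy), Function.comp_apply]
        have h1 := W.mul_mem (m₂ y hy) (m _ (hZ₂ y hy))
        rwa [mul_assoc, mul_inv_cancel_left] at h1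
    intro x hx
    have hi₂ := (mem_autGroup le_rfl).mp hτ₂
    have hz : autFun τ₂ x ∈ Z := by
      have := Z.mul_mem hx (hWZ (m₂ x hx))
      rwa [mul_inv_cancel_left] at this
    have h1 := hfix τ₂ hτ₂ e₂ m₂ x hx
    have h2 := hfix τ₁ hτ₁ e₁ m₁ _ hz
    rwa [h1] at h2
  by_cases hex : ∃ P, F.IsEssential p P
  · obtain ⟨P₀, hP₀⟩ := hex
    obtain ⟨hZP₀, τ₀, hτ₀, t₀, ht₀, ha₀, hl₀, hm₀, ⟨x₀, hx₀, hx₀1, hx₀t⟩, hinv₀⟩ := key P₀ hP₀
    have hiso₀ := (mem_autGroup le_rfl).mp hτ₀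
    let X : Subgroup Ω :=
      { carrier := {x | x ∈ Z ∧ autFun τ₀ x = x}
        one_mem' := ⟨Z.one_mem, hiso₀.1.map_one⟩
        mul_mem' := fun {x y} hx hy => ⟨Z.mul_mem hx.1 hy.1, by
          rw [hiso₀.1.map_mul (hZS hx.1) (hZS hy.1), hx.2, hy.2]⟩
        inv_mem' := fun {x} hx => ⟨Z.inv_mem hx.1, by rw [hiso₀.1.map_inv (hZS hx.1), hx.2]⟩ }
    refine normal_core_ne_bot (F := F) (Q := X) ?_ (fun h => hx₀1 ?_) hO
    · refine isNormal_of_invariant hS hF fun P hP => ?_
      have hle : ∀ P, P = S ∨ F.IsEssential p P → Z ≤ P ∧ ∀ α ∈ F.autGroup P, ∀ x ∈ X, autFun α x ∈ X := by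
        rintro P (hPS | hP)
        · rw [hPS]
          refine ⟨hZS, fun σ hσ x hx => ⟨hZinv σ hσ x hx.1, ?_⟩⟩
          have hlZ := hWZ l.2
          have hin : ∀ y ∈ S, autFun σ⁻¹ (autFun σ y) = y := fun y hy => by
            rw [autFun_of_mem σ hy, autFun_coe]
            exact congrArg Subtype.val (σ.symm_apply_apply _)
          have hout : ∀ y ∈ S, autFun σ (autFun σ⁻¹ y) = y := fun y hy => by
            rw [autFun_of_mem _ hy, autFun_coe]
            exact congrArg Subtype.val (σ.apply_symm_apply _)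
          have hi₀ := (mem_autGroup le_rfl).mp hτ₀
          have hiσ := (mem_autGroup le_rfl).mp hσ
          have hconj : ∀ y ∈ S, autFun (σ * τ₀ * σ⁻¹) y = autFun σ (autFun τ₀ (autFun σ⁻¹ y)) := by
            intro y hy
            rw [autFun_mul _ _ hy, Function.comp_apply,
              autFun_mul σ τ₀ (((mem_autGroup le_rfl).mp (inv_mem hσ)).mem hy), Function.comp_apply]
          have hlinv : ∀ y ∈ W, autFun τ₀ y = y⁻¹ := fun y hy => by
            rw [hWl] at hy
            obtain ⟨i, rfl⟩ := hy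
            show autFun τ₀ ((l : Ω) ^ i) = ((l : Ω) ^ i)⁻¹
            have h1 : (l : Ω) ^ i = (((⟨l, hZS hlZ⟩ : S) ^ i : S) : Ω) := by simp
            rw [h1, autFun_coe, map_zpow, SubgroupClass.coe_zpow, SubgroupClass.coe_zpow,
              show ((τ₀ ⟨l, hZS hlZ⟩ : S) : Ω) = (l : Ω)⁻¹ from
                (autFun_coe τ₀ ⟨l, hZS hlZ⟩).symm.trans hl₀, inv_zpow]
          have hag := hagree (σ * τ₀ * σ⁻¹) (mul_mem (mul_mem hσ hτ₀) (inv_mem hσ)) τ₀ hτ₀ (by
              rw [hconj _ (hZS hlZ), hlinv _ (hWinv _ (inv_mem hσ) _ l.2),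
                hiσ.1.map_inv (((mem_autGroup le_rfl).mp (inv_mem hσ)).mem (hZS hlZ)), hout _ (hZS hlZ)])
            (fun y hy => by
              rw [hconj y (hZS hy)]
              have hy' := hZinv _ (inv_mem hσ) y hy
              have h1 := hWinv σ hσ _ (hm₀ _ hy')
              rw [hiσ.1.map_mul (S.inv_mem (hZS hy')) (hi₀.mem (hZS hy')), hiσ.1.map_inv (hZS hy'),
                hout y (hZS hy)] at h1
              exact h1) hl₀ hm₀ _ (hZinv σ hσ x hx.1)
          rw [← hag, hconj _ (hZS (hZinv σ hσ x hx.1)), hin x (hZS hx.1), hx.2]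
        · obtain ⟨hZP, τ, hτ, t, ht, ha, hl, hm, -, hinv⟩ := key P hP
          refine ⟨hZP, fun α hα x hx => ?_⟩
          have hag := hagree τ hτ τ₀ hτ₀ hl hm hl₀ hm₀
          obtain ⟨h1, h2⟩ := hinv α hα x hx.1 ((hag x hx.1).trans hx.2)
          exact ⟨h1, (hag _ h1).symm.trans h2⟩
      obtain ⟨hZP, hinv⟩ := hle P hP
      have hXP : X ≤ P := fun x hx => hZP hx.1
      refine ⟨hXP, fun α hα => Set.Subset.antisymm (by rintro _ ⟨x, hx, rfl⟩; exact hinv α hα x hx)
        fun y hy => ⟨autFun (α⁻¹ : MulAut P) y, hinv _ (Subgroup.inv_mem _ hα) y hy, ?_⟩⟩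
      rw [autFun_of_mem _ (hXP hy), autFun_coe]
      exact congrArg Subtype.val (α.apply_symm_apply _)
    · exact Subgroup.mem_bot.mp (h ▸ ⟨hx₀, hx₀t⟩)
  · refine normal_core_ne_bot (F := F) (Q := S) (isNormal_of_invariant hS hF fun P hP => ?_) hSne hO
    rcases hP with rfl | hP
    · exact ⟨le_rfl, fun α _ => autFun_image α⟩
    · exact absurd ⟨P, hP⟩ hex

end Cfsg.Agent.Fusion91
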