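import Cfsg.Agent.Fusion91.ExtraspecialIndexP

set_option autoImplicit false
set_option linter.style.haveILetI false

/-! Essential subgroups inside an extraspecial subgroup of index `p`. -/

namespace Cfsg.Agent.Fusion91

open Cfsg Cfsg.Agent.Fusion
open Cfsg.FusionSystem (normalizerIn centralizerIn)
open scoped commutatorElement

variable {Ω : Type*} [Group Ω] {S : Subgroup Ω} {F : Cfsg.FusionSystem S} {p : ℕ} [Fact p.Prime]

theorem strongly_embedded_abelian [Finite S] {P : Subgroup Ω} (hP : F.IsEssential p P)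
    (hab : IsMulCommutative P) (R : Sylow p (F.autGroup P)) :
    ∃ M : Subgroup (F.autGroup P), (R : Subgroup (F.autGroup P)) ≤ M ∧ M ≠ ⊤ ∧
      LocalEven61.NormalizersLE p M := by
  haveI := finite_of_le hP.1.1
  haveI := finite_mulAut P
  obtain ⟨-, -, hn, E, hE⟩ := hP
  have : ((Cfsg.Inn P).subgroupOf (F.autGroup P)).Normal := hn
  have hNbot : (Cfsg.Inn P).subgroupOf (F.autGroup P) = ⊥ := by
    rw [show Cfsg.Inn P = ⊥ from (Subgroup.eq_bot_iff_forall _).mpr fun α ⟨a, ha⟩ => ha ▸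
      MulEquiv.ext fun x => (show a * x * a⁻¹ = x by rw [hab.is_comm.comm a x, mul_inv_cancel_right]),
      Subgroup.bot_subgroupOf]
  let q := QuotientGroup.mk' ((Cfsg.Inn P).subgroupOf (F.autGroup P))
  have hq : Function.Injective q := by
    rw [← MonoidHom.ker_eq_bot_iff, QuotientGroup.ker_mk', hNbot]
  let U := R.mapSurjective (QuotientGroup.mk'_surjective ((Cfsg.Inn P).subgroupOf (F.autGroup P)))
  have hK := closure_linkSet_ne_top U hE
  have hKemb := LocalEven61.normalizersLE_of_spe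
    (spe_closure_linkSet U (Sylow.ne_bot_of_dvd_card U hE.1) hK)
  refine ⟨(Subgroup.closure (linkSet (U : Subgroup _))).comap q, fun r hr => ?_, fun h => hK ?_,
    fun A hA hAp hne => ?_⟩
  · have hu : q r ∈ (U : Subgroup _) := by
      rw [Sylow.coe_mapSurjective]
      exact ⟨r, hr, rfl⟩
    by_cases h1 : q r = 1
    · rw [Subgroup.mem_comap, h1]; exact Subgroup.one_mem _
    · exact Subgroup.subset_closure ⟨q r, hu, h1, by rwa [mul_inv_cancel_right]⟩
  · exact Subgroup.comap_injective (QuotientGroup.mk'_surjective _) (h.trans (Subgroup.comap_top _).symm)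
  · refine fun g hg => hKemb (A.map q) (Subgroup.map_le_iff_le_comap.mpr hA) (hAp.map q)
      (fun h => hne ((Subgroup.map_eq_bot_iff_of_injective _ hq).mp h)) ?_
    exact Subgroup.le_normalizer_map q ⟨g, hg, rfl⟩

/-- No proper subgroup of an extraspecial group `Q` of index `p`, `|S| ≥ p⁶`, is essential. -/
theorem eq_of_essential_le [Finite S] (hS : IsPGroup p S) {Q : Subgroup Ω} (hQS : Q ≤ S)
    (hQ : Cfsg.IsExtraspecial p Q) (hQi : (Q.subgroupOf S).index = p) (h6 : p ^ 6 ≤ Nat.card S)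
    (hF : F.IsSaturated p) {P : Subgroup Ω} (hPQ : P ≤ Q) (hP : F.IsEssential p P) : P = Q := by
  classical
  have hpp := (Fact.out : p.Prime)
  by_contra hne
  have hPS := hP.1.1
  haveI := finite_of_le hQS
  haveI := finite_of_le hPS
  haveI := finite_mulAut P
  set W := (Subgroup.center Q).map Q.subtype with hWdef
  have hWQ : W ≤ Q := Subgroup.map_subtype_le _
  have hWcard : Nat.card W = p := by
    rw [hWdef, Subgroup.card_map_of_injective Q.subtype_injective, hQ.2]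
  haveI : Finite W := Nat.finite_of_card_ne_zero (hWcard ▸ hpp.ne_zero)
  have hWcen : ∀ w ∈ W, ∀ x ∈ Q, x * w = w * x := by
    rintro _ ⟨w, hw, rfl⟩ x hx
    exact congrArg Subtype.val (Subgroup.mem_center_iff.mp hw ⟨x, hx⟩)
  have hcenW : ∀ x ∈ Q, (∀ y ∈ Q, y * x = x * y) → x ∈ W := fun x hx h =>
    ⟨⟨x, hx⟩, Subgroup.mem_center_iff.mpr fun y => Subtype.ext (h y y.2), rfl⟩
  have hWP : W ≤ P := fun w hw => hP.1.2 P (isConj_refl hPS) ⟨hQS (hWQ hw),
    Subgroup.mem_centralizer_iff.mpr fun x hx => hWcen w hw x (hPQ hx)⟩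
  have hcomm : ∀ s ∈ Q, ∀ t ∈ Q, t⁻¹ * (s * t * s⁻¹) ∈ W := fun s hs t ht => by
    refine ⟨⁅(⟨t, ht⟩ : Q)⁻¹, ⟨s, hs⟩⁆, PGroup.xs_comm_mem hQ _ _, ?_⟩
    rw [map_commutatorElement, commutatorElement_def]
    simp [mul_assoc]
  have hPn : ∀ g ∈ Q, g ∈ Subgroup.normalizer (P : Set Ω) := fun g hg => by
    rw [Subgroup.mem_normalizer_iff]
    intro x
    constructor
    · intro hx
      have := P.mul_mem hx (hWP (hcomm g hg x (hPQ hx)))
      rwa [mul_inv_cancel_left] at this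
    · intro hx
      have h1 : x = g⁻¹ * (g * x * g⁻¹) * g := by group
      have := P.mul_mem hx (hWP (hcomm g⁻¹ (Q.inv_mem hg) _ (hPQ hx)))
      rw [mul_inv_cancel_left, inv_inv] at this
      exact h1 ▸ this
  have hnotinv : ¬ ∀ α ∈ F.autGroup P, ∀ x ∈ W, autFun α x ∈ W := fun hinv => by
    refine hne (le_antisymm hPQ fun g hg => ?_)
    exact mem_of_series_two hS hP hWP hinv ⟨hQS hg, hPn g hg⟩
      (fun x hx => by rw [hWcen x hx g hg, mul_inv_cancel_right]) fun x hx => hcomm g hg x (hPQ hx)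
  have hgen : ∀ k ∈ W, k ≠ 1 → Subgroup.zpowers k = W := fun k hk hk1 => by
    refine Subgroup.eq_of_le_of_card_ge (Subgroup.zpowers_le.mpr hk) ?_
    have hd := Subgroup.orderOf_dvd_natCard W hk
    rw [hWcard] at hd ⊢
    rw [Nat.card_zpowers]
    exact (((Nat.dvd_prime hpp).mp hd).resolve_left fun h => hk1 (orderOf_eq_one_iff.mp h)).ge
  have hab : IsMulCommutative P := by
    refine ⟨⟨fun a b => ?_⟩⟩
    by_contra hab
    refine hnotinv fun α _ x hx => ?_
    set k := b⁻¹ * (a * b * a⁻¹) with hk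
    have hk1 : (k : Ω) ≠ 1 := fun h => hab (by
      have h' : k = 1 := Subtype.ext h
      rw [hk, inv_mul_eq_one] at h'
      exact (eq_mul_inv_iff_mul_eq.mp h').symm)
    rw [← hgen _ (hcomm a (hPQ a.2) b (hPQ b.2) : (k : Ω) ∈ W) hk1] at hx
    obtain ⟨i, rfl⟩ := hx
    show autFun α ((k : Ω) ^ i) ∈ W
    rw [← SubgroupClass.coe_zpow, autFun_coe, map_zpow, SubgroupClass.coe_zpow]
    refine Subgroup.zpow_mem _ ?_ i
    rw [hk, map_mul, map_inv, map_mul, map_mul, map_inv]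
    exact hcomm _ (hPQ (α a).2) _ (hPQ (α b).2)
  letI : CommGroup P := { (inferInstance : Group P) with mul_comm := hab.is_comm.comm }
  obtain ⟨l, hlW, hl1⟩ := (Subgroup.bot_or_exists_ne_one W).resolve_left fun h => by
    rw [h, Subgroup.card_bot] at hWcard
    exact hpp.one_lt.ne hWcard
  let lP : P := ⟨l, hWP hlW⟩
  have hlP : ∀ x : P, x ∈ Subgroup.zpowers lP ↔ (x : Ω) ∈ W := fun x => by
    rw [← hgen l hlW hl1]
    constructor
    · rintro ⟨i, rfl⟩
      exact ⟨i, by simp [lP]⟩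
    · rintro ⟨i, hi⟩
      exact ⟨i, Subtype.ext (by rw [SubgroupClass.coe_zpow]; exact hi)⟩
  obtain ⟨α₀, hα₀, x₀, hx₀, hx₀'⟩ : ∃ α ∈ F.autGroup P, ∃ x ∈ W, autFun α x ∉ W := by
    by_contra h
    push Not at h
    exact hnotinv h
  -- the automorphisms induced by `Q`
  let c : Q →* F.autGroup P :=
    MonoidHom.mk' (fun g => ⟨conjAutHom S P ⟨g, hQS g.2, hPn g g.2⟩,
      autInducedBy_le_autGroup hPS (by rw [← range_conjAutHom]; exact ⟨_, rfl⟩)⟩) fun a b => Subtype.ext (MulEquiv.ext fun x => Subtype.ext (by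
        show ((a * b : Q) : Ω) * x * ((a * b : Q) : Ω)⁻¹ = (a : Ω) * ((b : Ω) * x * (b : Ω)⁻¹) * (a : Ω)⁻¹
        rw [Subgroup.coe_mul]
        group))
  have hcsm : ∀ (g : Q) (x : P), ((c g • x : P) : Ω) = g * x * (g : Ω)⁻¹ := fun g x => rfl
  obtain ⟨R, hR⟩ := (fullyAutomized_of_fullyNormalized hS hF hP.2.1).2
  obtain ⟨M, hRM, hMtop, hMemb⟩ := strongly_embedded_abelian hP hab R
  have hcR : c.range ≤ (R : Subgroup (F.autGroup P)) := by
    rintro _ ⟨g, rfl⟩
    rw [hR, Subgroup.mem_subgroupOf, ← range_conjAutHom]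
    exact ⟨_, rfl⟩
  have hQp : IsPGroup p Q := hS.to_le hQS
  have hsize : p < Nat.card c.range := by
    by_contra hle
    push Not at hle
    have hker : c.ker ≤ P.subgroupOf Q := fun g hg => by
      rw [Subgroup.mem_subgroupOf]
      refine hP.1.2 P (isConj_refl hPS) ⟨hQS g.2, Subgroup.mem_centralizer_iff.mpr fun x hx => ?_⟩
      have h1 := hcsm g ⟨x, hx⟩
      rw [MonoidHom.mem_ker.mp hg, one_smul] at h1
      exact (mul_inv_eq_iff_eq_mul.mp h1.symm).symm
    have hQcard : p ^ 5 ≤ Nat.card Q := by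
      have h1 := Subgroup.card_mul_index (Q.subgroupOf S)
      rw [hQi, Nat.card_congr (Subgroup.subgroupOfEquivOfLe hQS).toEquiv] at h1
      refine Nat.le_of_mul_le_mul_right ?_ hpp.pos
      rw [h1, ← pow_succ]
      exact h6
    have hidx : (P.subgroupOf Q).index ≤ p := by
      refine le_trans ?_ hle
      rw [← Subgroup.index_ker]
      exact Nat.le_of_dvd (Nat.pos_of_ne_zero Subgroup.FiniteIndex.index_ne_zero)
        (Subgroup.index_dvd_of_le hker)
    obtain ⟨b, hb, hbP⟩ := SetLike.exists_of_lt (lt_of_le_of_ne hPQ hne)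
    let δ : P →* Ω := MonoidHom.mk' (fun x => (x : Ω)⁻¹ * (b * x * b⁻¹)) fun x y => by
      have hy := hcomm b hb y (hPQ y.2)
      have hyx : (x : Ω) * ((y : Ω)⁻¹ * (b * y * b⁻¹)) = (y : Ω)⁻¹ * (b * y * b⁻¹) * x :=
        hWcen _ hy x (hPQ x.2)
      have hxx := hWcen _ (hcomm b hb x (hPQ x.2)) (y : Ω)⁻¹ (Q.inv_mem (hPQ y.2))
      push_cast
      calc ((x : Ω) * y)⁻¹ * (b * ((x : Ω) * y) * b⁻¹)
          = (y : Ω)⁻¹ * ((x : Ω)⁻¹ * (b * x * b⁻¹)) * (b * y * b⁻¹) := by group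
        _ = ((x : Ω)⁻¹ * (b * x * b⁻¹)) * (y : Ω)⁻¹ * (b * y * b⁻¹) := by rw [hxx]
        _ = _ := by group
    have hδr : δ.range ≤ W := by
      rintro _ ⟨x, rfl⟩
      exact hcomm b hb x (hPQ x.2)
    have hδk : δ.ker.map P.subtype ≤ W := by
      rintro _ ⟨x, hx, rfl⟩
      refine hcenW x (hPQ x.2) fun y hy => ?_
      -- `Q` is generated by `P` and `b`
      let K := Subgroup.centralizer ({⟨(x : Ω), hPQ x.2⟩} : Set Q)
      have hPK : P.subgroupOf Q ≤ K := fun w hw => Subgroup.mem_centralizer_singleton_iff.mpr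
        (Subtype.ext (congrArg Subtype.val (hab.is_comm.comm ⟨(w : Ω), hw⟩ x) :))
      have hbK : (⟨b, hb⟩ : Q) ∈ K := Subgroup.mem_centralizer_singleton_iff.mpr (Subtype.ext (by
        have h1 : (x : Ω)⁻¹ * (b * x * b⁻¹) = 1 := hx
        rw [inv_mul_eq_one, eq_mul_inv_iff_mul_eq] at h1
        exact h1.symm))
      have hK : K = ⊤ := eq_top_of_lt hQp
        (lt_of_le_of_ne hPK fun h => hbP (Subgroup.mem_subgroupOf.mp (h.symm ▸ hbK))) (by
          rw [← Subgroup.card_mul_index (P.subgroupOf Q), mul_comm p]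
          exact Nat.mul_le_mul_left _ hidx)
      exact congrArg Subtype.val (Subgroup.mem_centralizer_singleton_iff.mp
        ((by rw [hK]; exact Subgroup.mem_top _) : (⟨y, hy⟩ : Q) ∈ K))
    have hPle : Nat.card P ≤ p * p := by
      rw [← Subgroup.card_mul_index δ.ker, Subgroup.index_ker]
      refine Nat.mul_le_mul ?_ ((Subgroup.card_le_of_le hδr).trans hWcard.le)
      rw [← Subgroup.card_map_of_injective P.subtype_injective]
      exact (Subgroup.card_le_of_le hδk).trans hWcard.le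
    have h1 := Subgroup.card_mul_index (P.subgroupOf Q)
    rw [Nat.card_congr (Subgroup.subgroupOfEquivOfLe hPQ).toEquiv] at h1
    have h2 : p ^ 5 ≤ p * p * p := hQcard.trans (h1 ▸ Nat.mul_le_mul hPle hidx)
    rw [show p * p * p = p ^ 3 by ring] at h2
    exact absurd h2 (not_le.mpr (Nat.pow_lt_pow_right hpp.one_lt (by norm_num)))
  refine no_large_transvection (A := F.autGroup P) (E := P) c.range
    (R.isPGroup'.to_le hcR) hsize lP (fun a ha => Subtype.ext (MulEquiv.ext ha)) ?_ ?_ ?_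
    (g₁ := ⟨α₀, hα₀⟩) ?_ (hcR.trans hRM) hMtop hMemb
  · rw [← Subgroup.orderOf_coe]
    show orderOf l = p
    rw [← Nat.card_zpowers, hgen l hlW hl1, hWcard]
  · rintro _ ⟨g, rfl⟩ x
    rw [hlP, Subgroup.coe_mul, Subgroup.coe_inv, hcsm]
    exact hcomm g g.2 x (hPQ x.2)
  · rintro _ ⟨g, rfl⟩
    refine Subtype.ext ?_
    rw [hcsm]
    show (g : Ω) * l * (g : Ω)⁻¹ = l
    rw [hWcen l hlW g g.2, mul_inv_cancel_right]
  · intro h
    refine hx₀' ?_
    rw [← hgen l hlW hl1] at hx₀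
    obtain ⟨i, rfl⟩ := hx₀
    show autFun α₀ (l ^ i) ∈ W
    have h1 : l ^ i = ((lP ^ i : P) : Ω) := by simp [lP]
    rw [h1, autFun_coe, map_zpow, SubgroupClass.coe_zpow]
    exact Subgroup.zpow_mem _ ((hlP _).mp h) i

end Cfsg.Agent.Fusion91
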