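import Cfsg.Agent.Fusion91.Basic
import Cfsg.Agent.Lib.Fusion.Saturation

set_option autoImplicit false

/-! The image of a saturated fusion system under a surjective morphism is saturated. -/

namespace Cfsg.Agent.Fusion91

open Cfsg Cfsg.FusionSystem
open Cfsg.Agent.Fusion (IsMap IsIso autFun conjAutHom)

variable {Ω : Type*} [Group Ω] {S : Subgroup Ω} {Ω' : Type*} [Group Ω'] {S' : Subgroup Ω'}
  {F : Cfsg.FusionSystem S} {F' : Cfsg.FusionSystem S'} {α : S →* Ω'}

open Classical in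
/-- A homomorphism on `S`, as a function on the ambient group. -/
noncomputable def push (α : S →* Ω') : Ω → Ω' :=
  fun x => if h : x ∈ S then α ⟨x, h⟩ else 1

theorem push_of_mem {x : Ω} (h : x ∈ S) : push α x = α ⟨x, h⟩ := dif_pos h

theorem push_mul {x y : Ω} (hx : x ∈ S) (hy : y ∈ S) : push α (x * y) = push α x * push α y := by
  rw [push_of_mem hx, push_of_mem hy, push_of_mem (S.mul_mem hx hy), ← map_mul]
  rfl

theorem push_inv {x : Ω} (hx : x ∈ S) : push α x⁻¹ = (push α x)⁻¹ := by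
  rw [push_of_mem hx, push_of_mem (S.inv_mem hx), ← map_inv]
  rfl

theorem push_conj {g x : Ω} (hg : g ∈ S) (hx : x ∈ S) :
    push α (g * x * g⁻¹) = push α g * push α x * (push α g)⁻¹ := by
  rw [push_mul (S.mul_mem hg hx) (S.inv_mem hg), push_mul hg hx, push_inv hg]

theorem mem_preimage_push {Q : Subgroup Ω'} {x : Ω} :
    x ∈ preimageAlong α Q ↔ x ∈ S ∧ push α x ∈ Q := by
  rw [mem_preimageAlong]
  exact ⟨fun ⟨h, h'⟩ => ⟨h, by rwa [push_of_mem h]⟩, fun ⟨h, h'⟩ => ⟨h, by rwa [push_of_mem h] at h'⟩⟩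

theorem mem_imageAlong_push {P : Subgroup Ω} (hP : P ≤ S) {y : Ω'} :
    y ∈ imageAlong α P ↔ ∃ x ∈ P, push α x = y := by
  rw [mem_imageAlong]
  exact ⟨fun ⟨s, hs, he⟩ => ⟨s, hs, by rw [push_of_mem s.2]; exact he⟩,
    fun ⟨x, hx, he⟩ => ⟨⟨x, hP hx⟩, hx, by rwa [push_of_mem (hP hx)] at he⟩⟩

theorem exists_push_eq (hr : α.range = S') {y : Ω'} (hy : y ∈ S') : ∃ x ∈ S, push α x = y := by
  rw [← hr] at hy
  obtain ⟨s, rfl⟩ := hy
  exact ⟨s, s.2, push_of_mem s.2⟩

theorem push_mem (hr : α.range = S') {x : Ω} (hx : x ∈ S) : push α x ∈ S' := by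
  rw [← hr, push_of_mem hx]
  exact ⟨_, rfl⟩

/-- A map of the source induces a map of the target. -/
theorem exists_push_map (hα : F.IsSurjectiveMorphism F' α) {P : Subgroup Ω} {f : Ω → Ω}
    (hf : IsMap F P f) :
    ∃ g, IsMap F' (imageAlong α P) g ∧ ∀ x ∈ P, g (push α x) = push α (f x) := by
  obtain ⟨φ, hφ, hφf⟩ := hf
  obtain ⟨φ', hφ', hP, hv, hi, he⟩ := hα.1.2 P φ hφ
  refine ⟨Fusion.extFun φ', Fusion.isMap_extFun hφ', fun x hx => ?_⟩
  have h1 := he ⟨x, hx⟩
  rw [push_of_mem (hP hx), Fusion.extFun_of_mem φ' (hi ⟨x, hx⟩), ← hφf ⟨x, hx⟩,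
    push_of_mem (hv ⟨x, hx⟩)]
  exact h1

/-- A map of the target is induced by a map on the full preimage. -/
theorem exists_lift_map (hα : F.IsSurjectiveMorphism F' α) {Q : Subgroup Ω'} {g : Ω' → Ω'}
    (hg : IsMap F' Q g) :
    ∃ f, IsMap F (preimageAlong α Q) f ∧ ∀ x ∈ preimageAlong α Q, push α (f x) = g (push α x) := by
  obtain ⟨ψ, hψ, hψg⟩ := hg
  obtain ⟨φ, hφ, hP, hv, hi, he⟩ := hα.2.2 Q (F'.le_of_mem hψ).1 ψ hψ
  refine ⟨Fusion.extFun φ, Fusion.isMap_extFun hφ, fun x hx => ?_⟩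
  have h1 := he ⟨x, hx⟩
  rw [hψg] at h1
  rw [push_of_mem (hP hx), Fusion.extFun_of_mem φ hx, push_of_mem (hv ⟨x, hx⟩)]
  exact h1.symm

theorem push_map_kernel (hα : F.IsSurjectiveMorphism F' α) {P : Subgroup Ω} {f : Ω → Ω}
    (hf : IsMap F P f) {x : Ω} (hx : x ∈ P) (h1 : push α x = 1) : push α (f x) = 1 := by
  obtain ⟨g, hg, hgp⟩ := exists_push_map hα hf
  rw [← hgp x hx, h1, hg.map_one]

/-- A map whose source contains the kernel carries it onto itself. -/
theorem exists_kernel_preimage [Finite S] (hα : F.IsSurjectiveMorphism F' α) {Q : Subgroup Ω'}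
    {f : Ω → Ω} (hf : IsMap F (preimageAlong α Q) f) {y : Ω} (hy : y ∈ S) (h1 : push α y = 1) :
    ∃ x ∈ preimageAlong α Q, push α x = 1 ∧ f x = y := by
  have hK : ∀ z ∈ preimageAlong α (⊥ : Subgroup Ω'), z ∈ preimageAlong α Q := fun z hz =>
    mem_preimage_push.mpr ⟨(mem_preimage_push.mp hz).1,
      (Subgroup.mem_bot.mp (mem_preimage_push.mp hz).2).symm ▸ Q.one_mem⟩
  obtain ⟨x, hx, hxy⟩ := Fusion.surjOn_of_card_le (preimageAlong_le α ⊥)
    (hf.injOn.mono hK) (fun z hz => mem_preimage_push.mpr ⟨hf.apply_mem (hK z hz),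
      Subgroup.mem_bot.mpr (push_map_kernel hα hf (hK z hz)
        (Subgroup.mem_bot.mp (mem_preimage_push.mp hz).2))⟩) le_rfl y
    (mem_preimage_push.mpr ⟨hy, Subgroup.mem_bot.mpr h1⟩)
  exact ⟨x, hK x hx, Subgroup.mem_bot.mp (mem_preimage_push.mp hx).2, hxy⟩

theorem exists_lift_iso [Finite S] (hα : F.IsSurjectiveMorphism F' α) {Q R : Subgroup Ω'}
    {g : Ω' → Ω'} (hg : IsIso F' Q R g) :
    ∃ f, IsIso F (preimageAlong α Q) (preimageAlong α R) f ∧
      ∀ x ∈ preimageAlong α Q, push α (f x) = g (push α x) := by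
  obtain ⟨f, hf, he⟩ := exists_lift_map hα hg.1
  refine ⟨f, ⟨hf, Set.ext fun y => ⟨?_, fun hy => ?_⟩⟩, he⟩
  · rintro ⟨x, hx, rfl⟩
    exact mem_preimage_push.mpr ⟨hf.apply_mem hx, he x hx ▸ hg.mem (mem_preimage_push.mp hx).2⟩
  · obtain ⟨hyS, hyR⟩ := mem_preimage_push.mp hy
    obtain ⟨z, hz, hze⟩ := hg.exists_preimage hyR
    obtain ⟨x, hxS, rfl⟩ := exists_push_eq hα.2.1 (hg.dom_le hz)
    have hx : x ∈ preimageAlong α Q := mem_preimage_push.mpr ⟨hxS, hz⟩
    have hfx := hf.apply_mem hx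
    obtain ⟨k, hk, -, hke⟩ := exists_kernel_preimage hα hf (S.mul_mem (S.inv_mem hfx) hyS) (by
      rw [push_mul (S.inv_mem hfx) hyS, push_inv hfx, he x hx, hze, inv_mul_cancel])
    exact ⟨x * k, mul_mem hx hk, by rw [hf.map_mul hx hk, hke, mul_inv_cancel_left]⟩

/-- Every conjugacy class of the target has a member with fully normalized preimage. -/
theorem exists_normalized_preimage [Finite S] (hα : F.IsSurjectiveMorphism F' α) {Q : Subgroup Ω'}
    (hQ : Q ≤ S') :
    ∃ R, F'.IsConj Q R ∧ R ≤ S' ∧ F.IsFullyNormalized (preimageAlong α R) := by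
  obtain ⟨P₁, hc, hfn⟩ := Fusion.exists_fullyNormalized (F := F) (preimageAlong_le α Q)
  obtain ⟨f, hf⟩ := Fusion.isConj_iff.mp hc
  obtain ⟨g, hg, hgp⟩ := exists_push_map hα hf.1
  rw [imageAlong_preimageAlong α (hα.2.1.symm ▸ hQ)] at hg
  have hP₁ : P₁ = preimageAlong α (imageAlong α P₁) := by
    refine le_antisymm (le_preimageAlong_imageAlong α hf.cod_le) fun y hy => ?_
    obtain ⟨hyS, hy'⟩ := mem_preimage_push.mp hy
    obtain ⟨z, hz, hze⟩ := (mem_imageAlong_push hf.cod_le).mp hy'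
    have hzS := hf.cod_le hz
    obtain ⟨k, hk, -, hke⟩ := exists_kernel_preimage hα hf.1 (S.mul_mem (S.inv_mem hzS) hyS) (by
      rw [push_mul (S.inv_mem hzS) hyS, push_inv hzS, hze, inv_mul_cancel])
    rw [show y = z * (z⁻¹ * y) by group]
    exact mul_mem hz (hke ▸ hf.mem hk)
  refine ⟨imageAlong α P₁, IsIso.isConj (f := g) ⟨hg, Set.ext fun y => ⟨?_, fun hy => ?_⟩⟩, ?_,
    hP₁ ▸ hfn⟩
  · rintro ⟨z, hz, rfl⟩
    obtain ⟨x, hx, rfl⟩ := exists_push_eq hα.2.1 (hQ hz)
    have hx' : x ∈ preimageAlong α Q := mem_preimage_push.mpr ⟨hx, hz⟩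
    exact (mem_imageAlong_push hf.cod_le).mpr ⟨f x, hf.mem hx', (hgp x hx').symm⟩
  · obtain ⟨z, hz, rfl⟩ := (mem_imageAlong_push hf.cod_le).mp hy
    obtain ⟨x, hx, rfl⟩ := hf.exists_preimage hz
    exact ⟨_, (mem_preimage_push.mp hx).2, hgp x hx⟩
  · intro y hy
    obtain ⟨z, hz, rfl⟩ := (mem_imageAlong_push hf.cod_le).mp hy
    exact push_mem hα.2.1 (hf.cod_le hz)

/-- The automorphism `γ` is induced by `β`. -/
def InducesAut (α : S →* Ω') {R : Subgroup Ω'} (β : MulAut (preimageAlong α R)) (γ : MulAut R) : Prop :=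
  ∀ x : preimageAlong α R, push α ((β x : preimageAlong α R) : Ω) = autFun γ (push α x)

theorem inducesAut_unique (hr : α.range = S') {R : Subgroup Ω'} (hR : R ≤ S')
    {β : MulAut (preimageAlong α R)} {γ γ' : MulAut R} (h : InducesAut α β γ)
    (h' : InducesAut α β γ') : γ = γ' := by
  refine MulEquiv.ext fun y => Subtype.ext ?_
  obtain ⟨x, hx, he⟩ := exists_push_eq hr (hR y.2)
  have hx' : x ∈ preimageAlong α R := mem_preimage_push.mpr ⟨hx, he ▸ y.2⟩
  have h1 := (h ⟨x, hx'⟩).symm.trans (h' ⟨x, hx'⟩)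
  rw [show push α x = (y : Ω') from he] at h1
  simpa using h1

theorem exists_inducesAut [Finite S] [Finite S'] (hα : F.IsSurjectiveMorphism F' α) {R : Subgroup Ω'}
    (hR : R ≤ S') (β : F.autGroup (preimageAlong α R)) :
    ∃ γ : F'.autGroup R, InducesAut α (β : MulAut _) (γ : MulAut R) := by
  have hβ := (Fusion.mem_autGroup (preimageAlong_le α R)).mp β.2
  obtain ⟨g, hg, hgp⟩ := exists_push_map hα hβ.1
  rw [imageAlong_preimageAlong α (hα.2.1.symm ▸ hR)] at hg
  have hv : ∀ z ∈ R, g z ∈ R := by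
    intro z hz
    obtain ⟨x, hx, rfl⟩ := exists_push_eq hα.2.1 (hR hz)
    have hx' : x ∈ preimageAlong α R := mem_preimage_push.mpr ⟨hx, hz⟩
    rw [hgp x hx']
    exact (mem_preimage_push.mp (hβ.mem hx')).2
  obtain ⟨γ, hγ, hγe⟩ := IsIso.exists_aut (F := F') (P := R) ⟨hg, Set.ext fun y =>
    ⟨fun ⟨x, hx, he⟩ => he ▸ hv x hx, fun hy => Fusion.surjOn_of_card_le hR hg.injOn hv le_rfl y hy⟩⟩
  refine ⟨⟨γ, hγ⟩, fun x => ?_⟩
  show _ = autFun γ (push α x)
  rw [hγe (mem_preimage_push.mp x.2).2, hgp x x.2, Fusion.autFun_coe]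

theorem inducesAut_comp {R : Subgroup Ω'} {β β' : MulAut (preimageAlong α R)} {γ γ' : MulAut R}
    (h : InducesAut α β γ) (h' : InducesAut α β' γ') : InducesAut α (β * β') (γ * γ') := by
  intro x
  rw [MulAut.mul_apply, Fusion.autFun_mul γ γ' (mem_preimage_push.mp x.2).2, Function.comp_apply,
    h (β' x), h' x]

/-- The homomorphism of automorphism groups induced by a surjective morphism. -/
noncomputable def autPush [Finite S] [Finite S'] (hα : F.IsSurjectiveMorphism F' α) {R : Subgroup Ω'}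
    (hR : R ≤ S') : F.autGroup (preimageAlong α R) →* F'.autGroup R :=
  MonoidHom.mk' (fun β => (exists_inducesAut hα hR β).choose) fun β β' => Subtype.ext
    (inducesAut_unique hα.2.1 hR (exists_inducesAut hα hR (β * β')).choose_spec
      (inducesAut_comp (exists_inducesAut hα hR β).choose_spec (exists_inducesAut hα hR β').choose_spec))

theorem autPush_induces [Finite S] [Finite S'] (hα : F.IsSurjectiveMorphism F' α) {R : Subgroup Ω'}
    (hR : R ≤ S') (β : F.autGroup (preimageAlong α R)) :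
    InducesAut α (β : MulAut _) (autPush hα hR β : MulAut R) :=
  (exists_inducesAut hα hR β).choose_spec

theorem autPush_eq [Finite S] [Finite S'] (hα : F.IsSurjectiveMorphism F' α) {R : Subgroup Ω'}
    (hR : R ≤ S') {β : F.autGroup (preimageAlong α R)} {γ : MulAut R}
    (h : InducesAut α (β : MulAut _) γ) : (autPush hα hR β : MulAut R) = γ :=
  inducesAut_unique hα.2.1 hR (autPush_induces hα hR β) h

theorem autPush_surjective [Finite S] [Finite S'] (hα : F.IsSurjectiveMorphism F' α) {R : Subgroup Ω'}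
    (hR : R ≤ S') : Function.Surjective (autPush hα hR) := by
  rintro ⟨γ, hγ⟩
  obtain ⟨f, hf, he⟩ := exists_lift_iso hα ((Fusion.mem_autGroup hR).mp hγ)
  obtain ⟨β, hβ, hβe⟩ := hf.exists_aut
  refine ⟨⟨β, hβ⟩, Subtype.ext (autPush_eq hα hR fun x => ?_)⟩
  rw [← Fusion.autFun_coe, hβe x.2, he x x.2]

theorem push_mem_normalizer (hr : α.range = S') {R : Subgroup Ω'} (hR : R ≤ S') {g : Ω} (hg : g ∈ S)
    (h : push α g ∈ Subgroup.normalizer (R : Set Ω')) :
    g ∈ Subgroup.normalizer (preimageAlong α R : Set Ω) := by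
  refine Subgroup.mem_normalizer_iff.mpr fun x => ⟨fun hx => ?_, fun hx => ?_⟩
  · obtain ⟨hxS, hxR⟩ := mem_preimage_push.mp hx
    refine mem_preimage_push.mpr ⟨S.mul_mem (S.mul_mem hg hxS) (S.inv_mem hg), ?_⟩
    rw [push_conj hg hxS]
    exact Fusion.conj_mem_of_mem_normalizer h hxR
  · obtain ⟨hxS, hxR⟩ := mem_preimage_push.mp hx
    have hxS' : x ∈ S := by
      have := S.mul_mem (S.mul_mem (S.inv_mem hg) hxS) hg
      rwa [show g⁻¹ * (g * x * g⁻¹) * g = x by group] at this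
    refine mem_preimage_push.mpr ⟨hxS', (Subgroup.mem_normalizer_iff.mp h _).mpr ?_⟩
    rwa [push_conj hg hxS'] at hxR

/-- The automorphisms induced by `S` map onto those induced by `S'`. -/
theorem autPush_map_induced [Finite S] [Finite S'] (hα : F.IsSurjectiveMorphism F' α) {R : Subgroup Ω'}
    (hR : R ≤ S') :
    ((autInducedBy S (preimageAlong α R)).subgroupOf (F.autGroup (preimageAlong α R))).map (autPush hα hR) =
      (autInducedBy S' R).subgroupOf (F'.autGroup R) := by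
  ext γ
  constructor
  · rintro ⟨β, hβ, rfl⟩
    obtain ⟨g, hg, hgx⟩ := Fusion.mem_autInducedBy.mp hβ
    refine Fusion.mem_autInducedBy.mpr ⟨push α g, push_mem hα.2.1 hg, fun y => ?_⟩
    obtain ⟨x, hx, he⟩ := exists_push_eq hα.2.1 (hR y.2)
    have hx' : x ∈ preimageAlong α R := mem_preimage_push.mpr ⟨hx, he ▸ y.2⟩
    have h1 := autPush_induces hα hR β ⟨x, hx'⟩
    erw [hgx ⟨x, hx'⟩] at h1
    rw [push_conj hg hx, he,
      Fusion.autFun_coe] at h1
    exact h1.symm
  · intro hγ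
    obtain ⟨h, hh, hhx⟩ := Fusion.mem_autInducedBy.mp (Subgroup.mem_subgroupOf.mp hγ)
    obtain ⟨g, hg, rfl⟩ := exists_push_eq hα.2.1 hh
    have hgN := push_mem_normalizer hα.2.1 hR hg (Fusion.mem_normalizer_of_induces hhx)
    have hc : conjAutHom S (preimageAlong α R) ⟨g, hg, hgN⟩ ∈ autInducedBy S (preimageAlong α R) := by
      rw [← Fusion.range_conjAutHom]
      exact ⟨_, rfl⟩
    refine ⟨⟨_, Fusion.autInducedBy_le_autGroup (preimageAlong_le α R) hc⟩, hc,
      Subtype.ext (autPush_eq hα hR fun x => ?_)⟩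
    show push α (g * x * g⁻¹) = autFun (γ : MulAut R) (push α x)
    rw [push_conj hg (preimageAlong_le α R x.2), Fusion.autFun_of_mem _ (mem_preimage_push.mp x.2).2]
    exact (hhx ⟨_, (mem_preimage_push.mp x.2).2⟩).symm

theorem fullyAutomized_image [Finite S] [Finite S'] {p : ℕ} [Fact p.Prime] (hS : IsPGroup p S)
    (hF : F.IsSaturated p) (hα : F.IsSurjectiveMorphism F' α) {R : Subgroup Ω'} (hR : R ≤ S')
    (hfn : F.IsFullyNormalized (preimageAlong α R)) : F'.IsFullyAutomized p R := by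
  refine ⟨hR, ?_⟩
  obtain ⟨T, hT⟩ := (Fusion.fullyAutomized_of_fullyNormalized hS hF hfn).2
  have : Finite (MulAut (preimageAlong α R)) := by
    have := finite_of_le (S := S) (preimageAlong_le α R)
    exact Fusion.finite_mulAut _
  exact ⟨T.mapSurjective (autPush_surjective hα hR), by
    rw [Sylow.coe_mapSurjective, hT, autPush_map_induced]⟩

/-- An isomorphism onto the preimage may be corrected by an element of the kernel so that it
transports a given subgroup of induced automorphisms into `Aut_S`. -/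
theorem exists_kernel_conj [Finite S] [Finite S'] {p : ℕ} [Fact p.Prime] (hS : IsPGroup p S)
    (hF : F.IsSaturated p) (hα : F.IsSurjectiveMorphism F' α) {R : Subgroup Ω'} (hR : R ≤ S')
    (hfn : F.IsFullyNormalized (preimageAlong α R))
    (B : Subgroup (F.autGroup (preimageAlong α R))) (hB : IsPGroup p B)
    (hBS : ∀ b ∈ B, (autPush hα hR b : MulAut R) ∈ autInducedBy S' R) :
    ∃ k, autPush hα hR k = 1 ∧ ∀ b ∈ B, ((k * b * k⁻¹ : F.autGroup _) : MulAut _) ∈
      autInducedBy S (preimageAlong α R) := by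
  obtain ⟨T, hT⟩ := (Fusion.fullyAutomized_of_fullyNormalized hS hF hfn).2
  have : Finite (MulAut (preimageAlong α R)) := by
    have := finite_of_le (S := S) (preimageAlong_le α R)
    exact Fusion.finite_mulAut _
  let A := ((autInducedBy S' R).subgroupOf (F'.autGroup R)).comap (autPush hα hR)
  have hTA : (T : Subgroup (F.autGroup (preimageAlong α R))) ≤ A := by
    intro t ht
    show autPush hα hR t ∈ (autInducedBy S' R).subgroupOf (F'.autGroup R)
    rw [← autPush_map_induced hα hR, ← hT]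
    exact ⟨t, ht, rfl⟩
  have hBA : B ≤ A := fun b hb => Subgroup.mem_subgroupOf.mpr (hBS b hb)
  have hBp : IsPGroup p (B.subgroupOf A) :=
    hB.of_equiv (Subgroup.subgroupOfEquivOfLe hBA).symm
  obtain ⟨Q, hQ⟩ := hBp.exists_le_sylow
  obtain ⟨a, ha⟩ := MulAction.exists_smul_eq A Q (T.subtype hTA)
  have ha' : autPush hα hR a ∈ (autInducedBy S' R).subgroupOf (F'.autGroup R) := a.2
  rw [← autPush_map_induced hα hR] at ha'
  obtain ⟨t, ht, hte⟩ := ha'
  refine ⟨t⁻¹ * (a : F.autGroup _), by rw [map_mul, map_inv, hte, inv_mul_cancel], fun b hb => ?_⟩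
  have h1 : a * ⟨b, hBA hb⟩ * a⁻¹ ∈ (T.subtype hTA : Subgroup A) := by
    rw [← ha]
    exact Subgroup.mem_map.mpr ⟨⟨b, hBA hb⟩, hQ hb, rfl⟩
  rw [Sylow.coe_subtype, Subgroup.mem_subgroupOf, hT] at h1
  have h2 := Subgroup.mem_subgroupOf.mp (Subgroup.mul_mem _ (Subgroup.mul_mem _ (Subgroup.inv_mem _ ht) h1) ht)
  convert h2 using 2
  push_cast
  group

theorem receptive_image [Finite S] [Finite S'] {p : ℕ} [Fact p.Prime] (hS : IsPGroup p S)
    (hF : F.IsSaturated p) (hα : F.IsSurjectiveMorphism F' α) {R : Subgroup Ω'} (hR : R ≤ S')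
    (hfn : F.IsFullyNormalized (preimageAlong α R)) : F'.IsReceptive R := by
  refine Fusion.isReceptive_of hR fun P θ hθ M hPM hM => ?_
  obtain ⟨f, hf, hfe⟩ := exists_lift_iso hα hθ
  have hMn : ∀ g ∈ preimageAlong α M,
      g ∈ normalizerIn S (preimageAlong α P) := fun g hg => by
    obtain ⟨hgS, hgM⟩ := mem_preimage_push.mp hg
    exact ⟨hgS, push_mem_normalizer hα.2.1 hθ.dom_le hgS (hM.2 _ hgM).1⟩
  let c : preimageAlong α M →* F.autGroup (preimageAlong α R) :=
    hf.autEquiv.toMonoidHom.comp ((((conjAutHom S (preimageAlong α P)).comp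
      (Subgroup.inclusion hMn))).codRestrict (F.autGroup (preimageAlong α P))
      (fun g => Fusion.autInducedBy_le_autGroup (preimageAlong_le α P) (by
        rw [← Fusion.range_conjAutHom]; exact ⟨_, rfl⟩)))
  have hc : ∀ (g : preimageAlong α M) (x : preimageAlong α P),
      ((((c g : F.autGroup (preimageAlong α R)) : MulAut ↥(preimageAlong α R)) (hf.equiv x) :
        ↥(preimageAlong α R)) : Ω) =
        f ((g : Ω) * x * (g : Ω)⁻¹) := fun g x => Fusion.congr_apply_equiv hf _ x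
  have hB : IsPGroup p c.range := by
    rw [MonoidHom.range_eq_map]
    exact ((hS.to_le (preimageAlong_le α M)).to_subgroup ⊤).map c
  obtain ⟨k, hk1, hk⟩ := exists_kernel_conj hS hF hα hR hfn c.range hB (by
    rintro _ ⟨g, rfl⟩
    obtain ⟨hgS, hgM⟩ := mem_preimage_push.mp g.2
    obtain ⟨h, hh, H⟩ := (hM.2 _ hgM).2
    refine Fusion.mem_autInducedBy.mpr ⟨h, hh, fun y => ?_⟩
    obtain ⟨z, hz, hze⟩ := hθ.exists_preimage y.2
    obtain ⟨x, hx, rfl⟩ := exists_push_eq hα.2.1 (hθ.dom_le hz)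
    have hx' : x ∈ preimageAlong α P := mem_preimage_push.mpr ⟨hx, hz⟩
    have h1 := autPush_induces hα hR (c g) (hf.equiv ⟨x, hx'⟩)
    rw [hc g ⟨x, hx'⟩, hfe _ (Fusion.conj_mem_of_mem_normalizer (hMn g g.2).2 hx'), push_conj hgS hx,
      H _ hz, hf.equiv_apply, hfe x hx', hze, Fusion.autFun_coe] at h1
    exact h1.symm)
  have hkiso := (Fusion.mem_autGroup (preimageAlong_le α R)).mp k.2
  have hf₁ := hf.comp hkiso
  have hf₁e : ∀ x ∈ preimageAlong α P, push α ((autFun (k : MulAut ↥(preimageAlong α R)) ∘ f) x) = θ (push α x) := by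
    intro x hx
    have h1 := autPush_induces hα hR k ⟨f x, hf.mem hx⟩
    rw [hk1] at h1
    rw [Function.comp_apply, Fusion.autFun_of_mem _ (hf.mem hx), h1, OneMemClass.coe_one,
      Fusion.autFun_one (mem_preimage_push.mp (hf.mem hx)).2, id_eq, hfe x hx]
  have hext : Fusion.IsExtendable S (preimageAlong α P) (autFun (k : MulAut ↥(preimageAlong α R)) ∘ f)
      (preimageAlong α M) := by
    refine ⟨preimageAlong_le α M, fun g hg => ⟨(hMn g hg).2, ?_⟩⟩
    obtain ⟨h, hh, H⟩ := Fusion.mem_autInducedBy.mp (hk (c ⟨g, hg⟩) ⟨_, rfl⟩)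
    refine ⟨h, hh, fun x hx => ?_⟩
    have h1 := H ((k : MulAut _) (hf.equiv ⟨x, hx⟩))
    simp only [Subgroup.coe_mul, InvMemClass.coe_inv, MulAut.mul_apply, MulAut.inv_apply_self] at h1
    rw [Function.comp_apply, Function.comp_apply, ← hc ⟨g, hg⟩ ⟨x, hx⟩, Fusion.autFun_coe, h1,
      ← hf.equiv_apply ⟨x, hx⟩, Fusion.autFun_coe]
  obtain ⟨χ, hχ, hχe⟩ := Fusion.receptive_extend
    (Fusion.receptive_of_fullyCentralized hS hF (Fusion.fullyCentralized_of_fullyNormalized hS hF hfn))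
    hf₁ hext
  obtain ⟨g', hg', hge⟩ := exists_push_map hα (hχ.mono le_sup_right)
  rw [imageAlong_preimageAlong α (hα.2.1.symm ▸ hM.1)] at hg'
  refine ⟨g', hg', fun z hz => ?_⟩
  obtain ⟨x, hx, rfl⟩ := exists_push_eq hα.2.1 (hθ.dom_le hz)
  have hx' : x ∈ preimageAlong α P := mem_preimage_push.mpr ⟨hx, hz⟩
  rw [hge x (mem_preimage_push.mpr ⟨hx, hPM hz⟩), hχe hx', hf₁e x hx']

theorem isSaturated_image [Finite S] {p : ℕ} [Fact p.Prime] (hS : IsPGroup p S)
    (hF : F.IsSaturated p) (hα : F.IsSurjectiveMorphism F' α) : F'.IsSaturated p := by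
  have : Finite S' := by
    rw [← hα.2.1]
    exact (Set.finite_range α).to_subtype
  intro Q hQ
  obtain ⟨R, hc, hR, hfn⟩ := exists_normalized_preimage hα hQ
  exact ⟨R, hc, fullyAutomized_image hS hF hα hR hfn, receptive_image hS hF hα hR hfn⟩

end Cfsg.Agent.Fusion91
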