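import Cfsg.Agent.Lib.Fusion.Hyperfocal

set_option autoImplicit false

/-! Saturated subsystems of `p`-power index over a given subgroup are unique. -/

namespace Cfsg.Agent.Fusion91

open Cfsg Cfsg.Agent.Fusion
open Cfsg.FusionSystem (normalizerIn)

variable {Ω : Type*} [Group Ω] {S T : Subgroup Ω} {F : Cfsg.FusionSystem S}
  {E E₂ : Cfsg.FusionSystem T} {p : ℕ} [Fact p.Prime]

/-- A saturated subsystem over `T` lies in every subsystem over `T` containing the residuals. -/
theorem le_of_pResidual_le [Finite T] (hT : IsPGroup p T) (hE : E.IsSaturated p)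
    (hEF : E.IsSubsystemOf F)
    (h₂ : ∀ P : Subgroup Ω, P ≤ T →
      (pResidual p (F.autGroup P)).map (F.autGroup P).subtype ≤ E₂.autGroup P) : E ≤ E₂ := by
  refine le_of_autGroup_le_cr hT hE E₂ fun P _ _ hP α hα => ?_
  have hPT := hP.1
  have : Finite P := finite_of_le hPT
  have : Finite (MulAut P) := finite_mulAut P
  obtain ⟨R, hR⟩ := (fullyAutomized_of_fullyNormalized hT hE hP).2
  have hle : E.autGroup P ≤ F.autGroup P := autGroup_mono (hEF P)
  let i : E.autGroup P →* F.autGroup P := Subgroup.inclusion hle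
  suffices key : (⊤ : Subgroup (E.autGroup P)) ≤ (E₂.autGroup P).comap (E.autGroup P).subtype from
    key (Subgroup.mem_top (⟨α, hα⟩ : E.autGroup P))
  rw [← Transfer.sylow_sup_pResidual_eq_top R, sup_le_iff]
  refine ⟨?_, fun a ha => ?_⟩
  · rw [hR]
    exact fun a ha => autInducedBy_le_autGroup (F := E₂) hPT (Subgroup.mem_subgroupOf.mp ha)
  · exact h₂ P hPT ⟨i a, Transfer.map_pResidual_le i ⟨a, ha, rfl⟩, rfl⟩

theorem hom_eq_of_pPower [Finite T] (hT : IsPGroup p T) (hE : E.IsSaturated p) (hE₂ : E₂.IsSaturated p)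
    (h : E.HasPPowerIndexIn F p) (h₂ : E₂.HasPPowerIndexIn F p) (P : Subgroup Ω) :
    E.Hom P = E₂.Hom P :=
  Set.Subset.antisymm (le_of_pResidual_le hT hE h.1 h₂.2.2 P) (le_of_pResidual_le hT hE₂ h₂.1 h.2.2 P)

end Cfsg.Agent.Fusion91
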