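import Cfsg.Agent.Fusion91.Basic
import Cfsg.Agent.Lib.Fusion.Saturation

set_option autoImplicit false

/-! The direct product of two saturated fusion systems is saturated. -/

namespace Cfsg.Agent.Fusion91

open Cfsg Cfsg.FusionSystem
open Cfsg.Agent.Fusion (IsMap IsIso autFun)
open scoped Pointwise

variable {Ω₁ Ω₂ : Type*} [Group Ω₁] [Group Ω₂] {S₁ : Subgroup Ω₁} {S₂ : Subgroup Ω₂}
  {F₁ : Cfsg.FusionSystem S₁} {F₂ : Cfsg.FusionSystem S₂} {E : Cfsg.FusionSystem (S₁.prod S₂)}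

theorem mem_map_fst {P : Subgroup (Ω₁ × Ω₂)} {x : Ω₁ × Ω₂} (h : x ∈ P) :
    x.1 ∈ P.map (MonoidHom.fst Ω₁ Ω₂) := ⟨x, h, rfl⟩

theorem mem_map_snd {P : Subgroup (Ω₁ × Ω₂)} {x : Ω₁ × Ω₂} (h : x ∈ P) :
    x.2 ∈ P.map (MonoidHom.snd Ω₁ Ω₂) := ⟨x, h, rfl⟩

theorem isMap_prod_iff (hE : Cfsg.FusionSystem.IsProductSystem F₁ F₂ E) {P : Subgroup (Ω₁ × Ω₂)}
    {f : Ω₁ × Ω₂ → Ω₁ × Ω₂} :
    IsMap E P f ↔ P ≤ S₁.prod S₂ ∧ ∃ f₁ f₂, IsMap F₁ (P.map (MonoidHom.fst Ω₁ Ω₂)) f₁ ∧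
      IsMap F₂ (P.map (MonoidHom.snd Ω₁ Ω₂)) f₂ ∧ ∀ x ∈ P, f x = (f₁ x.1, f₂ x.2) := by
  constructor
  · rintro ⟨φ, hφ, hφf⟩
    obtain ⟨hP, φ₁, h₁, φ₂, h₂, he⟩ := (hE P φ).mp hφ
    refine ⟨hP, Fusion.extFun φ₁, Fusion.extFun φ₂, Fusion.isMap_extFun h₁, Fusion.isMap_extFun h₂,
      fun x hx => ?_⟩
    rw [← hφf ⟨x, hx⟩, he ⟨x, hx⟩ (mem_map_fst hx) (mem_map_snd hx),
      Fusion.extFun_of_mem φ₁ (mem_map_fst hx), Fusion.extFun_of_mem φ₂ (mem_map_snd hx)]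
  · rintro ⟨hP, f₁, f₂, ⟨φ₁, h₁, e₁⟩, ⟨φ₂, h₂, e₂⟩, he⟩
    let φ : P →* Ω₁ × Ω₂ :=
      (φ₁.comp (((MonoidHom.fst Ω₁ Ω₂).comp P.subtype).codRestrict (P.map (MonoidHom.fst Ω₁ Ω₂))
        fun x => mem_map_fst x.2)).prod
      (φ₂.comp (((MonoidHom.snd Ω₁ Ω₂).comp P.subtype).codRestrict (P.map (MonoidHom.snd Ω₁ Ω₂))
        fun x => mem_map_snd x.2))
    have hv : ∀ x : P, φ x = (f₁ (x : Ω₁ × Ω₂).1, f₂ (x : Ω₁ × Ω₂).2) := fun x =>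
      Prod.ext (e₁ _) (e₂ _)
    exact ⟨φ, (hE P φ).mpr ⟨hP, φ₁, h₁, φ₂, h₂, fun x ha hb => rfl⟩,
      fun x => (hv x).trans (he x x.2).symm⟩

theorem mem_prod_of_proj {P : Subgroup (Ω₁ × Ω₂)} {Q₁ : Subgroup Ω₁} {Q₂ : Subgroup Ω₂}
    (h₁ : P.map (MonoidHom.fst Ω₁ Ω₂) = Q₁) (h₂ : P.map (MonoidHom.snd Ω₁ Ω₂) = Q₂)
    {x : Ω₁ × Ω₂} (hx : x ∈ P) : x.1 ∈ Q₁ ∧ x.2 ∈ Q₂ :=
  ⟨h₁ ▸ mem_map_fst hx, h₂ ▸ mem_map_snd hx⟩

theorem proj_normalizer {P : Subgroup (Ω₁ × Ω₂)} {g : Ω₁ × Ω₂}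
    (hg : g ∈ Subgroup.normalizer (P : Set (Ω₁ × Ω₂))) :
    g.1 ∈ Subgroup.normalizer (P.map (MonoidHom.fst Ω₁ Ω₂) : Set Ω₁) ∧
      g.2 ∈ Subgroup.normalizer (P.map (MonoidHom.snd Ω₁ Ω₂) : Set Ω₂) :=
  ⟨Subgroup.le_normalizer_map (MonoidHom.fst Ω₁ Ω₂) ⟨g, hg, rfl⟩,
    Subgroup.le_normalizer_map (MonoidHom.snd Ω₁ Ω₂) ⟨g, hg, rfl⟩⟩

theorem receptive_prod (hE : Cfsg.FusionSystem.IsProductSystem F₁ F₂ E) {Q : Subgroup (Ω₁ × Ω₂)}
    (hQ : Q ≤ S₁.prod S₂) (r₁ : F₁.IsReceptive (Q.map (MonoidHom.fst Ω₁ Ω₂)))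
    (r₂ : F₂.IsReceptive (Q.map (MonoidHom.snd Ω₁ Ω₂))) : E.IsReceptive Q := by
  refine Fusion.isReceptive_of hQ fun R f hf M hRM hM => ?_
  obtain ⟨hRS, f₁, f₂, hf₁, hf₂, he⟩ := (isMap_prod_iff hE).mp hf.1
  have hi₁ : IsIso F₁ (R.map (MonoidHom.fst Ω₁ Ω₂)) (Q.map (MonoidHom.fst Ω₁ Ω₂)) f₁ := by
    refine ⟨hf₁, Set.ext fun y => ⟨?_, ?_⟩⟩
    · rintro ⟨_, ⟨x, hx, rfl⟩, rfl⟩
      exact ⟨f x, hf.mem hx, by rw [he x hx]; rfl⟩
    · rintro ⟨z, hz, rfl⟩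
      obtain ⟨x, hx, rfl⟩ := hf.exists_preimage hz
      exact ⟨x.1, mem_map_fst hx, by rw [he x hx]; rfl⟩
  have hi₂ : IsIso F₂ (R.map (MonoidHom.snd Ω₁ Ω₂)) (Q.map (MonoidHom.snd Ω₁ Ω₂)) f₂ := by
    refine ⟨hf₂, Set.ext fun y => ⟨?_, ?_⟩⟩
    · rintro ⟨_, ⟨x, hx, rfl⟩, rfl⟩
      exact ⟨f x, hf.mem hx, by rw [he x hx]; rfl⟩
    · rintro ⟨z, hz, rfl⟩
      obtain ⟨x, hx, rfl⟩ := hf.exists_preimage hz
      exact ⟨x.2, mem_map_snd hx, by rw [he x hx]; rfl⟩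
  have hext₁ : Fusion.IsExtendable S₁ (R.map (MonoidHom.fst Ω₁ Ω₂)) f₁
      (M.map (MonoidHom.fst Ω₁ Ω₂)) := by
    refine ⟨?_, ?_⟩
    · rintro _ ⟨m, hm, rfl⟩; exact (Subgroup.mem_prod.mp (hM.1 hm)).1
    rintro _ ⟨m, hm, rfl⟩
    obtain ⟨hmn, h, hh, H⟩ := hM.2 m hm
    refine ⟨(proj_normalizer hmn).1, h.1, (Subgroup.mem_prod.mp hh).1, ?_⟩
    rintro _ ⟨x, hx, rfl⟩
    have h1 := H x hx
    rw [he x hx, he _ (Fusion.conj_mem_of_mem_normalizer hmn hx)] at h1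
    exact congrArg Prod.fst h1
  have hext₂ : Fusion.IsExtendable S₂ (R.map (MonoidHom.snd Ω₁ Ω₂)) f₂
      (M.map (MonoidHom.snd Ω₁ Ω₂)) := by
    refine ⟨?_, ?_⟩
    · rintro _ ⟨m, hm, rfl⟩; exact (Subgroup.mem_prod.mp (hM.1 hm)).2
    rintro _ ⟨m, hm, rfl⟩
    obtain ⟨hmn, h, hh, H⟩ := hM.2 m hm
    refine ⟨(proj_normalizer hmn).2, h.2, (Subgroup.mem_prod.mp hh).2, ?_⟩
    rintro _ ⟨x, hx, rfl⟩
    have h1 := H x hx
    rw [he x hx, he _ (Fusion.conj_mem_of_mem_normalizer hmn hx)] at h1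
    exact congrArg Prod.snd h1
  obtain ⟨g₁, hg₁, hge₁⟩ := Fusion.receptive_extend r₁ hi₁ hext₁
  obtain ⟨g₂, hg₂, hge₂⟩ := Fusion.receptive_extend r₂ hi₂ hext₂
  refine ⟨fun x => (g₁ x.1, g₂ x.2), (isMap_prod_iff hE).mpr ⟨hM.1, g₁, g₂, hg₁.mono le_sup_right,
    hg₂.mono le_sup_right, fun _ _ => rfl⟩, fun x hx => ?_⟩
  show (g₁ x.1, g₂ x.2) = f x
  rw [he x hx, hge₁ (mem_map_fst hx), hge₂ (mem_map_snd hx)]

/-- In a finite group acting on a set every orbit has a point whose stabilizer meets a given Sylow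
subgroup in a Sylow subgroup. -/
theorem exists_stabilizer_sylow {A X : Type*} [Group A] [Finite A] [MulAction A X] {p : ℕ}
    [Fact p.Prime] (T : Sylow p A) (x : X) :
    ∃ (a : A) (R : Sylow p (MulAction.stabilizer A (a • x))),
      (R : Subgroup (MulAction.stabilizer A (a • x))) =
        (T : Subgroup A).subgroupOf (MulAction.stabilizer A (a • x)) := by
  obtain ⟨R₀⟩ : Nonempty (Sylow p (MulAction.stabilizer A x)) := inferInstance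
  obtain ⟨T₀, hT₀⟩ := (R₀.isPGroup'.map (MulAction.stabilizer A x).subtype).exists_le_sylow
  obtain ⟨a, ha⟩ := MulAction.exists_smul_eq A T₀ T
  obtain ⟨R, hR⟩ := (T.isPGroup'.comap_of_injective (MulAction.stabilizer A (a • x)).subtype
    Subtype.coe_injective).exists_le_sylow
  refine ⟨a, R, le_antisymm (fun r hr => ?_) hR⟩
  have hcard : Nat.card R ≤
      Nat.card ((T : Subgroup A).subgroupOf (MulAction.stabilizer A (a • x))) := by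
    have h1 : Nat.card (MulAction.stabilizer A (a • x)) = Nat.card (MulAction.stabilizer A x) := by
      rw [MulAction.stabilizer_smul_eq_stabilizer_map_conj]
      exact Subgroup.card_map_of_injective (MulAut.conj a).injective
    have h2 : Nat.card R = Nat.card R₀ := by
      rw [R.card_eq_multiplicity, R₀.card_eq_multiplicity, h1]
    rw [h2]
    have hle : ((R₀ : Subgroup (MulAction.stabilizer A x)).map (MulAction.stabilizer A x).subtype).map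
        (MulAut.conj a).toMonoidHom ≤ (T : Subgroup A) ⊓ MulAction.stabilizer A (a • x) := by
      rintro _ ⟨y, hy, rfl⟩
      refine ⟨?_, ?_⟩
      · rw [← ha, Sylow.coe_subgroup_smul]
        exact ⟨y, hT₀ hy, rfl⟩
      · obtain ⟨z, -, rfl⟩ := hy
        rw [MulAction.stabilizer_smul_eq_stabilizer_map_conj]
        exact ⟨z, z.2, rfl⟩
    calc Nat.card R₀ = Nat.card (((R₀ : Subgroup (MulAction.stabilizer A x)).map
          (MulAction.stabilizer A x).subtype).map (MulAut.conj a).toMonoidHom) := by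
          rw [Subgroup.card_map_of_injective (MulAut.conj a).injective,
            Subgroup.card_map_of_injective (MulAction.stabilizer A x).subtype_injective]
      _ ≤ Nat.card ↥((T : Subgroup A) ⊓ MulAction.stabilizer A (a • x)) := Subgroup.card_le_of_le hle
      _ = _ := by
          rw [← Subgroup.inf_subgroupOf_right, ← Nat.card_congr (Subgroup.subgroupOfEquivOfLe inf_le_right).toEquiv]
  rw [show ((T : Subgroup A).subgroupOf (MulAction.stabilizer A (a • x))) = R from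
    Subgroup.eq_of_le_of_card_ge hR hcard]
  exact hr

/-- The action of a pair of automorphisms on a product. -/
def prodAutHom (M N : Type*) [Group M] [Group N] : MulAut M × MulAut N →* MulAut (M × N) where
  toFun a := MulEquiv.prodCongr a.1 a.2
  map_one' := MulEquiv.ext fun _ => rfl
  map_mul' _ _ := MulEquiv.ext fun _ => rfl

/-- The restriction of automorphisms to a subgroup they stabilise. -/
def stabRestrict {A M : Type*} [Group A] [Group M] [MulDistribMulAction A M] (U : Subgroup M) :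
    MulAction.stabilizer A U →* MulAut U where
  toFun a :=
    { toFun := fun u => ⟨(a : A) • (u : M), by
        have h := Subgroup.smul_mem_pointwise_smul (u : M) (a : A) U u.2
        rwa [a.2] at h⟩
      invFun := fun u => ⟨(a : A)⁻¹ • (u : M), by
        have h := Subgroup.smul_mem_pointwise_smul (u : M) (a : A)⁻¹ U u.2
        rwa [show (a : A)⁻¹ • U = U from inv_smul_eq_iff.mpr a.2.symm] at h⟩
      left_inv := fun u => Subtype.ext (inv_smul_smul _ _)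
      right_inv := fun u => Subtype.ext (smul_inv_smul _ _)
      map_mul' := fun u v => Subtype.ext (smul_mul' _ _ _) }
  map_one' := MulEquiv.ext fun u => Subtype.ext (one_smul A (u : M))
  map_mul' a b := MulEquiv.ext fun u => Subtype.ext (mul_smul (a : A) (b : A) (u : M))

theorem isSaturated_prod [Finite S₁] [Finite S₂] {p : ℕ} [Fact p.Prime] (h₁ : IsPGroup p S₁)
    (h₂ : IsPGroup p S₂) (hF₁ : F₁.IsSaturated p) (hF₂ : F₂.IsSaturated p)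
    (hE : Cfsg.FusionSystem.IsProductSystem F₁ F₂ E) : E.IsSaturated p := by
  intro P hP
  have hP₁ : P.map (MonoidHom.fst Ω₁ Ω₂) ≤ S₁ := by
    rintro _ ⟨x, hx, rfl⟩; exact (Subgroup.mem_prod.mp (hP hx)).1
  have hP₂ : P.map (MonoidHom.snd Ω₁ Ω₂) ≤ S₂ := by
    rintro _ ⟨x, hx, rfl⟩; exact (Subgroup.mem_prod.mp (hP hx)).2
  obtain ⟨Q₁, hc₁, hn₁⟩ := Fusion.exists_fullyNormalized (F := F₁) hP₁
  obtain ⟨Q₂, hc₂, hn₂⟩ := Fusion.exists_fullyNormalized (F := F₂) hP₂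
  obtain ⟨f₁, hf₁⟩ := Fusion.isConj_iff.mp hc₁
  obtain ⟨f₂, hf₂⟩ := Fusion.isConj_iff.mp hc₂
  have := finite_of_le hn₁.1
  have := finite_of_le hn₂.1
  have : Finite (MulAut Q₁) := Fusion.finite_mulAut Q₁
  have : Finite (MulAut Q₂) := Fusion.finite_mulAut Q₂
  -- the two Sylow subgroups
  obtain ⟨T₁, hT₁⟩ := (Fusion.fullyAutomized_of_fullyNormalized h₁ hF₁ hn₁).2
  obtain ⟨T₂, hT₂⟩ := (Fusion.fullyAutomized_of_fullyNormalized h₂ hF₂ hn₂).2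
  let A := F₁.autGroup Q₁ × F₂.autGroup Q₂
  letI : MulDistribMulAction A (Q₁ × Q₂) := MulDistribMulAction.compHom (Q₁ × Q₂)
    ((prodAutHom Q₁ Q₂).comp (MonoidHom.prodMap (F₁.autGroup Q₁).subtype (F₂.autGroup Q₂).subtype))
  let TT : Sylow p A :=
    { toSubgroup := (T₁ : Subgroup (F₁.autGroup Q₁)).prod (T₂ : Subgroup (F₂.autGroup Q₂))
      isPGroup' := by
        obtain ⟨a, ha⟩ := IsPGroup.iff_card.mp T₁.isPGroup'
        obtain ⟨b, hb⟩ := IsPGroup.iff_card.mp T₂.isPGroup'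
        refine IsPGroup.of_card (n := a + b) ?_
        rw [Nat.card_congr (Subgroup.prodEquiv _ _).toEquiv, Nat.card_prod, ha, hb, pow_add]
      is_maximal' := by
        intro Q hQ hle
        refine le_antisymm (fun q hq => ⟨?_, ?_⟩) hle
        · rw [← T₁.is_maximal' (hQ.map (MonoidHom.fst _ _)) fun t ht => ⟨(t, 1), hle ⟨ht, one_mem _⟩, rfl⟩]
          exact ⟨q, hq, rfl⟩
        · rw [← T₂.is_maximal' (hQ.map (MonoidHom.snd _ _)) fun t ht => ⟨(1, t), hle ⟨one_mem _, ht⟩, rfl⟩]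
          exact ⟨q, hq, rfl⟩ }
  -- the image of `P`
  let θ₁ : P →* Q₁ := hf₁.equiv.toMonoidHom.comp (((MonoidHom.fst Ω₁ Ω₂).comp P.subtype).codRestrict
    (P.map (MonoidHom.fst Ω₁ Ω₂)) fun x => mem_map_fst x.2)
  let θ₂ : P →* Q₂ := hf₂.equiv.toMonoidHom.comp (((MonoidHom.snd Ω₁ Ω₂).comp P.subtype).codRestrict
    (P.map (MonoidHom.snd Ω₁ Ω₂)) fun x => mem_map_snd x.2)
  obtain ⟨a, R, hR⟩ := exists_stabilizer_sylow TT (θ₁.prod θ₂).range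
  let U : Subgroup (Q₁ × Q₂) := a • (θ₁.prod θ₂).range
  let j : Q₁ × Q₂ →* Ω₁ × Ω₂ := MonoidHom.prodMap Q₁.subtype Q₂.subtype
  have hj : Function.Injective j := fun x y h =>
    Prod.ext (Subtype.ext (congrArg Prod.fst h :)) (Subtype.ext (congrArg Prod.snd h :))
  let Q := U.map j
  have hsmul : ∀ (b : A) (x : Q₁ × Q₂), b • x = ((b.1 : MulAut Q₁) x.1, (b.2 : MulAut Q₂) x.2) :=
    fun _ _ => rfl
  -- the map onto `Q`
  let f : Ω₁ × Ω₂ → Ω₁ × Ω₂ := fun x =>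
    ((autFun (a.1 : MulAut Q₁) ∘ f₁) x.1, (autFun (a.2 : MulAut Q₂) ∘ f₂) x.2)
  have hfe : ∀ x : P, j (a • (θ₁.prod θ₂) x) = f x := fun x => by
    rw [hsmul]
    refine Prod.ext ?_ ?_
    · show _ = autFun _ (f₁ _)
      rw [← hf₁.equiv_apply ⟨_, mem_map_fst x.2⟩, Fusion.autFun_coe]
      rfl
    · show _ = autFun _ (f₂ _)
      rw [← hf₂.equiv_apply ⟨_, mem_map_snd x.2⟩, Fusion.autFun_coe]
      rfl
  have hPQ : IsIso E P Q f := by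
    refine ⟨(isMap_prod_iff hE).mpr ⟨hP, _, _,
      (hf₁.comp ((Fusion.mem_autGroup hn₁.1).mp a.1.2)).1,
      (hf₂.comp ((Fusion.mem_autGroup hn₂.1).mp a.2.2)).1, fun x _ => rfl⟩, Set.ext fun y => ⟨?_, ?_⟩⟩
    · rintro ⟨x, hx, rfl⟩
      exact ⟨_, Subgroup.smul_mem_pointwise_smul _ a _ ⟨⟨x, hx⟩, rfl⟩, hfe ⟨x, hx⟩⟩
    · rintro ⟨u, hu, rfl⟩
      obtain ⟨_, ⟨x, rfl⟩, rfl⟩ := hu
      exact ⟨x, x.2, (hfe x).symm⟩
  have hQS : Q ≤ S₁.prod S₂ := hPQ.cod_le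
  have hproj₁ : Q.map (MonoidHom.fst Ω₁ Ω₂) = Q₁ := by
    refine le_antisymm ?_ fun y hy => ?_
    · rintro _ ⟨_, ⟨u, -, rfl⟩, rfl⟩; exact u.1.2
    · obtain ⟨z, hz, hzy⟩ := (hf₁.comp ((Fusion.mem_autGroup hn₁.1).mp a.1.2)).exists_preimage hy
      obtain ⟨x, hx, rfl⟩ := hz
      exact ⟨f x, hPQ.mem hx, hzy⟩
  have hproj₂ : Q.map (MonoidHom.snd Ω₁ Ω₂) = Q₂ := by
    refine le_antisymm ?_ fun y hy => ?_
    · rintro _ ⟨_, ⟨u, -, rfl⟩, rfl⟩; exact u.2.2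
    · obtain ⟨z, hz, hzy⟩ := (hf₂.comp ((Fusion.mem_autGroup hn₂.1).mp a.2.2)).exists_preimage hy
      obtain ⟨x, hx, rfl⟩ := hz
      exact ⟨f x, hPQ.mem hx, hzy⟩
  refine ⟨Q, hPQ.isConj, ⟨hQS, ?_⟩, receptive_prod hE hQS
    (hproj₁.symm ▸ Fusion.receptive_of_fullyCentralized h₁ hF₁
      (Fusion.fullyCentralized_of_fullyNormalized h₁ hF₁ hn₁))
    (hproj₂.symm ▸ Fusion.receptive_of_fullyCentralized h₂ hF₂
      (Fusion.fullyCentralized_of_fullyNormalized h₂ hF₂ hn₂))⟩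
  -- the automorphisms of `Q`
  let e : U ≃* Q := U.equivMapOfInjective j hj
  let ρ₀ : MulAction.stabilizer A U →* MulAut Q :=
    (MulAut.congr e).toMonoidHom.comp (stabRestrict U)
  have hval : ∀ (b : MulAction.stabilizer A U) (u : U),
      ((ρ₀ b (e u) : Q) : Ω₁ × Ω₂) = j ((b : A) • (u : Q₁ × Q₂)) := fun b u => by
    show ((e (stabRestrict U b (e.symm (e u))) : Q) : Ω₁ × Ω₂) = _
    rw [e.symm_apply_apply]
    rfl
  have hval' : ∀ (b : MulAction.stabilizer A U) (q : Q),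
      ((ρ₀ b q : Q) : Ω₁ × Ω₂) =
        (autFun ((b : A).1 : MulAut Q₁) (q : Ω₁ × Ω₂).1, autFun ((b : A).2 : MulAut Q₂) (q : Ω₁ × Ω₂).2) := by
    intro b q
    obtain ⟨u, rfl⟩ := e.surjective q
    rw [hval, hsmul]
    exact Prod.ext (Fusion.autFun_coe _ _).symm (Fusion.autFun_coe _ _).symm
  have hρ : ∀ b, ρ₀ b ∈ E.autGroup Q := fun b => by
    refine Fusion.autGroup_mem_of_isMap ((isMap_prod_iff hE).mpr ⟨hQS, _, _,
      (by rw [hproj₁]; exact ((Fusion.mem_autGroup hn₁.1).mp (b : A).1.2).1),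
      (by rw [hproj₂]; exact ((Fusion.mem_autGroup hn₂.1).mp (b : A).2.2).1), fun x hx => ?_⟩)
    rw [Fusion.autFun_of_mem _ hx, hval' b ⟨x, hx⟩]
  let ρ : MulAction.stabilizer A U →* E.autGroup Q := ρ₀.codRestrict _ hρ
  have hsurj : Function.Surjective ρ := by
    rintro ⟨β, hβ⟩
    have hβi := (Fusion.mem_autGroup hQS).mp hβ
    obtain ⟨-, g₁, g₂, hg₁, hg₂, hge⟩ := (isMap_prod_iff hE).mp hβi.1
    rw [hproj₁] at hg₁
    rw [hproj₂] at hg₂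
    have hm₁ : ∀ x ∈ Q₁, g₁ x ∈ Q₁ := fun x hx => by
      obtain ⟨q, hq, rfl⟩ := hproj₁.ge hx
      have := (mem_prod_of_proj hproj₁ hproj₂ (hβi.mem hq)).1
      rwa [hge q hq] at this
    have hm₂ : ∀ x ∈ Q₂, g₂ x ∈ Q₂ := fun x hx => by
      obtain ⟨q, hq, rfl⟩ := hproj₂.ge hx
      have := (mem_prod_of_proj hproj₁ hproj₂ (hβi.mem hq)).2
      rwa [hge q hq] at this
    obtain ⟨b₁, hb₁, hbe₁⟩ := IsIso.exists_aut (F := F₁) (P := Q₁) ⟨hg₁,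
      Set.ext fun y => ⟨fun ⟨x, hx, he⟩ => he ▸ hm₁ x hx,
        fun hy => Fusion.surjOn_of_card_le hn₁.1 hg₁.injOn hm₁ le_rfl y hy⟩⟩
    obtain ⟨b₂, hb₂, hbe₂⟩ := IsIso.exists_aut (F := F₂) (P := Q₂) ⟨hg₂,
      Set.ext fun y => ⟨fun ⟨x, hx, he⟩ => he ▸ hm₂ x hx,
        fun hy => Fusion.surjOn_of_card_le hn₂.1 hg₂.injOn hm₂ le_rfl y hy⟩⟩
    let b : A := (⟨b₁, hb₁⟩, ⟨b₂, hb₂⟩)
    have hbu : ∀ u : U, j (b • (u : Q₁ × Q₂)) = autFun β (j u) := fun u => by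
      rw [hge (j u) (e u).2, hsmul]
      exact Prod.ext ((Fusion.autFun_coe b₁ _).symm.trans (hbe₁ (Subtype.mem _)))
        ((Fusion.autFun_coe b₂ _).symm.trans (hbe₂ (Subtype.mem _)))
    have hbU : b ∈ MulAction.stabilizer A U := by
      have : Finite U := inferInstance
      refine MulAction.mem_stabilizer_iff.mpr (Subgroup.eq_of_le_of_card_ge ?_ ?_)
      · rintro _ ⟨u, hu, rfl⟩
        obtain ⟨v, hv, hve⟩ := hβi.mem (e ⟨u, hu⟩).2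
        have : b • u = v := hj ((hbu ⟨u, hu⟩).trans hve.symm)
        show b • u ∈ U
        rw [this]
        exact hv
      · exact (Nat.card_congr (Subgroup.equivSMul b U).toEquiv).le
    refine ⟨⟨b, hbU⟩, Subtype.ext (MulEquiv.ext fun q => Subtype.ext ?_)⟩
    obtain ⟨u, rfl⟩ := e.surjective q
    show ((ρ₀ _ (e u) : Q) : Ω₁ × Ω₂) = _
    rw [hval, hbu, show j u = ((e u : Q) : Ω₁ × Ω₂) from rfl, Fusion.autFun_coe]
  refine ⟨R.mapSurjective hsurj, ?_⟩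
  rw [Sylow.coe_mapSurjective, hR]
  ext β
  constructor
  · rintro ⟨b, hb, rfl⟩
    obtain ⟨hb₁, hb₂⟩ := Subgroup.mem_prod.mp (Subgroup.mem_subgroupOf.mp hb)
    rw [hT₁, Subgroup.mem_subgroupOf] at hb₁
    rw [hT₂, Subgroup.mem_subgroupOf] at hb₂
    obtain ⟨g₁, hg₁, hge₁⟩ := Fusion.mem_autInducedBy.mp hb₁
    obtain ⟨g₂, hg₂, hge₂⟩ := Fusion.mem_autInducedBy.mp hb₂
    refine Fusion.mem_autInducedBy.mpr ⟨(g₁, g₂), Subgroup.mem_prod.mpr ⟨hg₁, hg₂⟩, fun q => ?_⟩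
    show ((ρ₀ b q : Q) : Ω₁ × Ω₂) = _
    obtain ⟨hq₁, hq₂⟩ := mem_prod_of_proj hproj₁ hproj₂ q.2
    rw [hval', Fusion.autFun_of_mem _ hq₁, Fusion.autFun_of_mem _ hq₂, hge₁ ⟨_, hq₁⟩, hge₂ ⟨_, hq₂⟩]
    rfl
  · intro hβ
    obtain ⟨g, hg, hge⟩ := Fusion.mem_autInducedBy.mp (Subgroup.mem_subgroupOf.mp hβ)
    obtain ⟨hgN₁, hgN₂⟩ := proj_normalizer (Fusion.mem_normalizer_of_induces hge)
    rw [hproj₁] at hgN₁
    rw [hproj₂] at hgN₂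
    have hgS := Subgroup.mem_prod.mp hg
    let c₁ := Fusion.conjAutHom S₁ Q₁ ⟨g.1, hgS.1, hgN₁⟩
    let c₂ := Fusion.conjAutHom S₂ Q₂ ⟨g.2, hgS.2, hgN₂⟩
    have hc₁ : c₁ ∈ Cfsg.autInducedBy S₁ Q₁ := Fusion.range_conjAutHom S₁ Q₁ ▸ ⟨_, rfl⟩
    have hc₂ : c₂ ∈ Cfsg.autInducedBy S₂ Q₂ := Fusion.range_conjAutHom S₂ Q₂ ▸ ⟨_, rfl⟩
    let b : A := (⟨c₁, Fusion.autInducedBy_le_autGroup hn₁.1 hc₁⟩,
      ⟨c₂, Fusion.autInducedBy_le_autGroup hn₂.1 hc₂⟩)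
    have hbU : b ∈ MulAction.stabilizer A U := by
      refine MulAction.mem_stabilizer_iff.mpr (Subgroup.eq_of_le_of_card_ge ?_ ?_)
      · rintro _ ⟨u, hu, rfl⟩
        obtain ⟨v, hv, hve⟩ := ((β : MulAut Q) (e ⟨u, hu⟩)).2
        have hq := hge (e ⟨u, hu⟩)
        rw [← hve] at hq
        have : b • u = v := hj (by rw [hq]; rfl)
        show b • u ∈ U
        rw [this]
        exact hv
      · exact (Nat.card_congr (Subgroup.equivSMul b U).toEquiv).le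
    refine ⟨⟨b, hbU⟩, Subgroup.mem_subgroupOf.mpr (Subgroup.mem_prod.mpr ⟨?_, ?_⟩),
      Subtype.ext (MulEquiv.ext fun q => Subtype.ext ?_)⟩
    · rw [hT₁]; exact hc₁
    · rw [hT₂]; exact hc₂
    show ((ρ₀ _ q : Q) : Ω₁ × Ω₂) = _
    obtain ⟨u, rfl⟩ := e.surjective q
    rw [hval, hge]
    rfl

end Cfsg.Agent.Fusion91
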