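import Cfsg.Agent.Fusion91.SmallEssential

set_option autoImplicit false

/-! Abelian essential subgroups generated by two elements. -/

namespace Cfsg.Agent.Fusion91

open Cfsg Cfsg.Agent.Fusion

variable {p : ℕ} [Fact p.Prime] {H : Type*} [CommGroup H] [Finite H]

/-- The subgroup of `p ^ i`-th powers. -/
def powSub (H : Type*) [CommGroup H] (p i : ℕ) : Subgroup H := (powMonoidHom (p ^ i) : H →* H).range

omit [Fact p.Prime] [Finite H] in
theorem mem_powSub {i : ℕ} {y : H} : y ∈ powSub H p i ↔ ∃ x : H, x ^ p ^ i = y := Iff.rfl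

omit [Fact p.Prime] [Finite H] in
theorem powSub_zero : powSub H p 0 = ⊤ := by
  refine eq_top_iff.mpr fun x _ => ⟨x, ?_⟩
  simp

omit [Fact p.Prime] [Finite H] in
theorem powSub_antitone {i j : ℕ} (h : i ≤ j) : powSub H p j ≤ powSub H p i := by
  rintro _ ⟨x, rfl⟩
  refine ⟨x ^ p ^ (j - i), ?_⟩
  simp only [powMonoidHom_apply]
  rw [← pow_mul, ← pow_add, Nat.sub_add_cancel h]

omit [Fact p.Prime] [Finite H] in
theorem powSub_add (i j : ℕ) : powSub H p (i + j) = (powSub H p i).map (powMonoidHom (p ^ j)) := by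
  ext y
  constructor
  · rintro ⟨x, rfl⟩
    exact ⟨x ^ p ^ i, ⟨x, rfl⟩, by simp [← pow_mul, pow_add]⟩
  · rintro ⟨_, ⟨x, rfl⟩, rfl⟩
    exact ⟨x, by simp [← pow_mul, pow_add]⟩

omit [Fact p.Prime] [Finite H] in
theorem powSub_characteristic (i : ℕ) : (powSub H p i).Characteristic :=
  Subgroup.characteristic_iff_map_le.mpr fun ψ y hy => by
    obtain ⟨_, ⟨x, rfl⟩, rfl⟩ := hy
    exact ⟨ψ x, (map_pow ψ x _).symm⟩

theorem powSub_one_eq_frattini (hH : IsPGroup p H) : powSub H p 1 = frattini H := by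
  refine le_antisymm ?_ (PGroup.frattini_le_of_quotient (p := p) ?_ fun x => ⟨x, by simp⟩)
  · rintro _ ⟨x, rfl⟩
    simpa using PGroup.pow_mem_frattini hH x
  · rw [commutator_def]
    refine Subgroup.commutator_le.mpr fun a _ b _ => ?_
    rw [commutatorElement_eq_one_iff_mul_comm.mpr (mul_comm a b)]
    exact Subgroup.one_mem _

omit [Fact p.Prime] [Finite H] in
theorem relIndex_map_dvd {A B : Subgroup H} (h : A ≤ B) (f : H →* H) :
    (A.map f).relIndex (B.map f) ∣ A.relIndex B := by
  rw [Subgroup.relIndex_map_map, show B ⊔ f.ker = B ⊔ (A ⊔ f.ker) by rw [← sup_assoc, sup_eq_left.mpr h],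
    Subgroup.relIndex_sup_right]
  exact Subgroup.relIndex_dvd_of_le_left _ le_sup_left

/-- Either there is a characteristic series with indices at most `p`, or the group is homocyclic of
rank two. -/
theorem series_or_homocyclic (hH : IsPGroup p H) (hcyc : ¬ IsCyclic H)
    (hrk : (frattini H).index ≤ p ^ 2) :
    (∃ (L : ℕ → Subgroup H) (n : ℕ), (∀ i, (L i).Characteristic) ∧ L 0 = ⊥ ∧ L n = ⊤ ∧
      ∀ i < n, (L i).relIndex (L (i + 1)) ≤ p) ∨
    ∃ k : ℕ, 1 ≤ k ∧ (∀ x : H, x ^ p ^ k = 1) ∧ (∀ x : H, x ^ p = 1 → x ∈ powSub H p (k - 1)) ∧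
      Nonempty (H ≃* Multiplicative (ZMod (p ^ k) × ZMod (p ^ k))) := by
  classical
  have hp := (Fact.out : p.Prime)
  rw [← powSub_one_eq_frattini hH] at hrk
  obtain ⟨m, hm⟩ := IsPGroup.iff_card.mp hH
  have hex : ∃ k, ∀ x : H, x ^ p ^ k = 1 := ⟨m, fun x => by rw [← hm, pow_card_eq_one']⟩
  obtain ⟨k, hk, hkmin⟩ : ∃ k, (∀ x : H, x ^ p ^ k = 1) ∧ ∀ j < k, ¬ ∀ x : H, x ^ p ^ j = 1 :=
    ⟨Nat.find hex, Nat.find_spec hex, fun j hj => Nat.find_min hex hj⟩
  have hk1 : 1 ≤ k := by
    by_contra h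
    obtain rfl : k = 0 := by omega
    refine hcyc ?_
    have : Subsingleton H := ⟨fun a b => by
      have ha := hk a
      have hb := hk b
      simp only [pow_zero, pow_one] at ha hb
      rw [ha, hb]⟩
    infer_instance
  have hbot : powSub H p k = ⊥ := by
    refine (Subgroup.eq_bot_iff_forall _).mpr ?_
    rintro _ ⟨x, rfl⟩
    exact hk x
  let R := powSub H p (k - 1)
  have hRne : R ≠ ⊥ := by
    intro h
    refine hkmin (k - 1) (by omega) fun x => ?_
    exact Subgroup.mem_bot.mp (h ▸ ⟨x, rfl⟩)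
  have hU1 : (powSub H p 1).index ≤ p ^ 2 := hrk
  let K := (powMonoidHom (p ^ (k - 1)) : H →* H).ker
  have hKidx : K.index = Nat.card R := Subgroup.index_ker _
  obtain ⟨r, -, hr⟩ := (Nat.dvd_prime_pow hp).mp (hm ▸ Subgroup.card_subgroup_dvd_card R)
  have hr0 : r ≠ 0 := by
    rintro rfl
    exact hRne (Subgroup.card_eq_one.mp (by simpa using hr))
  rcases Nat.lt_or_ge r 2 with hr1 | hr2
  · left
    obtain rfl : r = 1 := by omega
    rw [pow_one] at hr
    have hU1K : powSub H p 1 ≤ K := by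
      rintro _ ⟨x, rfl⟩
      show ((x ^ p ^ 1) ^ p ^ (k - 1) : H) = 1
      rw [← pow_mul, ← pow_add, show 1 + (k - 1) = k by omega, hk]
    have hUK : (powSub H p 1).relIndex K ≤ p := by
      have h := Subgroup.relIndex_mul_index hU1K
      rw [hKidx, hr] at h
      have : (powSub H p 1).relIndex K * p ≤ p * p := by rw [h, ← sq]; exact hU1
      exact Nat.le_of_mul_le_mul_right this hp.pos
    have hKc : K.Characteristic := Subgroup.characteristic_iff_le_comap.mpr fun ψ x hx => by
      show ((ψ x) ^ p ^ (k - 1) : H) = 1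
      rw [← map_pow, show (x ^ p ^ (k - 1) : H) = 1 from hx, map_one]
    let L : ℕ → Subgroup H := fun j =>
      if j % 2 = 0 then powSub H p (k - j / 2) else K.map (powMonoidHom (p ^ (k - (j + 1) / 2)))
    refine ⟨L, 2 * k, fun j => ?_, ?_, ?_, fun j hj => ?_⟩
    · show (if j % 2 = 0 then _ else _ : Subgroup H).Characteristic
      split
      · exact powSub_characteristic _
      · refine Subgroup.characteristic_iff_map_le.mpr fun ψ y hy => ?_
        obtain ⟨_, ⟨x, hx, rfl⟩, rfl⟩ := hy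
        exact ⟨ψ x, Subgroup.characteristic_iff_map_le.mp hKc ψ ⟨x, hx, rfl⟩, (map_pow ψ x _).symm⟩
    · simp only [L, Nat.zero_mod, if_true, Nat.zero_div, Nat.sub_zero]
      exact hbot
    · simp only [L, Nat.mul_mod_right, if_true]
      rw [show k - 2 * k / 2 = 0 by omega, powSub_zero]
    · rcases Nat.even_or_odd j with ⟨i, rfl⟩ | ⟨i, rfl⟩
      · simp only [L, show (i + i) % 2 = 0 by omega, show (i + i + 1) % 2 = 1 by omega, if_true,
          one_ne_zero, if_false]
        rw [show k - (i + i) / 2 = 1 + (k - (i + 1)) by omega,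
          show (i + i + 1 + 1) / 2 = i + 1 by omega, powSub_add]
        refine le_trans (Nat.le_of_dvd (Nat.pos_of_ne_zero ?_) (relIndex_map_dvd hU1K _)) hUK
        exact Subgroup.FiniteIndex.index_ne_zero
      · simp only [L, show (2 * i + 1) % 2 = 1 by omega, show (2 * i + 1 + 1) % 2 = 0 by omega, if_true,
          one_ne_zero, if_false]
        rw [show (2 * i + 1 + 1) / 2 = i + 1 by omega]
        have h0 : powSub H p (k - (i + 1)) = (⊤ : Subgroup H).map (powMonoidHom (p ^ (k - (i + 1)))) :=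
          MonoidHom.range_eq_map _
        rw [h0]
        refine le_trans (Nat.le_of_dvd (Nat.pos_of_ne_zero ?_) (relIndex_map_dvd le_top _)) ?_
        · rw [Subgroup.relIndex_top_right]
          exact Subgroup.FiniteIndex.index_ne_zero
        · rw [Subgroup.relIndex_top_right, hKidx, hr]
  · right
    let W := (powMonoidHom p : H →* H).ker
    have hWc : Nat.card W ≤ p ^ 2 := by
      have h1 : (powMonoidHom p : H →* H).range = powSub H p 1 := by
        rw [powSub, pow_one]
      have h2 := Subgroup.card_mul_index W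
      rw [Subgroup.index_ker, h1] at h2
      have h3 := Subgroup.card_mul_index (powSub H p 1)
      have h4 : Nat.card W = (powSub H p 1).index :=
        Nat.eq_of_mul_eq_mul_right (Nat.card_pos (α := powSub H p 1)) (by rw [h2, ← h3, mul_comm])
      omega
    have hRW : R ≤ W := by
      rintro _ ⟨x, rfl⟩
      show ((x ^ p ^ (k - 1)) ^ p : H) = 1
      rw [← pow_mul, ← pow_succ, Nat.sub_add_cancel hk1, hk]
    have hRW' : R = W := Subgroup.eq_of_le_of_card_ge hRW
      (le_trans hWc (hr ▸ Nat.pow_le_pow_right hp.pos hr2))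
    have hWcard : Nat.card W = p ^ 2 :=
      le_antisymm hWc (hRW' ▸ hr ▸ Nat.pow_le_pow_right hp.pos hr2)
    have hsize : ∀ d, d ≤ k → Nat.card (powSub H p (k - d)) = p ^ (2 * d) := by
      intro d
      induction d with
      | zero =>
        intro _
        rw [Nat.sub_zero, hbot, Subgroup.card_bot]
        rfl
      | succ d ih =>
        intro hd
        let f : powSub H p (k - (d + 1)) →* H :=
          (powMonoidHom p).comp (powSub H p (k - (d + 1))).subtype
        have hrange : f.range = powSub H p (k - d) := by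
          rw [MonoidHom.range_comp, Subgroup.range_subtype,
            show k - d = k - (d + 1) + 1 by omega, powSub_add, pow_one]
        have hker : Nat.card f.ker = p ^ 2 := by
          rw [← hWcard]
          have hle : W ≤ powSub H p (k - (d + 1)) := by
            rw [← hRW']
            exact powSub_antitone (by omega)
          rw [← Nat.card_congr (Subgroup.subgroupOfEquivOfLe hle).toEquiv]
          rfl
        have h := Subgroup.card_mul_index f.ker
        rw [Subgroup.index_ker, hrange, ih (by omega), hker, ← pow_add] at h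
        rw [← h]
        congr 1
        omega
    have hcard : Nat.card H = p ^ (2 * k) := by
      rw [← hsize k le_rfl, Nat.sub_self, powSub_zero, Subgroup.card_top]
    refine ⟨k, hk1, hk, fun x hx => hRW'.ge hx, ?_⟩
    -- two generators
    obtain ⟨a, ha⟩ : ∃ a : H, a ∉ powSub H p 1 := by
      by_contra h
      push Not at h
      have h1 := powSub_one_eq_frattini (p := p) hH
      have htop : powSub H p 1 = ⊤ := eq_top_iff.mpr fun x _ => h x
      rw [htop] at h1
      have : Nontrivial H := by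
        rw [← Finite.one_lt_card_iff_nontrivial, hcard]
        exact Nat.one_lt_pow (by omega) hp.one_lt
      exact bot_ne_top (α := Subgroup H) (frattini_nongenerating (by rw [bot_sup_eq, ← h1]))
    obtain ⟨b, hb⟩ : ∃ b : H, b ∉ powSub H p 1 ⊔ Subgroup.zpowers a := by
      by_contra h
      push Not at h
      refine hcyc (isCyclic_iff_exists_zpowers_eq_top.mpr ⟨a, frattini_nongenerating ?_⟩)
      rw [sup_comm, ← powSub_one_eq_frattini (p := p) hH]
      exact eq_top_iff.mpr fun x _ => h x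
    have hgen : Subgroup.zpowers a ⊔ Subgroup.zpowers b = ⊤ := by
      refine frattini_nongenerating ?_
      rw [← powSub_one_eq_frattini (p := p) hH]
      let T₁ := powSub H p 1 ⊔ Subgroup.zpowers a
      have hT₁ : (powSub H p 1).index = (powSub H p 1).relIndex T₁ * T₁.index :=
        (Subgroup.relIndex_mul_index le_sup_left).symm
      have hT₁2 : 2 ≤ (powSub H p 1).relIndex T₁ := by
        by_contra hlt
        have h1 : (powSub H p 1).relIndex T₁ = 1 := by
          have := Nat.pos_of_ne_zero (Subgroup.FiniteIndex.index_ne_zero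
            (H := (powSub H p 1).subgroupOf T₁))
          change 0 < (powSub H p 1).relIndex T₁ at this
          omega
        exact ha (Subgroup.relIndex_eq_one.mp h1 (Subgroup.mem_sup_right (Subgroup.mem_zpowers a)))
      let T₂ := T₁ ⊔ Subgroup.zpowers b
      have hT₂ : T₁.index = T₁.relIndex T₂ * T₂.index := (Subgroup.relIndex_mul_index le_sup_left).symm
      have hT₂2 : 2 ≤ T₁.relIndex T₂ := by
        by_contra hlt
        have h1 : T₁.relIndex T₂ = 1 := by
          have := Nat.pos_of_ne_zero (Subgroup.FiniteIndex.index_ne_zero (H := T₁.subgroupOf T₂))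
          change 0 < T₁.relIndex T₂ at this
          omega
        exact hb (Subgroup.relIndex_eq_one.mp h1 (Subgroup.mem_sup_right (Subgroup.mem_zpowers b)))
      obtain ⟨i₁, hi₁⟩ : p ∣ (powSub H p 1).relIndex T₁ := by
        obtain ⟨s, hs⟩ := (hH.to_subgroup T₁).index ((powSub H p 1).subgroupOf T₁)
        change (powSub H p 1).relIndex T₁ = p ^ s at hs
        rw [hs] at hT₁2 ⊢
        exact dvd_pow_self p (by rintro rfl; simp at hT₁2)
      obtain ⟨i₂, hi₂⟩ : p ∣ T₁.relIndex T₂ := by
        obtain ⟨s, hs⟩ := (hH.to_subgroup T₂).index (T₁.subgroupOf T₂)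
        change T₁.relIndex T₂ = p ^ s at hs
        rw [hs] at hT₂2 ⊢
        exact dvd_pow_self p (by rintro rfl; simp at hT₂2)
      have hT₂1 : T₂.index = 1 := by
        have h : p ^ 2 * (i₁ * i₂ * T₂.index) ≤ p ^ 2 * 1 := by
          rw [mul_one]
          refine le_trans (le_of_eq ?_) hU1
          rw [hT₁, hT₂, hi₁, hi₂]; ring
        have h2 := Nat.le_of_mul_le_mul_left h (pow_pos hp.pos 2)
        have hi₁0 : 0 < i₁ := by
          by_contra h0
          obtain rfl : i₁ = 0 := by omega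
          omega
        have hi₂0 : 0 < i₂ := by
          by_contra h0
          obtain rfl : i₂ = 0 := by omega
          omega
        have h3 : T₂.index ≤ i₁ * i₂ * T₂.index := Nat.le_mul_of_pos_left _ (Nat.mul_pos hi₁0 hi₂0)
        have h4 := Nat.pos_of_ne_zero (Subgroup.FiniteIndex.index_ne_zero (H := T₂))
        omega
      rw [← Subgroup.index_eq_one.mp hT₂1]
      show _ = powSub H p 1 ⊔ Subgroup.zpowers a ⊔ Subgroup.zpowers b
      rw [sup_comm, sup_assoc]
    let f₁ : Multiplicative (ZMod (p ^ k)) →* H :=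
      AddMonoidHom.toMultiplicativeLeft (ZMod.lift (p ^ k) ⟨zmultiplesHom (Additive H) (Additive.ofMul a), by
        simp only [zmultiplesHom_apply, natCast_zsmul]
        apply Additive.toMul.injective
        rw [toMul_nsmul, toMul_ofMul, hk]
        rfl⟩)
    let f₂ : Multiplicative (ZMod (p ^ k)) →* H :=
      AddMonoidHom.toMultiplicativeLeft (ZMod.lift (p ^ k) ⟨zmultiplesHom (Additive H) (Additive.ofMul b), by
        simp only [zmultiplesHom_apply, natCast_zsmul]
        apply Additive.toMul.injective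
        rw [toMul_nsmul, toMul_ofMul, hk]
        rfl⟩)
    let f : Multiplicative (ZMod (p ^ k)) × Multiplicative (ZMod (p ^ k)) →* H := f₁.coprod f₂
    have ha' : a ∈ f.range := ⟨(Multiplicative.ofAdd ((1 : ℤ) : ZMod (p ^ k)), 1), by
      show f₁ _ * f₂ 1 = a
      rw [map_one, mul_one]
      show Additive.toMul (ZMod.lift _ _ ((1 : ℤ) : ZMod (p ^ k))) = a
      rw [ZMod.lift_coe]
      simp⟩
    have hb' : b ∈ f.range := ⟨(1, Multiplicative.ofAdd ((1 : ℤ) : ZMod (p ^ k))), by
      show f₁ 1 * f₂ _ = b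
      rw [map_one, one_mul]
      show Additive.toMul (ZMod.lift _ _ ((1 : ℤ) : ZMod (p ^ k))) = b
      rw [ZMod.lift_coe]
      simp⟩
    have hsurj : Function.Surjective f := by
      rw [← MonoidHom.range_eq_top, eq_top_iff, ← hgen, sup_le_iff, Subgroup.zpowers_le, Subgroup.zpowers_le]
      exact ⟨ha', hb'⟩
    have : NeZero (p ^ k) := ⟨(pow_pos hp.pos k).ne'⟩
    have hbij : Function.Bijective f := (Nat.bijective_iff_surjective_and_card f).mpr ⟨hsurj, by
      rw [Nat.card_prod, Nat.card_congr Multiplicative.toAdd, Nat.card_zmod, hcard, two_mul, pow_add]⟩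
    exact ⟨(MulEquiv.ofBijective f hbij).symm.trans (MulEquiv.prodMultiplicative _ _).symm⟩

omit [Finite H] in
/-- An automorphism of order `p ≥ 5` of a homocyclic group of exponent at least `p²` cannot be
unipotent of degree two on `H / Hᵖ` without being trivial there. -/
theorem unipotent_trivial (hp5 : 5 ≤ p) (γ : MulAut H) (hγ : γ ^ p = 1)
    (h2 : ∀ x : H, γ (x⁻¹ * γ x) * (x⁻¹ * γ x)⁻¹ ∈ powSub H p 1)
    (hW : ∀ x : H, x ^ p = 1 → x ∈ powSub H p 1) (x : H) : x⁻¹ * γ x ∈ powSub H p 1 := by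
  let g : AddMonoid.End (Additive H) := MonoidHom.toAdditive γ.toMonoidHom
  let N : AddMonoid.End (Additive H) := g - 1
  have hgpow : ∀ (j : ℕ) (y : Additive H), (g ^ j) y = Additive.ofMul ((γ ^ j) y.toMul) := by
    intro j
    induction j with
    | zero => intro y; rfl
    | succ j ih =>
      intro y
      rw [pow_succ', pow_succ']
      show g ((g ^ j) y) = _
      rw [ih]
      rfl
  let U : ℕ → AddSubgroup (Additive H) := fun i => (powSub H p i).toAddSubgroup
  have hN : ∀ y, (N y : Additive H) = g y - y := fun y => rfl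
  have hgy : ∀ y : Additive H, Additive.toMul (g y) = γ y.toMul := fun y => rfl
  have hN2 : ∀ y, (N ^ 2) y ∈ U 1 := by
    intro y
    have h := h2 y.toMul
    show Additive.toMul ((N ^ 2) y) ∈ powSub H p 1
    rw [pow_two]
    show Additive.toMul (N (N y)) ∈ powSub H p 1
    rw [hN, hN]
    convert h using 1
    simp only [toMul_sub, hgy, div_eq_mul_inv, map_mul, map_inv]
    simp [mul_comm]
  have hnsmul : ∀ (i : ℕ) (y : Additive H), y ∈ U i → p • y ∈ U (i + 1) := by
    intro i y hy
    show Additive.toMul (p • y) ∈ powSub H p (i + 1)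
    rw [powSub_add, toMul_nsmul, pow_one]
    exact ⟨_, hy, rfl⟩
  have hN4 : ∀ j, 4 ≤ j → ∀ y, (N ^ j) y ∈ U 2 := by
    intro j hj y
    rw [show j = 2 + (2 + (j - 4)) by omega, pow_add]
    show (N ^ 2) ((N ^ (2 + (j - 4))) y) ∈ U 2
    have h1 : (N ^ (2 + (j - 4))) y ∈ U 1 := by
      rw [pow_add]
      exact hN2 _
    obtain ⟨w, hw⟩ : ∃ w : Additive H, p • w = (N ^ (2 + (j - 4))) y := by
      obtain ⟨w, hw⟩ := h1
      refine ⟨Additive.ofMul w, Additive.toMul.injective ?_⟩
      rw [toMul_nsmul, toMul_ofMul, ← hw]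
      simp
    rw [← hw, map_nsmul]
    exact hnsmul 1 _ (hN2 w)
  have hexp : ((N + 1) ^ p) (Additive.ofMul x) = Additive.ofMul x := by
    rw [show N + 1 = g from sub_add_cancel g 1, hgpow, hγ]
    rfl
  rw [Commute.add_pow (Commute.one_right N)] at hexp
  have hsum : ∀ (s : Finset ℕ) (F : ℕ → AddMonoid.End (Additive H)) (y : Additive H),
      (∑ j ∈ s, F j) y = ∑ j ∈ s, F j y := by
    intro s F y
    induction s using Finset.induction_on with
    | empty => rfl
    | insert a s ha ih =>
      rw [Finset.sum_insert ha, Finset.sum_insert ha, ← ih]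
      rfl
  rw [hsum] at hexp
  have hterm : ∀ j, (N ^ j * 1 ^ (p - j) * (p.choose j : AddMonoid.End (Additive H))) (Additive.ofMul x) =
      p.choose j • (N ^ j) (Additive.ofMul x) := by
    intro j
    rw [one_pow, mul_one]
    show (N ^ j) ((p.choose j : AddMonoid.End (Additive H)) (Additive.ofMul x)) = _
    rw [AddMonoid.End.natCast_apply, map_nsmul]
  rw [Finset.sum_congr rfl fun j _ => hterm j] at hexp
  rw [← Finset.sum_erase_add _ _ (Finset.mem_range.mpr (Nat.succ_pos p)), pow_zero, Nat.choose_zero_right,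
    one_nsmul, show (1 : AddMonoid.End (Additive H)) (Additive.ofMul x) = Additive.ofMul x from rfl,
    add_eq_right] at hexp
  rw [← Finset.sum_erase_add _ _ (Finset.mem_erase.mpr ⟨one_ne_zero, Finset.mem_range.mpr (by omega : 1 < p + 1)⟩),
    Nat.choose_one_right, pow_one] at hexp
  have hrest : (∑ j ∈ ((Finset.range (p + 1)).erase 0).erase 1,
      p.choose j • (N ^ j) (Additive.ofMul x)) ∈ U 2 := by
    refine AddSubgroup.sum_mem _ fun j hj => ?_
    simp only [Finset.mem_erase, Finset.mem_range] at hj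
    rcases Nat.lt_or_ge j p with hjp | hjp
    · obtain ⟨c, hc⟩ := (Fact.out : p.Prime).dvd_choose_self (show j ≠ 0 by omega) hjp
      rw [hc, mul_comm, mul_nsmul']
      refine AddSubgroup.nsmul_mem _ (hnsmul 1 _ ?_) c
      rw [show j = 2 + (j - 2) by omega, pow_add]
      exact hN2 _
    · obtain rfl : j = p := by omega
      exact AddSubgroup.nsmul_mem _ (hN4 j (by omega) _) _
  have hpN : p • N (Additive.ofMul x) ∈ U 2 := by
    rw [eq_neg_of_add_eq_zero_right hexp]
    exact AddSubgroup.neg_mem _ hrest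
  obtain ⟨w, hw⟩ := hpN
  have hNx : Additive.toMul (N (Additive.ofMul x)) = x⁻¹ * γ x := by
    rw [hN]
    simp [hgy, div_eq_mul_inv, mul_comm]
  rw [toMul_nsmul, hNx] at hw
  have hwp : w ^ p ^ 2 = (x⁻¹ * γ x) ^ p := hw
  have hd : ((x⁻¹ * γ x) * (w ^ p)⁻¹) ^ p = 1 := by
    rw [mul_pow, inv_pow, ← pow_mul, ← sq, hwp, mul_inv_cancel]
  have h := Subgroup.mul_mem _ (hW _ hd) (show w ^ p ∈ powSub H p 1 from ⟨w, by simp⟩)
  rwa [inv_mul_cancel_right] at h

/-- An automorphism of `p`-power order acting on a quotient of order at most `p` acts trivially. -/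
theorem trivial_of_index_le {M : Subgroup H} (hM : M.index ≤ p) (γ : MulAut H)
    (hγM : M.map γ.toMonoidHom = M) (hγ : γ ^ p = 1) (x : H) : x⁻¹ * γ x ∈ M := by
  let e : H ⧸ M ≃* H ⧸ M := QuotientGroup.congr M M γ hγM
  let σ : Equiv.Perm (H ⧸ M) := e.toEquiv
  have hmk : ∀ y : H, σ (y : H ⧸ M) = ((γ y : H) : H ⧸ M) := fun y => rfl
  have hpow : ∀ (j : ℕ) (y : H), (σ ^ j) (y : H ⧸ M) = (((γ ^ j) y : H) : H ⧸ M) := by
    intro j
    induction j with
    | zero => intro y; rfl
    | succ j ih =>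
      intro y
      rw [pow_succ', Equiv.Perm.mul_apply, ih, hmk, pow_succ']
      rfl
  have hσ : σ ^ p ^ 1 = 1 := by
    refine Equiv.ext fun y => ?_
    obtain ⟨y, rfl⟩ := QuotientGroup.mk_surjective y
    rw [hpow, pow_one, hγ]
    rfl
  have h1 := perm_eq_one hM hσ (y₀ := ((1 : H) : H ⧸ M)) (by rw [hmk, map_one])
  have h2 := Equiv.ext_iff.mp h1 (x : H ⧸ M)
  rw [hmk, Equiv.Perm.one_apply] at h2
  exact QuotientGroup.eq.mp h2.symm

/-- An automorphism of order dividing `p` is unipotent of degree two on `H / Hᵖ`. -/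
theorem unipotent_two (hH : IsPGroup p H) (hidx : (powSub H p 1).index ≤ p ^ 2) (γ : MulAut H)
    (hγ : γ ^ p = 1) (x : H) : γ (x⁻¹ * γ x) * (x⁻¹ * γ x)⁻¹ ∈ powSub H p 1 := by
  have hp := (Fact.out : p.Prime)
  let U := powSub H p 1
  have hUγ : U.map γ.toMonoidHom = U := Subgroup.characteristic_iff_map_eq.mp (powSub_characteristic 1) γ
  let δ : H →* H := MonoidHom.mk' (fun y => y⁻¹ * γ y) fun a b => by
    rw [map_mul, mul_inv_rev]
    ac_rfl
  let M := U.comap δ
  suffices hM : M.index ≤ p ∧ M.map γ.toMonoidHom = M by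
    have h := trivial_of_index_le hM.1 γ hM.2 hγ x
    have h' : (x⁻¹ * γ x)⁻¹ * γ (x⁻¹ * γ x) ∈ U := h
    rwa [mul_comm]
  have hUM : U ≤ M := fun y hy => U.mul_mem (U.inv_mem hy) (hUγ.le ⟨y, hy, rfl⟩)
  refine ⟨?_, ?_⟩
  · by_contra hlt
    push Not at hlt
    have hidx' := Subgroup.relIndex_mul_index hUM
    obtain ⟨s, hs⟩ := (hH.to_subgroup M).index (U.subgroupOf M)
    change U.relIndex M = p ^ s at hs
    have hs0 : s = 0 := by
      by_contra h0
      have h1 : p * M.index ≤ p * p := by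
        refine le_trans (Nat.mul_le_mul_right _ (Nat.le_self_pow h0 p)) ?_
        rw [← hs, hidx', ← sq]
        exact hidx
      exact absurd (Nat.le_of_mul_le_mul_left h1 hp.pos) hlt.not_ge
    rw [hs0, pow_zero] at hs
    have hMU : M ≤ U := Subgroup.relIndex_eq_one.mp hs
    have hQ : Nontrivial (H ⧸ U) := by
      rw [← Finite.one_lt_card_iff_nontrivial, ← Subgroup.index_eq_card, ← hidx', hs, one_mul]
      exact lt_trans hp.one_lt hlt
    let e : MulAut (H ⧸ U) := QuotientGroup.congr U U γ hUγ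
    have hmk : ∀ y : H, e (y : H ⧸ U) = ((γ y : H) : H ⧸ U) := fun y => rfl
    have hpow : ∀ (j : ℕ) (y : H), (e ^ j) (y : H ⧸ U) = (((γ ^ j) y : H) : H ⧸ U) := by
      intro j
      induction j with
      | zero => intro y; rfl
      | succ j ih =>
        intro y
        rw [pow_succ', MulAut.mul_apply, ih, hmk, pow_succ']
        rfl
    have he : e ^ p = 1 := by
      refine MulEquiv.ext fun y => ?_
      obtain ⟨y, rfl⟩ := QuotientGroup.mk_surjective y
      rw [hpow, hγ]
      rfl
    have hG : IsPGroup p (Subgroup.zpowers e) := by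
      obtain ⟨j, -, hj⟩ := (Nat.dvd_prime_pow hp).mp
        (orderOf_dvd_of_pow_eq_one (show e ^ p ^ 1 = 1 by rw [pow_one, he]))
      exact IsPGroup.of_card (n := j) (by rw [Nat.card_zpowers, hj])
    obtain ⟨n, hn0, hn⟩ := (hH.to_quotient U).nontrivial_iff_card.mp hQ
    obtain ⟨b, hb, hne⟩ := hG.exists_fixed_point_of_prime_dvd_card_of_fixed_point (H ⧸ U)
      (hn ▸ dvd_pow_self p hn0.ne') (a := 1) (fun g => smul_one g)
    obtain ⟨y, rfl⟩ := QuotientGroup.mk_surjective b
    have hfix : e (y : H ⧸ U) = (y : H ⧸ U) := hb ⟨e, Subgroup.mem_zpowers e⟩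
    rw [hmk] at hfix
    exact hne ((QuotientGroup.eq_one_iff y).mpr (hMU (QuotientGroup.eq.mp hfix.symm))).symm
  · refine le_antisymm ?_ ?_
    · rintro _ ⟨y, hy, rfl⟩
      have h1 : γ (y⁻¹ * γ y) ∈ U := hUγ.le ⟨_, hy, rfl⟩
      rw [map_mul, map_inv] at h1
      exact h1
    · intro y hy
      refine ⟨γ.symm y, ?_, γ.apply_symm_apply y⟩
      obtain ⟨z, hz, hze⟩ := hUγ.ge hy
      have : (γ.symm y)⁻¹ * γ (γ.symm y) = z := by
        apply γ.injective
        rw [map_mul, map_inv, γ.apply_symm_apply]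
        exact hze.symm
      show (γ.symm y)⁻¹ * γ (γ.symm y) ∈ U
      rw [this]
      exact hz

omit [Fact p.Prime] [Finite H] in
/-- An automorphism trivial on `H / Hᵖ` is trivial on the factors of the power series. -/
theorem trivial_on_powSub {γ : MulAut H} (h : ∀ x : H, x⁻¹ * γ x ∈ powSub H p 1) (i : ℕ) {x : H}
    (hx : x ∈ powSub H p i) : x⁻¹ * γ x ∈ powSub H p (1 + i) := by
  obtain ⟨y, rfl⟩ := hx
  rw [powSub_add]
  exact ⟨_, h y, by simp [mul_pow]⟩

variable {Ω : Type*} [Group Ω] {S : Subgroup Ω} {F : Cfsg.FusionSystem S}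

/-- Abelian essential subgroups generated by two elements. -/
theorem essential_rank_two [Finite S] (hS : IsPGroup p S) {P : Subgroup Ω} (hP : F.IsEssential p P)
    (hab : IsMulCommutative P) (hrk : (frattini P).index ≤ p ^ 2) :
    (Cfsg.IsElementaryAbelian p P ∧ Nat.card P = p ^ 2) ∨
      (p ≤ 3 ∧ ∃ k : ℕ, Nonempty (P ≃* Multiplicative (ZMod (p ^ k) × ZMod (p ^ k)))) := by
  classical
  have hp := (Fact.out : p.Prime)
  have : Finite P := Fusion.finite_of_le hP.1.1
  have : Finite (MulAut P) := Fusion.finite_mulAut P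
  letI : CommGroup P := { (inferInstance : Group P) with mul_comm := hab.is_comm.comm }
  have hPp : IsPGroup p P := hS.to_le hP.1.1
  rcases series_or_homocyclic hPp (not_isCyclic_of_essential hP) hrk with
    ⟨L, n, hchar, h0, hn, hidx⟩ | ⟨k, hk1, hk, hW, ⟨eqv⟩⟩
  · exact (no_char_series hS hP L n hchar h0 hn hidx).elim
  rcases Nat.lt_or_ge k 2 with hk2 | hk2
  · left
    obtain rfl : k = 1 := by omega
    refine ⟨⟨hab, fun a ha => congrArg Subtype.val (?_ : (⟨a, ha⟩ : P) ^ p = 1)⟩, ?_⟩
    · simpa using hk ⟨a, ha⟩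
    · rw [Nat.card_congr (eqv.toEquiv.trans Multiplicative.toAdd), Nat.card_prod, Nat.card_zmod, pow_one, sq]
  by_cases hp3 : p ≤ 3
  · exact Or.inr ⟨hp3, k, ⟨eqv⟩⟩
  exfalso
  have hp5 : 5 ≤ p := by
    by_contra h
    obtain rfl : p = 4 := by omega
    norm_num at hp
  have hidxU : (powSub P p 1).index ≤ p ^ 2 := by rw [powSub_one_eq_frattini hPp]; exact hrk
  obtain ⟨γ, hγ⟩ := exists_prime_orderOf_dvd_card' (G := F.autGroup P) p
    (autGroup_of_essential_abelian hP hab).1
  have hγp : (γ : MulAut P) ^ p = 1 := by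
    rw [← SubmonoidClass.coe_pow, show γ ^ p = 1 by rw [← hγ, pow_orderOf_eq_one]]
    rfl
  have htriv : ∀ x : P, x⁻¹ * (γ : MulAut P) x ∈ powSub P p 1 := unipotent_trivial hp5 _ hγp
    (unipotent_two hPp hidxU _ hγp) fun x hx => powSub_antitone (by omega) (hW x hx)
  obtain ⟨hc, -, hNn, E, hE⟩ := hP
  let N := (Cfsg.Inn P).subgroupOf (F.autGroup P)
  let D : ℕ → Subgroup Ω := fun j => (powSub P p (k - j)).map P.subtype
  have hDP : ∀ j, D j ≤ P := fun j => Subgroup.map_subtype_le _
  have h0 : D 0 = ⊥ := by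
    show (powSub P p (k - 0)).map _ = _
    rw [Nat.sub_zero, Subgroup.map_eq_bot_iff, Subgroup.ker_subtype, le_bot_iff, Subgroup.eq_bot_iff_forall]
    rintro _ ⟨x, rfl⟩
    exact hk x
  have hn : D k = P := by
    show (powSub P p (k - k)).map _ = _
    rw [Nat.sub_self, powSub_zero, ← MonoidHom.range_eq_map, Subgroup.range_subtype]
  have hinv : ∀ j ≤ k, ∀ α ∈ F.autGroup P, Fusion.autFun α '' (D j : Set Ω) = (D j : Set Ω) := by
    intro j _ α _
    have hfix := Subgroup.characteristic_iff_map_eq.mp (powSub_characteristic (H := P) (p := p) (k - j)) α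
    ext y
    constructor
    · rintro ⟨_, ⟨z, hz, rfl⟩, rfl⟩
      rw [show Fusion.autFun α ((P.subtype z : Ω)) = (α z : Ω) from Fusion.autFun_coe α z]
      exact ⟨α z, hfix.le ⟨z, hz, rfl⟩, rfl⟩
    · rintro ⟨z, hz, rfl⟩
      obtain ⟨w, hw, rfl⟩ := hfix.ge hz
      exact ⟨w, ⟨w, hw, rfl⟩, Fusion.autFun_coe α w⟩
  let K := Fusion.chainStab F D k hinv hDP
  have hKN : K ≤ N := by
    have := Fusion.eq_bot_of_spe hE ((Fusion.chainStab_normal D k hinv hDP).map _
        (QuotientGroup.mk'_surjective N))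
      ((Fusion.chainStab_isPGroup (hS.to_le hc.1) D k hinv hDP h0 hn).map _)
    rwa [Subgroup.map_eq_bot_iff, QuotientGroup.ker_mk'] at this
  have hγK : γ ∈ K := by
    rintro j hj _ ⟨z, hz, rfl⟩
    show _ ∈ D j
    rw [show Fusion.autFun (γ : MulAut P) ((P.subtype z : Ω)) = ((γ : MulAut P) z : Ω) from
      Fusion.autFun_coe _ z]
    refine ⟨z⁻¹ * (γ : MulAut P) z, ?_, rfl⟩
    show _ ∈ powSub P p (k - j)
    rw [show k - j = 1 + (k - (j + 1)) by omega]
    exact trivial_on_powSub htriv _ hz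
  have h1 : (γ : MulAut P) = 1 := by
    have h := Subgroup.mem_subgroupOf.mp (hKN hγK)
    rwa [inn_eq_bot hab, Subgroup.mem_bot] at h
  have : γ = 1 := Subtype.ext h1
  rw [this, orderOf_one] at hγ
  exact hp.one_lt.ne hγ

end Cfsg.Agent.Fusion91
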