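import Cfsg.Agent.Fusion91.Aut
import Mathlib.GroupTheory.Nilpotent

set_option autoImplicit false

/-! The simplicity criterion for the fusion system of a group (S5160). -/

namespace Cfsg.Agent.Fusion91

open Cfsg Cfsg.FusionSystem
open scoped Pointwise

variable {Ω : Type*} [Group Ω] {S : Subgroup Ω}

theorem isConj_refl (F : Cfsg.FusionSystem S) {P : Subgroup Ω} (h : P ≤ S) : F.IsConj P P :=
  ⟨P.subtype, subtype_mem F h, P.range_subtype⟩

theorem isConj_trans (F : Cfsg.FusionSystem S) {P Q R : Subgroup Ω} (h₁ : F.IsConj P Q)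
    (h₂ : F.IsConj Q R) : F.IsConj P R := by
  obtain ⟨φ, hφ, rfl⟩ := h₁
  obtain ⟨ψ, hψ, rfl⟩ := h₂
  obtain ⟨χ, hχ, e⟩ := exists_comp F hφ hψ fun x => ⟨x, rfl⟩
  refine ⟨χ, hχ, ?_⟩
  ext y
  constructor
  · rintro ⟨x, rfl⟩
    exact ⟨_, (e x).symm⟩
  · rintro ⟨⟨_, x, rfl⟩, rfl⟩
    exact ⟨x, e x⟩

theorem exists_fullyNormalized [Finite S] (F : Cfsg.FusionSystem S) {P : Subgroup Ω} (h : P ≤ S) :
    ∃ Q, F.IsConj P Q ∧ F.IsFullyNormalized Q := by
  have hle : ∀ Q, F.IsConj P Q → Q ≤ S := by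
    rintro Q ⟨φ, hφ, rfl⟩
    exact range_le_S F hφ
  have hfin : {Q | F.IsConj P Q}.Finite := finite_subgroups_le.subset hle
  obtain ⟨Q, hQ, hmax⟩ := Set.exists_max_image _ (fun Q => Nat.card (normalizerIn S Q)) hfin
    ⟨P, isConj_refl F h⟩
  exact ⟨Q, hQ, hle Q hQ, fun R hR => hmax R (isConj_trans F hQ hR)⟩

/-- The automorphism of `γ(P)` corresponding to one of `P`. -/
noncomputable def pushAut {P : Subgroup Ω} {γ : P →* Ω} (hinj : Function.Injective γ)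
    (α : MulAut P) : MulAut γ.range :=
  (MonoidHom.ofInjective hinj).symm.trans (α.trans (MonoidHom.ofInjective hinj))

theorem pushAut_apply {P : Subgroup Ω} {γ : P →* Ω} (hinj : Function.Injective γ) (α : MulAut P)
    (x : P) : ((pushAut hinj α ⟨γ x, ⟨x, rfl⟩⟩ : γ.range) : Ω) = γ (α x) := by
  have : (⟨γ x, ⟨x, rfl⟩⟩ : γ.range) = MonoidHom.ofInjective hinj x := rfl
  rw [this]
  simp [pushAut, MonoidHom.ofInjective_apply]

theorem pushAut_pow {P : Subgroup Ω} {γ : P →* Ω} (hinj : Function.Injective γ) (α : MulAut P)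
    (n : ℕ) : pushAut hinj α ^ n = pushAut hinj (α ^ n) := by
  induction n with
  | zero => ext y; simp [pushAut]
  | succ n ih =>
    rw [pow_succ, pow_succ, ih]
    ext y
    simp [pushAut]

theorem pushAut_mem (F : Cfsg.FusionSystem S) {P : Subgroup Ω} {γ : P →* Ω} (hγ : γ ∈ F.Hom P)
    {α : MulAut P} (hα : α ∈ F.autGroup P) :
    pushAut (F.injective_of_mem hγ) α ∈ F.autGroup γ.range := by
  obtain ⟨ψ, hψ, he⟩ := F.inv_mem hγ
  have h1 : ∀ y : γ.range, ψ y ∈ P := by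
    rintro ⟨_, x, rfl⟩
    rw [he x]
    exact x.2
  obtain ⟨c₁, hc₁, e₁⟩ := exists_comp F hψ (hom_of_aut F (dom_le F hγ) hα) h1
  obtain ⟨c₂, hc₂, e₂⟩ := exists_comp F hc₁ hγ (fun y => by rw [e₁]; exact (α _).2)
  refine (mem_autGroup_iff F (range_le_S F hγ)).mpr (mem_congr F rfl hc₂ ?_)
  rintro y ⟨x, rfl⟩ -
  show ((pushAut _ α ⟨γ x, _⟩ : γ.range) : Ω) = _
  rw [pushAut_apply, e₂]
  refine congrArg γ (Subtype.ext ?_)
  refine Eq.trans ?_ (e₁ _).symm
  show ((α x : P) : Ω) = ((α _ : P) : Ω)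
  rw [show (⟨ψ ⟨γ x, ⟨x, rfl⟩⟩, h1 _⟩ : P) = x from Subtype.ext (he x)]

/-- Transport of the automorphisms of an invariant subsystem over `S` along maps of `F`. -/
theorem pushAut_mem_of_invariant (F E : Cfsg.FusionSystem S)
    (hE : E.IsInvariantIn F) {P : Subgroup Ω} {γ : P →* Ω} (hγ : γ ∈ F.Hom P)
    {α : MulAut P} (hα : α ∈ E.autGroup P) :
    pushAut (F.injective_of_mem hγ) α ∈ E.autGroup γ.range := by
  have hP := dom_le F hγ
  obtain ⟨a, ha, φ₀, hφ₀, he⟩ := hE.2.2.2 P hP γ hγ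
  obtain ⟨ψ, hψ, hinv⟩ := E.inv_mem hφ₀
  have h1 : ∀ y : φ₀.range, ψ y ∈ P := by
    rintro ⟨_, x, rfl⟩
    rw [hinv x]
    exact x.2
  obtain ⟨c₁, hc₁, e₁⟩ := exists_comp E hψ (hom_of_aut E hP hα) h1
  obtain ⟨c₂, hc₂, e₂⟩ := exists_comp E hc₁ hφ₀ (fun y => by rw [e₁]; exact (α _).2)
  have key : ∀ x, c₂ ⟨φ₀ x, ⟨x, rfl⟩⟩ = φ₀ (α x) := by
    intro x
    rw [e₂]
    refine congrArg φ₀ (Subtype.ext ?_)
    refine (e₁ _).trans ?_
    show ((α _ : P) : Ω) = ((α x : P) : Ω)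
    rw [show (⟨ψ ⟨φ₀ x, ⟨x, rfl⟩⟩, h1 _⟩ : P) = x from Subtype.ext (hinv x)]
  obtain ⟨χ, hχ, heχ⟩ := hE.2.2.1 φ₀.range (range_le_S E hφ₀) c₂ hc₂ a ha
  have hle : γ.range ≤ (φ₀.range.subgroupOf S).map (S.subtype.comp a.toMonoidHom) := by
    rintro _ ⟨x, rfl⟩
    exact ⟨⟨φ₀ x, val_mem E hφ₀ x⟩, ⟨x, rfl⟩, (he x (val_mem E hφ₀ x)).symm⟩
  refine (mem_autGroup_iff E (range_le_S F hγ)).mpr
    (mem_congr E rfl (restrict_mem E hχ hle) ?_)
  rintro y ⟨x, rfl⟩ -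
  show ((pushAut _ α ⟨γ x, _⟩ : γ.range) : Ω) = χ ⟨γ x, _⟩
  rw [pushAut_apply]
  have hx := heχ ⟨φ₀ x, ⟨x, rfl⟩⟩ (val_mem E hc₂ _) (by
    exact ⟨⟨φ₀ x, val_mem E hφ₀ x⟩, ⟨x, rfl⟩, rfl⟩)
  have e3 : (⟨c₂ ⟨φ₀ x, ⟨x, rfl⟩⟩, val_mem E hc₂ _⟩ : S) = ⟨φ₀ (α x), val_mem E hφ₀ _⟩ :=
    Subtype.ext (key x)
  rw [he (α x) (val_mem E hφ₀ _), ← e3, ← hx]
  exact congrArg χ (Subtype.ext (he x (val_mem E hφ₀ x)).symm)

/-- All automorphisms of prime-power order lie in an invariant subsystem over `S`. -/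
theorem pow_mem_of_invariant [Finite S] {p : ℕ} [Fact p.Prime] (F E : Cfsg.FusionSystem S)
    (hE : E.IsInvariantIn F) (hFA : ∀ P, F.IsFullyNormalized P → F.IsFullyAutomized p P)
    {P : Subgroup Ω} (hP : P ≤ S) {α : MulAut P} (hα : α ∈ F.autGroup P) {k : ℕ}
    (hk : α ^ p ^ k = 1) : α ∈ E.autGroup P := by
  obtain ⟨Q, ⟨γ, hγ, rfl⟩, hQ⟩ := exists_fullyNormalized F hP
  set inj := F.injective_of_mem hγ
  have hβ : pushAut inj α ∈ F.autGroup γ.range := pushAut_mem F hγ hα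
  have hβk : pushAut inj α ^ p ^ k = 1 := by
    rw [pushAut_pow, hk]
    ext y
    simp [pushAut]
  obtain ⟨-, R, hR⟩ := hFA _ hQ
  have : Finite γ.range := finite_of_le (range_le_S F hγ)
  have hRE : (R : Subgroup (F.autGroup γ.range)) ≤ (E.autGroup γ.range).subgroupOf _ := by
    rw [hR]
    refine Subgroup.comap_mono ((Subgroup.closure_le _).mpr ?_)
    rintro δ ⟨g, hg, hδ⟩
    refine (mem_autGroup_iff E (range_le_S F hγ)).mpr ?_
    have : γ.range.subtype.comp δ.toMonoidHom = conjHom γ.range g := MonoidHom.ext hδ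
    rw [this]
    exact E.conj_mem (range_le_S F hγ) hg
  have hnorm : ∀ δ ∈ F.autGroup γ.range, ∀ ε ∈ E.autGroup γ.range,
      δ * ε * δ⁻¹ ∈ E.autGroup γ.range := by
    intro δ hδ ε hε
    have hd := hom_of_aut F (range_le_S F hγ) hδ
    have h2 := pushAut_mem_of_invariant F E hE hd hε
    refine (mem_autGroup_iff E (range_le_S F hγ)).mpr
      (mem_congr E (range_subtype_comp δ) (hom_of_aut E (range_le_S F hd) h2) ?_)
    intro x hx hx'
    show ((δ (ε (δ⁻¹ ⟨x, hx'⟩)) : γ.range) : Ω) = _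
    refine (pushAut_apply (F.injective_of_mem hd) ε (δ⁻¹ ⟨x, hx'⟩)).symm.trans
      (congrArg (fun z => ((pushAut (F.injective_of_mem hd) ε z : _) : Ω)) (Subtype.ext ?_))
    show ((δ (δ.symm ⟨x, hx'⟩) : γ.range) : Ω) = x
    rw [δ.apply_symm_apply]
  set M := (E.autGroup γ.range).subgroupOf (F.autGroup γ.range)
  have hMn : M.Normal := ⟨fun n hn g => hnorm g g.2 n hn⟩
  have hβE : (⟨_, hβ⟩ : F.autGroup γ.range) ∈ M := by
    have hz : IsPGroup p (Subgroup.zpowers (⟨_, hβ⟩ : F.autGroup γ.range)) := by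
      intro x
      obtain ⟨i, hi⟩ := Subgroup.mem_zpowers_iff.mp x.2
      refine ⟨k, Subtype.ext ?_⟩
      have h1 : (⟨_, hβ⟩ : F.autGroup γ.range) ^ p ^ k = 1 := Subtype.ext hβk
      simp only [SubmonoidClass.coe_pow, ← hi, OneMemClass.coe_one]
      rw [← zpow_natCast, ← zpow_mul, mul_comm, zpow_mul, zpow_natCast, h1, one_zpow]
    obtain ⟨R', hR'⟩ := hz.exists_le_sylow
    obtain ⟨g, rfl⟩ := MulAction.exists_smul_eq (F.autGroup γ.range) R R'
    have hmem := hR' (Subgroup.mem_zpowers _)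
    rw [Sylow.coe_subgroup_smul] at hmem
    obtain ⟨r, hr, hr'⟩ := hmem
    rw [← hr']
    exact hMn.conj_mem r (hRE hr) g
  -- transport back to `P`
  obtain ⟨ψ, hψ, he⟩ := F.inv_mem hγ
  have h2 := pushAut_mem_of_invariant F E hE hψ (Subgroup.mem_subgroupOf.mp hβE)
  have hrange : ψ.range = P := by
    ext y
    constructor
    · rintro ⟨⟨_, x, rfl⟩, rfl⟩
      rw [he x]
      exact x.2
    · intro hy
      exact ⟨_, he ⟨y, hy⟩⟩
  refine (mem_autGroup_iff E hP).mpr (mem_congr E hrange (hom_of_aut E (range_le_S F hψ) h2) ?_)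
  intro x hx hx'
  have e1 := pushAut_apply (F.injective_of_mem hψ) (pushAut inj α) ⟨γ ⟨x, hx'⟩, ⟨_, rfl⟩⟩
  have e2 : (⟨γ (α ⟨x, hx'⟩), ⟨_, rfl⟩⟩ : γ.range) = pushAut inj α ⟨γ ⟨x, hx'⟩, ⟨_, rfl⟩⟩ :=
    Subtype.ext (pushAut_apply inj α ⟨x, hx'⟩).symm
  replace e1 := e1.trans ((congrArg ψ e2.symm).trans (he _))
  show ((α ⟨x, hx'⟩ : P) : Ω) = _
  refine e1.symm.trans (congrArg (fun z => ((pushAut (F.injective_of_mem hψ) (pushAut inj α) z :
    ψ.range) : Ω)) (Subtype.ext ?_))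
  exact he ⟨x, hx'⟩

/-- An automorphism of `S` whose restriction to a centric subgroup lies in an invariant saturated
subsystem over `S` lies in that subsystem. -/
theorem aut_mem_of_restrict [Finite S] {p : ℕ} [Fact p.Prime] (hS : IsPGroup p S)
    (F E : Cfsg.FusionSystem S) (hE : E.IsInvariantIn F)
    (hFA : ∀ P, F.IsFullyNormalized P → F.IsFullyAutomized p P)
    (hER : ∀ P, E.IsFullyCentralized P → E.IsReceptive P)
    {R : Subgroup Ω} (hR : F.IsCentric R) {α : MulAut S} (hα : α ∈ F.autGroup S) :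
    ∀ (N : Subgroup Ω) (hN : N ≤ S), R ≤ N → (∀ x : N, ((α ⟨x, hN x.2⟩ : S) : Ω) ∈ N) →
      (∃ φ ∈ E.Hom N, ∀ x : N, φ x = ((α ⟨x, hN x.2⟩ : S) : Ω)) → α ∈ E.autGroup S := by
  intro N
  induction hm : Nat.card S - Nat.card N using Nat.strong_induction_on generalizing N with
  | _ m ih =>
  subst hm
  intro hN hRN hstab ⟨φ, hφ, hφe⟩
  have : Finite N := finite_of_le hN
  rcases eq_or_lt_of_le hN with rfl | hlt
  · refine (mem_autGroup_iff E le_rfl).mpr ?_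
    have : N.subtype.comp α.toMonoidHom = φ := MonoidHom.ext fun x => (hφe x).symm
    rw [this]
    exact hφ
  -- `N` is fully centralized in `E`
  have hcentric : ∀ Q, F.IsConj N Q → centralizerIn S Q ≤ Q := by
    rintro Q ⟨χ, hχ, rfl⟩ z hz
    have hc := hR.2 (χ.comp (Subgroup.inclusion hRN)).range
      ⟨_, restrict_mem F hχ hRN, rfl⟩
    have hsub : (χ.comp (Subgroup.inclusion hRN)).range ≤ χ.range := by
      rintro _ ⟨x, rfl⟩; exact ⟨_, rfl⟩
    exact hsub (hc ⟨hz.1, Subgroup.centralizer_le (by exact hsub) hz.2⟩)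
  have hNfc : E.IsFullyCentralized N := by
    refine ⟨hN, ?_⟩
    rintro Q ⟨χ, hχ, rfl⟩
    obtain ⟨ψ, hψ, he⟩ := E.inv_mem hχ
    have hQ : centralizerIn S χ.range ≤ χ.range := hcentric _ ⟨χ, hE.1 _ hχ, rfl⟩
    have : Finite (centralizerIn S N) := finite_of_le inf_le_left
    refine Nat.card_le_card_of_injective
      (fun z : centralizerIn S χ.range => (⟨ψ ⟨z, hQ z.2⟩, val_mem E hψ _, ?_⟩ : centralizerIn S N))
      ?_
    · intro x hx
      have hc : (χ ⟨x, hx⟩ : Ω) * z = z * χ ⟨x, hx⟩ := z.2.2 _ ⟨_, rfl⟩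
      have hh : ψ ⟨χ ⟨x, hx⟩, ⟨_, rfl⟩⟩ = x := he ⟨x, hx⟩
      rw [← hh, ← map_mul, ← map_mul]
      exact congrArg ψ (Subtype.ext hc)
    · intro a b hab
      exact Subtype.ext (congrArg (fun z : χ.range => (z : Ω))
        (E.injective_of_mem hψ (congrArg Subtype.val hab)))
  have hφr : φ.range = N :=
    range_eq_of_card (E.injective_of_mem hφ) (fun x => hφe x ▸ hstab x) le_rfl
  obtain ⟨-, hext⟩ := hER N hNfc
  obtain ⟨ψ, hψ, hψe⟩ := hext N φ hφ hφr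
  set N' := normalizerIn S N with hN'
  have hN'S : N' ≤ S := inf_le_left
  have hNN' : N ≤ N' := le_inf hN Subgroup.le_normalizer
  have hN'ext : N' ≤ extender S N φ := by
    intro g hg
    refine Subgroup.subset_closure ⟨hg.1, hg.2, (α ⟨g, hg.1⟩ : S), (α _).2, fun x hx => ?_⟩
    rw [hφe, hφe]
    have : (⟨g * x * g⁻¹, hN hx⟩ : S) = ⟨g, hg.1⟩ * ⟨x, hN x.2⟩ * (⟨g, hg.1⟩)⁻¹ := rfl
    simp only [this, map_mul, map_inv, Subgroup.coe_mul, InvMemClass.coe_inv]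
  have hsur : ∀ y ∈ N, ∃ x : N, ((α ⟨x, hN x.2⟩ : S) : Ω) = y := by
    intro y hy
    obtain ⟨x, rfl⟩ := hφr ▸ hy
    exact ⟨x, (hφe x).symm⟩
  have hconj : ∀ g (hg : g ∈ N'), ∀ y ∈ N,
      ((α ⟨g, hg.1⟩ : S) : Ω) * y * ((α ⟨g, hg.1⟩ : S) : Ω)⁻¹ ∈ N := by
    intro g hg y hy
    obtain ⟨x, rfl⟩ := hsur y hy
    have hx : g * x * g⁻¹ ∈ N := (Subgroup.mem_normalizer_iff.mp hg.2 x).mp x.2
    have h2 := hstab ⟨_, hx⟩
    have : (⟨g * x * g⁻¹, hN hx⟩ : S) = ⟨g, hg.1⟩ * ⟨x, hN x.2⟩ * (⟨g, hg.1⟩)⁻¹ := rfl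
    simpa only [this, map_mul, map_inv, Subgroup.coe_mul, InvMemClass.coe_inv] using h2
  have hstab' : ∀ g : N', ((α ⟨g, hN'S g.2⟩ : S) : Ω) ∈ N' := by
    rintro ⟨g, hg⟩
    refine ⟨(α _).2, Subgroup.mem_normalizer_iff.mpr fun y => ⟨hconj g hg y, fun hy => ?_⟩⟩
    have h2 := hconj g⁻¹ (inv_mem hg) _ hy
    have : (⟨g⁻¹, (inv_mem hg).1⟩ : S) = (⟨g, hg.1⟩)⁻¹ := rfl
    simp only [this, map_inv, InvMemClass.coe_inv] at h2
    convert h2 using 1
    group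
  -- `ψ` maps `N'` into itself
  have hψN : ∀ x : N, ψ ⟨x, hN'ext (hNN' x.2)⟩ = φ x := fun x => hψe x x.2 _
  have hψstab : ∀ g : N', ψ ⟨g, hN'ext g.2⟩ ∈ N' := by
    have key : ∀ g (hg : g ∈ N'), ∀ y ∈ N,
        ψ ⟨g, hN'ext hg⟩ * y * (ψ ⟨g, hN'ext hg⟩)⁻¹ ∈ N := by
      intro g hg y hy
      obtain ⟨x, rfl⟩ := hsur y hy
      have hx : g * x * g⁻¹ ∈ N := (Subgroup.mem_normalizer_iff.mp hg.2 x).mp x.2
      rw [← hφe, ← hψN, ← map_inv, ← map_mul, ← map_mul]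
      have h3 : ψ ⟨g * x * g⁻¹, hN'ext (hNN' hx)⟩ ∈ N := by
        rw [hψN ⟨_, hx⟩, hφe]
        exact hstab _
      exact h3
    rintro ⟨g, hg⟩
    refine ⟨val_mem E hψ _, Subgroup.mem_normalizer_iff.mpr fun y => ⟨key g hg y, fun hy => ?_⟩⟩
    have h2 := key g⁻¹ (inv_mem hg) _ hy
    have : (⟨g⁻¹, hN'ext (inv_mem hg)⟩ : extender S N φ) = (⟨g, hN'ext hg⟩)⁻¹ := rfl
    rw [this, map_inv] at h2
    convert h2 using 1
    group
  obtain ⟨β, hβ, hβe⟩ := exists_aut_of_hom E (restrict_mem E hψ hN'ext) hψstab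
  obtain ⟨α', hα', hα'e⟩ := exists_aut_of_hom F
    (restrict_mem F (hom_of_aut F le_rfl hα) hN'S) hstab'
  -- `γ = β⁻¹ α'` is trivial on `N`
  set γ := β⁻¹ * α' with hγdef
  have hγF : γ ∈ F.autGroup N' :=
    mul_mem (inv_mem (aut_le_of_subsystem hE.1 _ hβ)) hα'
  have hfix : ∀ x : N', (x : Ω) ∈ N → γ x = x := by
    intro x hx
    show β.symm (α' x) = x
    rw [MulEquiv.symm_apply_eq]
    apply Subtype.ext
    rw [hα'e, hβe]
    exact ((hψN ⟨x, hx⟩).trans (hφe ⟨x, hx⟩)).symm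
  have hmove : ∀ g : N', (((g⁻¹ * γ g : N') : Ω)) ∈ N := by
    intro g
    refine hcentric N (isConj_refl F hN) ⟨hN'S (g⁻¹ * γ g).2, fun y hy => ?_⟩
    have hg := g.2
    have hx : (g : Ω) * y * (g : Ω)⁻¹ ∈ N := (Subgroup.mem_normalizer_iff.mp hg.2 y).mp hy
    let y' : N' := ⟨y, hNN' hy⟩
    have h1 : γ (g * y' * g⁻¹) = g * y' * g⁻¹ := hfix _ hx
    rw [map_mul, map_mul, map_inv, hfix y' hy] at h1
    have h2 : (g⁻¹ * γ g) * y' = y' * (g⁻¹ * γ g) :=
      calc (g⁻¹ * γ g) * y' = g⁻¹ * (γ g * y' * (γ g)⁻¹) * γ g := by group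
        _ = g⁻¹ * (g * y' * g⁻¹) * γ g := by rw [h1]
        _ = y' * (g⁻¹ * γ g) := by group
    exact (congrArg Subtype.val h2).symm
  obtain ⟨n, hn⟩ := IsPGroup.iff_card.mp (hS.to_le hN)
  have hγn : γ ^ p ^ n = 1 := pow_eq_one_of_trivial_on hNN'
    (fun z hz => by
      have : (⟨z, hz⟩ : N) ^ p ^ n = 1 := hn ▸ pow_card_eq_one'
      simpa using congrArg Subtype.val this) γ hfix hmove
  have hγE := pow_mem_of_invariant F E hE hFA hN'S hγF hγn
  have hα'E : α' ∈ E.autGroup N' := by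
    have : α' = β * γ := by rw [hγdef, mul_inv_cancel_left]
    rw [this]
    exact mul_mem hβ hγE
  -- `N < N'`
  have hNlt : N < N' := by
    refine lt_of_le_of_ne hNN' fun heq => ?_
    have hnil : Group.IsNilpotent S := hS.isNilpotent
    have h1 : N.subgroupOf S < ⊤ := by
      rw [lt_top_iff_ne_top]
      intro h
      exact hlt.not_ge (Subgroup.subgroupOf_eq_top.mp h)
    have h2 := Group.normalizerCondition_of_isNilpotent (h := hnil) _ h1
    rw [← Subgroup.subgroupOf_normalizer_eq hN] at h2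
    apply h2.ne
    ext x
    simp only [Subgroup.mem_subgroupOf]
    exact ⟨fun h => hNN' h |>.2, fun h => heq ▸ ⟨x.2, h⟩⟩
  have : Finite N' := finite_of_le hN'S
  refine ih _ ?_ N' rfl hN'S (hRN.trans hNN') hstab'
    ⟨_, hom_of_aut E hN'S hα'E, fun x => hα'e x⟩
  have h1 : Nat.card N < Nat.card N' := by
    refine lt_of_le_of_ne (Subgroup.card_le_of_le hNN') fun h => hNlt.ne ?_
    exact Subgroup.eq_of_le_of_card_ge hNN' h.ge
  have h2 : Nat.card N' ≤ Nat.card S := Subgroup.card_le_of_le hN'S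
  omega

/-- The elements whose action on `S` is seen in subgroups of the form `N(R)` generated by
`p`-elements, for centric subgroups `R` normalized by `S`. -/
def genSub {G : Type*} [Group G] (p : ℕ) (S : Subgroup G) : Subgroup G :=
  Subgroup.centralizer (S : Set G) ⊔
    ⨆ (R : Subgroup G) (_ : R ≤ S ∧ S ≤ Subgroup.normalizer (R : Set G) ∧ centralizerIn S R ≤ R),
      Subgroup.normalizer (S : Set G) ⊓
        Subgroup.closure {g : G | g ∈ Subgroup.normalizer (R : Set G) ∧ ∃ k : ℕ, orderOf g = p ^ k}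

theorem exists_aut_of_mem {G : Type*} [Group G] {S : Subgroup G} [Finite S] {g : G}
    (hg : g ∈ Subgroup.normalizer (S : Set G)) :
    ∃ α ∈ (Cfsg.groupFusionSystem S).autGroup S, ∀ x : S, ((α x : S) : G) = g * x * g⁻¹ := by
  have hmaps : ∀ x : S, g * x * g⁻¹ ∈ S := fun x => (Subgroup.mem_normalizer_iff.mp hg x).mp x.2
  exact exists_aut_of_hom _ (φ := conjHom S g) ⟨le_rfl, hmaps, g, fun _ => rfl⟩ hmaps

/-- In an invariant saturated subsystem over `S`, the elements of `N(S) ⊓ ⟨p-elements of N(R)⟩` act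
as automorphisms of the subsystem, `R` centric. -/
theorem act_mem_of_mem_closure {G : Type*} [Group G] [Finite G] (p : ℕ) [Fact p.Prime]
    (S : Sylow p G) {E : Cfsg.FusionSystem (S : Subgroup G)}
    (hinv : E.IsInvariantIn (Cfsg.groupFusionSystem (S : Subgroup G)))
    (hFA : ∀ P, (Cfsg.groupFusionSystem (S : Subgroup G)).IsFullyNormalized P →
      (Cfsg.groupFusionSystem (S : Subgroup G)).IsFullyAutomized p P)
    (hER : ∀ P, E.IsFullyCentralized P → E.IsReceptive P)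
    {R : Subgroup G} (hRS : R ≤ (S : Subgroup G))
    (hRc : (Cfsg.groupFusionSystem (S : Subgroup G)).IsCentric R) {g : G}
    (hg : g ∈ Subgroup.closure {g : G | g ∈ Subgroup.normalizer (R : Set G) ∧
      ∃ k : ℕ, orderOf g = p ^ k})
    {α : MulAut ↥(S : Subgroup G)}
    (hgα : ∀ x, ((α x : ↥(S : Subgroup G)) : G) = g * x * g⁻¹) :
    α ∈ E.autGroup (S : Subgroup G) := by
  set F := Cfsg.groupFusionSystem (S : Subgroup G) with hF
  let D : Subgroup G :=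
    { carrier := {g | ∃ δ ∈ E.autGroup R, ∀ x : R, ((δ x : R) : G) = g * x * g⁻¹}
      one_mem' := ⟨1, one_mem _, fun x => by simp⟩
      mul_mem' := by
        rintro a b ⟨δ, hδ, ha⟩ ⟨ε, hε, hb⟩
        refine ⟨δ * ε, mul_mem hδ hε, fun x => ?_⟩
        rw [MulAut.mul_apply, ha, hb]
        group
      inv_mem' := by
        rintro a ⟨δ, hδ, ha⟩
        refine ⟨δ⁻¹, inv_mem hδ, fun x => ?_⟩
        have h := ha (δ⁻¹ x)
        rw [show δ (δ⁻¹ x) = x from δ.apply_symm_apply x] at h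
        rw [h]
        group }
  have hgD : g ∈ D := by
    refine (Subgroup.closure_le D).mpr ?_ hg
    rintro a ⟨ha, k, hk⟩
    have hmaps : ∀ x : R, a * x * a⁻¹ ∈ R := fun x => (Subgroup.mem_normalizer_iff.mp ha x).mp x.2
    have hmem : conjHom R a ∈ F.Hom R := ⟨hRS, fun x => hRS (hmaps x), a, fun x => rfl⟩
    obtain ⟨δ, hδ, he⟩ := exists_aut_of_hom F hmem hmaps
    refine ⟨δ, pow_mem_of_invariant F E hinv hFA hRS hδ (k := k) ?_, he⟩
    have hpow : ∀ (i : ℕ) (x : R), (((δ ^ i) x : R) : G) = a ^ i * x * (a ^ i)⁻¹ := by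
      intro i
      induction i with
      | zero => intro x; simp
      | succ i ih =>
        intro x
        rw [pow_succ', MulAut.mul_apply, he, show conjHom R a ((δ ^ i) x) = a * ((δ ^ i) x : R) * a⁻¹ from rfl,
          ih, pow_succ']
        group
    ext x
    rw [hpow, ← hk, pow_orderOf_eq_one]
    simp
  obtain ⟨δ, hδ, he⟩ := hgD
  have hαF : α ∈ F.autGroup (S : Subgroup G) :=
    (mem_autGroup_iff F le_rfl).mpr ⟨le_rfl, fun x => (α x).2, g, hgα⟩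
  refine aut_mem_of_restrict S.isPGroup' F E hinv hFA hER hRc hαF R hRS le_rfl ?_
    ⟨_, hom_of_aut E hRS hδ, ?_⟩
  · intro x
    rw [hgα]
    exact he x ▸ (δ x).2
  · intro x
    rw [hgα]
    exact he x

theorem eq_of_aut_le [Finite S] (F E : Cfsg.FusionSystem S) (hinv : E.IsInvariantIn F)
    (h : F.autGroup S ≤ E.autGroup S) (P : Subgroup Ω) : E.Hom P = F.Hom P := by
  refine Set.Subset.antisymm (hinv.1 P) fun φ hφ => ?_
  obtain ⟨a, ha', φ₀, hφ₀, he⟩ := hinv.2.2.2 P (dom_le F hφ) φ hφ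
  obtain ⟨χ, hχ, hc⟩ := exists_comp E hφ₀ (hom_of_aut E le_rfl (h ha')) (val_mem E hφ₀)
  have : χ = φ := MonoidHom.ext fun x => (hc x).trans (he x (val_mem E hφ₀ x)).symm
  exact this ▸ hχ

/-- The simplicity criterion. -/
theorem groupFusion_simple_of {G : Type*} [Group G] [Finite G] (p : ℕ) [Fact p.Prime]
    (S : Sylow p G) (hsat : (Cfsg.groupFusionSystem (S : Subgroup G)).IsSaturated p)
    (hFA : ∀ P, (Cfsg.groupFusionSystem (S : Subgroup G)).IsFullyNormalized P →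
      (Cfsg.groupFusionSystem (S : Subgroup G)).IsFullyAutomized p P)
    (hER : ∀ E : Cfsg.FusionSystem (S : Subgroup G), E.IsSaturated p →
      ∀ P, E.IsFullyCentralized P → E.IsReceptive P)
    (hS1 : (S : Subgroup G) ≠ ⊥)
    (ha : ∀ T : Subgroup G, (Cfsg.groupFusionSystem (S : Subgroup G)).StronglyClosed T →
      T = ⊥ ∨ T = (S : Subgroup G))
    (hb : Cfsg.autInducedBy ⊤ (S : Subgroup G) = ⨆ (R : Subgroup G)
      (_ : (Cfsg.groupFusionSystem (S : Subgroup G)).IsFullyNormalized R ∧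
        (Cfsg.groupFusionSystem (S : Subgroup G)).IsRadical p R ∧
        (Cfsg.groupFusionSystem (S : Subgroup G)).IsCentric R),
      Cfsg.autInducedBy (Subgroup.closure {g : G | g ∈ Subgroup.normalizer (R : Set G) ∧
        ∃ k : ℕ, orderOf g = p ^ k}) (S : Subgroup G)) :
    (Cfsg.groupFusionSystem (S : Subgroup G)).IsSimple p := by
  set F := Cfsg.groupFusionSystem (S : Subgroup G) with hF
  refine ⟨hsat, hS1, fun T E hE => ?_⟩
  rcases ha T hE.1.2.2.2.1 with h | h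
  · exact Or.inl h
  subst h
  refine Or.inr ⟨rfl, ?_⟩
  have hinv := hE.1.2.2
  have hER' := hER E hE.1.1
  have hsub : autInducedBy ⊤ (S : Subgroup G) ≤ E.autGroup (S : Subgroup G) := by
    rw [hb]
    refine iSup₂_le fun R ⟨hRn, _, hRc⟩ => (Subgroup.closure_le _).mpr ?_
    rintro α ⟨g, hg, hgα⟩
    exact act_mem_of_mem_closure p S hinv hFA hER' hRn.1 hRc hg hgα
  refine fun P => eq_of_aut_le F E hinv (fun a ha' => hsub ?_) P
  obtain ⟨-, -, g, hg⟩ := hom_of_aut F le_rfl ha'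
  exact Subgroup.subset_closure ⟨g, Subgroup.mem_top g, hg⟩

end Cfsg.Agent.Fusion91
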