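import Cfsg.Agent.FusTransfer.Transfer
import Cfsg.Agent.Lib.Fusion.Hyperfocal

set_option autoImplicit false
set_option linter.style.haveILetI false

/-! Thompson's transfer lemma for fusion systems: an involution all of whose conjugates inside a
subgroup of index two have smaller centralizer lies outside the kernel of a transfer. -/

namespace Cfsg.Agent.Fusion91

open Cfsg Cfsg.Agent.Fusion
open Cfsg.FusionSystem (normalizerIn centralizerIn)
open Cfsg.Agent.FusTransfer (rightComm leftRep rightSetoid IsGraph graphs exists_biset exists_conj_leftRep)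

universe u

variable {Ω : Type u} [Group Ω] {S : Subgroup Ω} {F : Cfsg.FusionSystem S}

theorem exists_transfer_involution [Finite S] (hS : IsPGroup 2 S) (hF : F.IsSaturated 2)
    (ψ : S →* Multiplicative (ZMod 2)) (z : S) (hz1 : z * z = 1) (hψz : ψ z ≠ 1)
    (hz : ∀ (P : Subgroup Ω) (f : Ω → Ω), IsMap F P f → ∀ t : S, (t : Ω) ∈ P → f t = z → ψ t = 1 →
      Nat.card (Subgroup.centralizer ({t} : Set S)) * 2 ∣ Nat.card (Subgroup.centralizer ({z} : Set S))) :
    ∃ τ : S →* Multiplicative (ZMod 2),
      (∀ (P : Subgroup Ω) (f : Ω → Ω) (hf : IsMap F P f) (x : Ω) (hx : x ∈ P),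
        τ ⟨f x, hf.apply_mem hx⟩ = τ ⟨x, hf.dom_le hx⟩) ∧ τ z ≠ 1 := by
  classical
  obtain ⟨X, _, _, hst, hsta, m, hXm, hm⟩ := exists_biset (F := F) 2 hS hF
  letI rsX : Setoid X := rightSetoid S X
  have hfree : ∀ (t : S) (x : X), ((1, t) : S × S) • x = x → t = 1 := fun t x h => by
    obtain ⟨P, f, hg⟩ := hst x
    exact congrArg Prod.snd (hg.eq_one_of_left (MulAction.mem_stabilizer_iff.2 h) rfl)
  have : Finite (Quotient rsX) := Quotient.finite _
  haveI : Fintype (Quotient rsX) := Fintype.ofFinite _
  have hex : ∀ x : X, ∃ t : S, ((1, t) : S × S) • (Quotient.mk rsX x).out = x := fun x =>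
    Quotient.mk_out (s := rsX) x
  choose crd hcrd using hex
  have hcrd_smul : ∀ (t : S) (o : Quotient rsX), crd (((1, t) : S × S) • o.out) = t ∧
      Quotient.mk rsX (((1, t) : S × S) • o.out) = o := fun t o => by
    have h1 : Quotient.mk rsX (((1, t) : S × S) • o.out) = o :=
      (Quotient.sound (s := rsX) ⟨t, rfl⟩).symm.trans o.out_eq
    refine ⟨?_, h1⟩
    have h2 := hcrd (((1, t) : S × S) • o.out)
    rw [h1] at h2
    refine inv_mul_eq_one.1 (hfree _ o.out ?_) |>.symm
    have h3 : ((1, crd (((1, t) : S × S) • o.out)) : S × S) • o.out = ((1, t) : S × S) • o.out := h2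
    rw [show ((1, t⁻¹ * crd (((1, t) : S × S) • o.out)) : S × S) =
      ((1, t) : S × S)⁻¹ * (1, crd (((1, t) : S × S) • o.out)) by simp, mul_smul, h3, inv_smul_smul]
  let eX : X ≃ Quotient rsX × S :=
    { toFun := fun x => (Quotient.mk rsX x, crd x)
      invFun := fun q => ((1, q.2) : S × S) • q.1.out
      left_inv := fun x => hcrd x
      right_inv := fun q => Prod.ext (hcrd_smul q.2 q.1).2 (hcrd_smul q.2 q.1).1 }
  have hm' : Fintype.card (Quotient rsX) = m := by
    have h1 : Nat.card X = Nat.card (Quotient rsX) * Nat.card S := by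
      rw [← Nat.card_prod]
      exact Nat.card_congr eX
    rw [hXm, mul_comm, Nat.card_eq_fintype_card (α := Quotient rsX)] at h1
    exact (Nat.eq_of_mul_eq_mul_right Nat.card_pos h1).symm
  let σ : rightComm S X → Quotient rsX → Quotient rsX := fun g o =>
    Quotient.mk rsX ((g : Equiv.Perm X) o.out)
  let fst : rightComm S X → Quotient rsX → S := fun g o => crd ((g : Equiv.Perm X) o.out)
  have hstep : ∀ (g : rightComm S X) o,
      (g : Equiv.Perm X) o.out = ((1, fst g o) : S × S) • (σ g o).out :=
    fun g o => (hcrd _).symm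
  have hcomp : ∀ g g' o, σ (g * g') o = σ g (σ g' o) ∧ fst (g * g') o = fst g' o * fst g (σ g' o) := by
    intro g g' o
    have h : ((g * g' : rightComm S X) : Equiv.Perm X) o.out =
        ((1, fst g' o * fst g (σ g' o)) : S × S) • (σ g (σ g' o)).out := by
      rw [show ((g * g' : rightComm S X) : Equiv.Perm X) o.out =
          (g : Equiv.Perm X) ((g' : Equiv.Perm X) o.out) from rfl,
        hstep g' o, g.2 (fst g' o) ((σ g' o).out), hstep g, smul_smul]
      simp
    constructor
    · show Quotient.mk rsX _ = _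
      rw [h]; exact (hcrd_smul _ _).2
    · show crd _ = _
      rw [h]; exact (hcrd_smul _ _).1
  have hone : ∀ o, σ 1 o = o ∧ fst 1 o = 1 := by
    intro o
    have h := hcrd_smul 1 o
    rw [show ((1, 1) : S × S) = 1 from rfl, one_smul] at h
    exact ⟨h.2, h.1⟩
  have hσbij : ∀ g, Function.Bijective (σ g) := fun g =>
    Function.bijective_iff_has_inverse.2 ⟨σ g⁻¹,
      fun o => by rw [← (hcomp g⁻¹ g o).1, inv_mul_cancel, (hone o).1],
      fun o => by rw [← (hcomp g g⁻¹ o).1, mul_inv_cancel, (hone o).1]⟩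
  let χ : rightComm S X →* Multiplicative (ZMod 2) :=
    MonoidHom.mk' (fun g => ∏ o, ψ (fst g o)) fun g g' => by
      calc ∏ o, ψ (fst (g * g') o) = ∏ o, (ψ (fst g' o) * ψ (fst g (σ g' o))) :=
            Finset.prod_congr rfl fun o _ => by rw [(hcomp g g' o).2, map_mul]
        _ = (∏ o, ψ (fst g' o)) * ∏ o, ψ (fst g (σ g' o)) := Finset.prod_mul_distrib
        _ = (∏ o, ψ (fst g o)) * ∏ o, ψ (fst g' o) := by
            rw [mul_comm, (hσbij g').prod_comp fun o => ψ (fst g o)]
  refine ⟨χ.comp (leftRep S X), fun P f hf x hx => ?_, ?_⟩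
  · obtain ⟨g, hg⟩ := exists_conj_leftRep hst hsta hf
    have h := congrArg χ (hg x hx)
    rw [map_mul, map_mul, mul_comm] at h
    exact (mul_right_cancel h).symm
  -- evaluation at `z`
  obtain ⟨g, hgdef⟩ : ∃ g, g = leftRep S X z := ⟨_, rfl⟩
  show (χ (leftRep S X z)) ≠ 1
  rw [← hgdef]
  have hgg : g * g = 1 := by rw [hgdef, ← map_mul, hz1, map_one]
  have hσσ : ∀ o, σ g (σ g o) = o := fun o => by rw [← (hcomp g g o).1, hgg, (hone o).1]
  have htt : ∀ o, fst g o * fst g (σ g o) = 1 := fun o => by rw [← (hcomp g g o).2, hgg, (hone o).2]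
  have hA : ∀ a : Multiplicative (ZMod 2), a ≠ 1 → a = ψ z := by
    intro a ha
    revert ha hψz
    generalize ψ z = b
    revert a b
    decide
  have hAA : ∀ a : Multiplicative (ZMod 2), a * a = 1 := by decide
  let Fx : Finset (Quotient rsX) := Finset.univ.filter fun o => σ g o = o
  let B : Finset (Quotient rsX) := Fx.filter fun o => ψ (fst g o) = 1
  have hmemFx : ∀ o, o ∈ Fx ↔ σ g o = o := fun o => by simp [Fx]
  -- the orbits of length two contribute nothing
  have hred : ∀ φ : Quotient rsX → Multiplicative (ZMod 2), (∀ o, φ o * φ (σ g o) = 1) →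
      ∏ o, φ o = ∏ o ∈ Fx, φ o := by
    intro φ hφ
    rw [← Finset.prod_filter_mul_prod_filter_not Finset.univ (fun o => σ g o = o) φ]
    rw [Finset.prod_involution (s := Finset.univ.filter fun o => ¬ σ g o = o) (fun o _ => σ g o)
      (fun o _ => hφ o) (fun o ho _ => (Finset.mem_filter.mp ho).2)
      (fun o ho => Finset.mem_filter.mpr ⟨Finset.mem_univ _, fun h =>
        (Finset.mem_filter.mp ho).2 ((hσbij g).1 h)⟩) (fun o _ => hσσ o), mul_one]
  have hprod : χ g = ψ z ^ (Fx.card - B.card) := by
    show ∏ o, ψ (fst g o) = _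
    rw [hred _ fun o => by rw [← map_mul, htt, map_one],
      ← Finset.prod_filter_mul_prod_filter_not Fx (fun o => ψ (fst g o) = 1) _,
      Finset.prod_eq_one fun o ho => (Finset.mem_filter.mp ho).2, one_mul,
      Finset.prod_congr rfl fun o ho => hA _ (Finset.mem_filter.mp ho).2, Finset.prod_const]
    congr 1
    have := Finset.card_filter_add_card_filter_not (s := Fx) (fun o => ψ (fst g o) = 1)
    have hB : B.card = (Fx.filter fun o => ψ (fst g o) = 1).card := rfl
    simp only [ne_eq] at this ⊢
    omega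
  have hcount : ψ z ^ Fx.card = ψ z ^ m := by
    have h := hred (fun _ => ψ z) fun _ => hAA _
    simpa [hm'] using h.symm
  have hsplit : ψ z ^ (Fx.card - B.card) * ψ z ^ B.card = ψ z ^ Fx.card := by
    rw [← pow_add, Nat.sub_add_cancel (Finset.card_filter_le _ _)]
  obtain ⟨k, hk⟩ : 2 ∣ B.card := by
    -- the points with a fixing pair `(z, t)`, `t` in the kernel of `ψ`
    let C : Subgroup S := Subgroup.centralizer ({z} : Set S)
    let E := {x : X // ∃ t : S, ψ t = 1 ∧ ((z, t) : S × S) • x = x}
    have hiff : ∀ (o : Quotient rsX) (s : S),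
        (∃ t : S, ψ t = 1 ∧ ((z, t) : S × S) • (((1, s) : S × S) • o.out) = ((1, s) : S × S) • o.out) ↔
          o ∈ B := by
      intro o s
      have h1 : ((z, 1) : S × S) • o.out = ((1, fst g o) : S × S) • (σ g o).out := by
        have := hstep g o
        rw [hgdef] at this ⊢
        exact this
      have key : ∀ t : S, ((z, t) : S × S) • (((1, s) : S × S) • o.out) =
          ((1, t * s * fst g o) : S × S) • (σ g o).out := fun t => by
        rw [smul_smul, show ((z, t) * (1, s) : S × S) = (1, t * s) * (z, 1) by simp, mul_smul, h1,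
          smul_smul]
        simp
      constructor
      · rintro ⟨t, ht, he⟩
        rw [key] at he
        have ho : σ g o = o := by
          rw [← (hcrd_smul (t * s * fst g o) (σ g o)).2, he, (hcrd_smul s o).2]
        have he2 : t * s * fst g o = s := by
          rw [← (hcrd_smul (t * s * fst g o) (σ g o)).1, he, (hcrd_smul s o).1]
        refine Finset.mem_filter.mpr ⟨(hmemFx o).mpr ho, ?_⟩
        have h3 := congrArg ψ he2
        rw [map_mul, map_mul, ht, one_mul] at h3
        exact mul_left_cancel (h3.trans (mul_one _).symm)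
      · intro ho
        obtain ⟨ho1, ho2⟩ := Finset.mem_filter.mp ho
        rw [hmemFx] at ho1
        refine ⟨s * (fst g o)⁻¹ * s⁻¹, ?_, ?_⟩
        · rw [map_mul, map_mul, map_inv, map_inv, ho2, inv_one, mul_one, mul_inv_cancel]
        · rw [key, ho1]
          congr 2
          group
    have hE : Nat.card E = B.card * Nat.card S := by
      rw [← Fintype.card_coe B, ← Nat.card_eq_fintype_card, ← Nat.card_prod]
      refine Nat.card_congr
        { toFun := fun x => (⟨Quotient.mk rsX x.1, (hiff _ (crd x.1)).mp (by rw [hcrd]; exact x.2)⟩,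
            crd x.1)
          invFun := fun q => ⟨((1, q.2) : S × S) • q.1.1.out, (hiff _ _).mpr q.1.2⟩
          left_inv := fun x => Subtype.ext (hcrd x.1)
          right_inv := fun q => Prod.ext (Subtype.ext (hcrd_smul q.2 q.1.1).2) (hcrd_smul q.2 q.1.1).1 }
    letI : MulAction (C × S) E :=
      { smul := fun a x => ⟨((a.1 : S), a.2) • x.1, by
          obtain ⟨t, ht, hx⟩ := x.2
          refine ⟨a.2 * t * a.2⁻¹, ?_, ?_⟩
          · rw [map_mul, map_mul, map_inv, ht, mul_one, mul_inv_cancel]
          · have hc : z * (a.1 : S) = (a.1 : S) * z :=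
              Subgroup.mem_centralizer_iff.mp a.1.2 z (Set.mem_singleton z)
            rw [smul_smul, show ((z, a.2 * t * a.2⁻¹) * ((a.1 : S), a.2) : S × S) =
              ((a.1 : S), a.2) * (z, t) from Prod.ext hc (by simp), mul_smul, hx]⟩
        one_smul := fun x => Subtype.ext (one_smul (S × S) x.1)
        mul_smul := fun a b x => Subtype.ext (mul_smul ((a.1 : S), a.2) ((b.1 : S), b.2) x.1) }
    have hpow : ∀ K : Subgroup S, ∃ n, Nat.card K = 2 ^ n := fun K => (hS.to_subgroup K).exists_card_eq
    have horb : ∀ x : E, Nat.card S * 2 ∣ Nat.card (MulAction.orbit (C × S) x) := by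
      intro x
      obtain ⟨t, ht, htx⟩ := x.2
      obtain ⟨P, f, hg⟩ := hst x.1
      obtain ⟨htP, hft⟩ := (hg.2 _).1 (MulAction.mem_stabilizer_iff.2 htx)
      let St := MulAction.stabilizer (C × S) x
      have hSt : ∀ a : C × S, a ∈ St → ((a.1 : S), a.2) ∈ MulAction.stabilizer (S × S) x.1 :=
        fun a ha => congrArg Subtype.val (MulAction.mem_stabilizer_iff.mp ha)
      have hinj : Function.Injective ((MonoidHom.snd C S).comp St.subtype) := by
        refine (injective_iff_map_eq_one _).mpr fun a ha => ?_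
        have h := hg.eq_one_of_right (hSt a.1 a.2) ha
        exact Subtype.ext (Prod.ext (Subtype.ext (congrArg Prod.fst h :)) ha)
      have hle : ((MonoidHom.snd C S).comp St.subtype).range ≤ Subgroup.centralizer ({t} : Set S) := by
        rintro _ ⟨a, rfl⟩
        refine Subgroup.mem_centralizer_iff.mpr ?_
        intro w hw
        rw [Set.mem_singleton_iff.mp hw]
        obtain ⟨haP, hfa⟩ := (hg.2 _).1 (hSt a.1 a.2)
        apply Subtype.ext
        show (t : Ω) * (a.1.2 : Ω) = (a.1.2 : Ω) * t
        refine hg.1.injOn (P.mul_mem htP haP) (P.mul_mem haP htP) ?_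
        rw [hg.1.map_mul htP haP, hg.1.map_mul haP htP, hft, hfa]
        exact congrArg Subtype.val (Subgroup.mem_centralizer_iff.mp a.1.1.2 z (Set.mem_singleton z))
      have hdvd : Nat.card St * 2 ∣ Nat.card C := by
        refine dvd_trans (Nat.mul_dvd_mul_right ?_ 2) (hz P f hg.1 t htP hft ht)
        rw [Nat.card_congr (MonoidHom.ofInjective hinj).toEquiv]
        exact Subgroup.card_dvd_of_le hle
      have hos : Nat.card (MulAction.orbit (C × S) x) * Nat.card St = Nat.card C * Nat.card S := by
        rw [← Nat.card_prod, ← Nat.card_prod,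
          Nat.card_congr (MulAction.orbitProdStabilizerEquivGroup (C × S) x)]
      obtain ⟨d, hd⟩ := hdvd
      refine ⟨d, Nat.eq_of_mul_eq_mul_right (Nat.card_pos (α := St)) ?_⟩
      rw [hos, hd]
      ring
    have hdvdE : Nat.card S * 2 ∣ Nat.card E := by
      haveI : Fintype (Quotient (MulAction.orbitRel (C × S) E)) := Fintype.ofFinite _
      rw [Nat.card_congr (MulAction.selfEquivSigmaOrbits (C × S) E), Nat.card_sigma]
      exact Finset.dvd_sum fun ω _ => horb _
    rw [hE, mul_comm B.card] at hdvdE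
    exact Nat.dvd_of_mul_dvd_mul_left Nat.card_pos hdvdE
  obtain ⟨j, hj⟩ : ∃ j, m = 2 * j + 1 := ⟨m / 2, by omega⟩
  rw [hprod]
  intro h
  rw [h, one_mul, hk, hcount, hj, pow_succ, pow_mul, pow_mul, sq, hAA, one_pow, one_pow, one_mul] at hsplit
  exact hψz hsplit.symm

end Cfsg.Agent.Fusion91
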