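import Mathlib
import Cfsg.Agent.Fusion91.GroupsFour
import Cfsg.Agent.LocalEven61.StronglyEmbedded

set_option autoImplicit false
set_option linter.unusedSectionVars false

/-! A group acting on an abelian `p`-group such that a Sylow subgroup acts by transvections with one
centre, no conjugate centre being fixed. -/

namespace Cfsg.Agent.Fusion91

variable {p : ℕ} [Fact p.Prime] {A E : Type*} [Group A] [Finite A] [CommGroup E] [Finite E]
  [MulDistribMulAction A E]

omit [Finite A] [Finite E] in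
theorem mem_zpowers_of_inter {l z x : E} (_hl : orderOf l = p) (hz : z ∈ Subgroup.zpowers l)
    (hz1 : z ≠ 1) (hx : z ∈ Subgroup.zpowers x) (hxo : orderOf x = p) : x ∈ Subgroup.zpowers l := by
  have hp := (Fact.out : p.Prime)
  have : Finite (Subgroup.zpowers x) := Nat.finite_of_card_ne_zero (by rw [Nat.card_zpowers, hxo]; exact hp.ne_zero)
  have hd : orderOf z ∣ p := hxo ▸ (Nat.card_zpowers x ▸ Nat.card_zpowers z ▸
    Subgroup.card_dvd_of_le (Subgroup.zpowers_le.mpr hx))
  rcases (Nat.dvd_prime hp).mp hd with h | h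
  · exact absurd (orderOf_eq_one_iff.mp h) hz1
  · have : Subgroup.zpowers z = Subgroup.zpowers x := Subgroup.eq_of_le_of_card_ge
      (Subgroup.zpowers_le.mpr hx) (by rw [Nat.card_zpowers, Nat.card_zpowers, h, hxo])
    exact Subgroup.zpowers_le.mpr hz (this.symm ▸ Subgroup.mem_zpowers x)

omit [Fact p.Prime] [Finite A] [Finite E] in
theorem smul_zpowers {g : A} {l z : E} (h : z ∈ Subgroup.zpowers l) : g • z ∈ Subgroup.zpowers (g • l) := by
  obtain ⟨i, rfl⟩ := h
  exact ⟨i, (smul_zpow' g l i).symm⟩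

omit [Fact p.Prime] [Finite A] [Finite E] in
theorem orderOf_smul (g : A) (l : E) : orderOf (g • l) = orderOf l :=
  (MulDistribMulAction.toMulEquiv E g).orderOf_eq l

omit [Fact p.Prime] [Finite A] [Finite E] in
/-- Two unipotent elements each fixing the centre of the other commute. -/
theorem smul_comm_of_cross {r r' : A} {x : E} (h1 : r • (x⁻¹ * r' • x) = x⁻¹ * r' • x)
    (h2 : r' • (x⁻¹ * r • x) = x⁻¹ * r • x) : r • r' • x = r' • r • x := by
  conv_lhs => rw [show r' • x = x * (x⁻¹ * r' • x) from (mul_inv_cancel_left _ _).symm, smul_mul', h1]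
  conv_rhs => rw [show r • x = x * (x⁻¹ * r • x) from (mul_inv_cancel_left _ _).symm, smul_mul', h2]
  rw [← mul_assoc, ← mul_assoc, mul_comm (r • x) x⁻¹, mul_comm (r' • x) x⁻¹, mul_assoc, mul_assoc,
    mul_comm (r • x) (r' • x)]

/-- A `p`-subgroup of order at least `p²` of a strongly embedded subgroup cannot act by transvections
with one centre that is not fixed by the whole group. -/
theorem no_large_transvection (R₀ : Subgroup A) (hR₀ : IsPGroup p R₀) (hsize : p < Nat.card R₀) (l : E)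
    (faith : ∀ a : A, (∀ x : E, a • x = x) → a = 1) (order : orderOf l = p)
    (move : ∀ r ∈ R₀, ∀ x : E, x⁻¹ * r • x ∈ Subgroup.zpowers l) (fixl : ∀ r ∈ R₀, r • l = l)
    {g₁ : A} (hg₁ : g₁ • l ∉ Subgroup.zpowers l) {M : Subgroup A} (hle : R₀ ≤ M) (htop : M ≠ ⊤)
    (hemb : LocalEven61.NormalizersLE p M) : False := by
  have hp := (Fact.out : p.Prime)
  obtain ⟨g, hgM, hg⟩ : ∃ g : A, g ∉ M ∧ g • l ∉ Subgroup.zpowers l := by
    obtain ⟨g₀, hg₀⟩ : ∃ g₀ : A, g₀ ∉ M := by
      by_contra h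
      push Not at h
      exact htop (eq_top_iff.mpr fun x _ => h x)
    by_cases h0 : g₀ • l ∈ Subgroup.zpowers l
    · by_cases h1 : g₁ ∈ M
      · refine ⟨g₁ * g₀, fun h => hg₀ ?_, fun h => hg₁ ?_⟩
        · have := M.mul_mem (M.inv_mem h1) h
          rwa [inv_mul_cancel_left] at this
        · rw [mul_smul] at h
          refine mem_zpowers_of_inter order h (fun h2 => ?_) (smul_zpowers h0) (by rw [orderOf_smul, order])
          have := order
          rw [← orderOf_smul (g₁ * g₀), mul_smul, h2, orderOf_one] at this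
          exact hp.one_lt.ne this
      · exact ⟨g₁, h1, hg₁⟩
    · exact ⟨g₀, hg₀, h0⟩
  have hker : ∀ z : E, ∃ r ∈ R₀, r ≠ 1 ∧ r • z = z := by
    intro z
    let φ : R₀ →* E := MonoidHom.mk' (fun r => z⁻¹ * (r : A) • z) fun a b => by
      show z⁻¹ * ((a : A) * b) • z = (z⁻¹ * (a : A) • z) * (z⁻¹ * (b : A) • z)
      have h : (b : A) • z = z * (z⁻¹ * (b : A) • z) := (mul_inv_cancel_left _ _).symm
      obtain ⟨i, hi⟩ := move b b.2 z
      have h3 : (a : A) • (z⁻¹ * (b : A) • z) = z⁻¹ * (b : A) • z := by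
        rw [← hi]
        show (a : A) • l ^ i = l ^ i
        rw [smul_zpow', fixl a a.2]
      rw [mul_smul]
      conv_lhs => rw [h, smul_mul', h3]
      rw [mul_assoc]
    have hr : Nat.card φ.range ≤ p := by
      refine (Subgroup.card_le_of_le (?_ : φ.range ≤ Subgroup.zpowers l)).trans ?_
      · rintro _ ⟨r, rfl⟩
        exact move r r.2 z
      · rw [Nat.card_zpowers, order]
    obtain ⟨r, hrk, hr1⟩ := (Subgroup.bot_or_exists_ne_one φ.ker).resolve_left fun h => by
      have h1 := Subgroup.card_mul_index φ.ker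
      rw [Subgroup.index_ker, h, Subgroup.card_bot, one_mul] at h1
      omega
    exact ⟨r, r.2, fun h => hr1 (Subtype.ext h), (inv_mul_eq_one.mp (MonoidHom.mem_ker.mp hrk)).symm⟩
  obtain ⟨r, hr, hr1, hrz⟩ := hker (g • l)
  obtain ⟨r₁, hr₁, hr₁1, hr₁z⟩ := hker (g⁻¹ • l)
  set a := g * r₁ * g⁻¹ with ha
  have hal : a • l = l := by rw [ha, mul_smul, mul_smul, hr₁z, smul_inv_smul]
  have hcomm : a * r = r * a := by
    have h : ∀ x : E, (a * r) • x = (r * a) • x := fun x => by
      rw [mul_smul a r, mul_smul r a]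
      refine smul_comm_of_cross (A := A) (E := E) (r := a) (r' := r) (x := x) ?_ ?_
      · obtain ⟨i, hi⟩ := move r hr x
        rw [← hi]
        show a • l ^ i = l ^ i
        rw [smul_zpow', hal]
      · have h2 := smul_zpowers (g := g) (move r₁ hr₁ (g⁻¹ • x))
        rw [smul_mul', smul_inv', smul_inv_smul, ← mul_smul, ← mul_smul] at h2
        obtain ⟨i, hi⟩ := h2
        rw [← hi]
        show r • (g • l) ^ i = (g • l) ^ i
        rw [smul_zpow', hrz]
    have := faith ((r * a)⁻¹ * (a * r)) fun x => by rw [mul_smul, h, inv_smul_smul]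
    exact (inv_mul_eq_one.mp this).symm
  have haM : a ∈ M := hemb _ (Subgroup.zpowers_le.mpr (hle hr))
    (hR₀.to_le (Subgroup.zpowers_le.mpr hr))
    (fun h => hr1 (Subgroup.zpowers_eq_bot.mp h)) (Subgroup.centralizer_le_normalizer _
      (Subgroup.mem_centralizer_iff.mpr fun x hx => by
        obtain ⟨i, rfl⟩ := hx
        exact ((show Commute a r from hcomm).zpow_right i).symm))
  refine LocalEven61.conjInterCoprime_of_normalizersLE hemb g hgM ?_
  obtain ⟨k, hk⟩ := hR₀ ⟨r₁, hr₁⟩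
  have hk' : r₁ ^ p ^ k = 1 := congrArg Subtype.val hk
  obtain ⟨j, -, hj⟩ := (Nat.dvd_prime_pow hp).mp
    (orderOf_dvd_of_pow_eq_one (x := a) (n := p ^ k) (by rw [ha, conj_pow, hk', mul_one, mul_inv_cancel]))
  have hj0 : j ≠ 0 := by
    rintro rfl
    rw [pow_zero, orderOf_eq_one_iff, conj_eq_one_iff] at hj
    exact hr₁1 hj
  exact (hj ▸ dvd_pow_self p hj0).trans (Subgroup.orderOf_dvd_natCard _
    (⟨haM, r₁, hle hr₁, rfl⟩ : a ∈ M ⊓ M.map (MulAut.conj g).toMonoidHom))

/-- The hypotheses: the Sylow subgroup `R` is nontrivial and moves every element only along the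
order-`p` subgroup of `l`, which it fixes; `l` is moved out of that subgroup by some element, and
`M` is strongly embedded. -/
structure Transvection (p : ℕ) (A E : Type*) [Group A] [CommGroup E] [MulDistribMulAction A E] where
  R : Sylow p A
  l : E
  faith : ∀ a : A, (∀ x : E, a • x = x) → a = 1
  ne : (R : Subgroup A) ≠ ⊥
  order : orderOf l = p
  move : ∀ r ∈ (R : Subgroup A), ∀ x : E, x⁻¹ * r • x ∈ Subgroup.zpowers l
  fix : ∀ r ∈ (R : Subgroup A), r • l = l
  fixed : Subgroup E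
  mem_fixed : ∀ x : E, x ∈ fixed ↔ ∀ r ∈ (R : Subgroup A), r • x = x
  g : A
  hg : g • l ∉ Subgroup.zpowers l
  M : Subgroup A
  le : (R : Subgroup A) ≤ M
  ne_top : M ≠ ⊤
  emb : LocalEven61.NormalizersLE p M

namespace Transvection

variable (T : Transvection p A E)

theorem fix_zpowers {r : A} (hr : r ∈ (T.R : Subgroup A)) {z : E} (hz : z ∈ Subgroup.zpowers T.l) :
    r • z = z := by
  obtain ⟨i, rfl⟩ := hz
  show r • T.l ^ i = T.l ^ i
  rw [smul_zpow', T.fix r hr]

theorem commute_mem {r r' : A} (hr : r ∈ (T.R : Subgroup A)) (hr' : r' ∈ (T.R : Subgroup A)) :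
    r * r' = r' * r := by
  have h : ∀ x : E, (r * r') • x = (r' * r) • x := fun x => by
    rw [mul_smul, mul_smul]
    exact smul_comm_of_cross (T.fix_zpowers hr (T.move r' hr' x)) (T.fix_zpowers hr' (T.move r hr x))
  have := T.faith ((r' * r)⁻¹ * (r * r')) fun x => by rw [mul_smul, h, inv_smul_smul]
  exact (inv_mul_eq_one.mp this).symm

theorem conj_move {g r : A} (hr : r ∈ (T.R : Subgroup A)) (x : E) :
    x⁻¹ * (g * r * g⁻¹) • x ∈ Subgroup.zpowers (g • T.l) := by
  have h := smul_zpowers (g := g) (T.move r hr (g⁻¹ • x))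
  rwa [smul_mul', smul_inv', smul_inv_smul, ← mul_smul, ← mul_smul] at h

theorem conj_fix {g r : A} (hr : r ∈ (T.R : Subgroup A)) : (g * r * g⁻¹) • g • T.l = g • T.l := by
  rw [← mul_smul, inv_mul_cancel_right, mul_smul, T.fix r hr]

/-- A `p`-element centralizing `R` lies in `R`. -/
theorem mem_of_centralizes {a : A} {k : ℕ} (hk : a ^ p ^ k = 1)
    (hc : ∀ r ∈ (T.R : Subgroup A), a * r = r * a) : a ∈ (T.R : Subgroup A) := by
  have hP : IsPGroup p (Subgroup.zpowers a) := by
    obtain ⟨j, -, hj⟩ := (Nat.dvd_prime_pow Fact.out).mp (orderOf_dvd_of_pow_eq_one hk)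
    exact IsPGroup.of_card (n := j) (by rw [Nat.card_zpowers, hj])
  have hN : a ∈ Subgroup.normalizer ((T.R : Subgroup A) : Set A) := by
    rw [Subgroup.mem_normalizer_iff]
    intro r
    constructor
    · intro hr
      rwa [hc r hr, mul_inv_cancel_right]
    · intro hr
      have h := hc _ hr
      have : r = a * r * a⁻¹ := by
        calc r = a⁻¹ * (a * r * a⁻¹ * a) := by group
          _ = a⁻¹ * (a * (a * r * a⁻¹)) := by rw [h]
          _ = a * r * a⁻¹ := by group
      exact this ▸ hr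
  have : a ∈ Subgroup.zpowers a ⊓ Subgroup.normalizer ((T.R : Subgroup A) : Set A) :=
    ⟨Subgroup.mem_zpowers a, hN⟩
  exact ((hP.inf_normalizer_sylow T.R).le this).2

theorem conj_pow {g r : A} (hr : r ∈ (T.R : Subgroup A)) : ∃ k : ℕ, (g * r * g⁻¹) ^ p ^ k = 1 := by
  obtain ⟨k, hk⟩ := T.R.isPGroup' ⟨r, hr⟩
  refine ⟨k, ?_⟩
  rw [_root_.conj_pow, show r ^ p ^ k = 1 from congrArg Subtype.val hk, mul_one, mul_inv_cancel]

theorem eq_one_of_move {a : A} {g : A} (hg : g • T.l ∉ Subgroup.zpowers T.l)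
    (h1 : ∀ x : E, x⁻¹ * a • x ∈ Subgroup.zpowers T.l)
    (h2 : ∀ x : E, x⁻¹ * a • x ∈ Subgroup.zpowers (g • T.l)) : a = 1 := by
  refine T.faith a fun x => ?_
  by_contra hne
  refine hg (mem_zpowers_of_inter T.order (h1 x) (fun h => hne (inv_mul_eq_one.mp h).symm) (h2 x) ?_)
  rw [orderOf_smul, T.order]

/-- `R` and a conjugate cannot fix each other's centres. -/
theorem not_both {g : A} (hg : g • T.l ∉ Subgroup.zpowers T.l)
    (h1 : ∀ r ∈ (T.R : Subgroup A), r • g • T.l = g • T.l)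
    (h2 : ∀ r ∈ (T.R : Subgroup A), (g * r * g⁻¹) • T.l = T.l) : False := by
  obtain ⟨r₁, hr₁, hr₁1⟩ := (Subgroup.bot_or_exists_ne_one (T.R : Subgroup A)).resolve_left T.ne
  set a := g * r₁ * g⁻¹ with ha
  obtain ⟨k, hk⟩ := T.conj_pow (g := g) hr₁
  have hc : ∀ r ∈ (T.R : Subgroup A), a * r = r * a := by
    intro r hr
    have h : ∀ x : E, (a * r) • x = (r * a) • x := fun x => by
      rw [mul_smul a r, mul_smul r a]
      refine smul_comm_of_cross (A := A) (E := E) (r := a) (r' := r) (x := x) ?_ ?_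
      · obtain ⟨i, hi⟩ := T.move r hr x
        rw [← hi]
        show a • T.l ^ i = T.l ^ i
        rw [smul_zpow', h2 r₁ hr₁]
      · obtain ⟨i, hi⟩ := T.conj_move (g := g) hr₁ x
        rw [← hi]
        show r • (g • T.l) ^ i = (g • T.l) ^ i
        rw [smul_zpow', h1 r hr]
    have := T.faith ((r * a)⁻¹ * (a * r)) fun x => by rw [mul_smul, h, inv_smul_smul]
    exact (inv_mul_eq_one.mp this).symm
  have haR := T.mem_of_centralizes hk hc
  have := T.eq_one_of_move hg (T.move a haR) (T.conj_move hr₁)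
  exact hr₁1 (conj_eq_one_iff.mp this)

/-- No conjugate centre is fixed by `R`. -/
theorem not_fixed {g : A} (hg : g • T.l ∉ Subgroup.zpowers T.l)
    (h1 : ∀ r ∈ (T.R : Subgroup A), r • g • T.l = g • T.l) : False := by
  refine T.not_both hg h1 ?_
  by_contra h
  push Not at h
  obtain ⟨r₁, hr₁, hne⟩ := h
  set a := g * r₁ * g⁻¹ with ha
  obtain ⟨i, hi⟩ := T.conj_move (g := g) hr₁ T.l
  have hal : a • T.l = T.l * (g • T.l) ^ i := by
    rw [show (g • T.l) ^ i = T.l⁻¹ * a • T.l from hi, mul_inv_cancel_left]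
  refine T.not_both (g := a) ?_ ?_ ?_
  · intro hmem
    have hz : (g • T.l) ^ i ∈ Subgroup.zpowers T.l := by
      have := Subgroup.mul_mem _ (Subgroup.inv_mem _ (Subgroup.mem_zpowers T.l)) hmem
      rwa [hal, inv_mul_cancel_left] at this
    by_cases h1' : (g • T.l) ^ i = 1
    · exact hne (by rw [hal, h1', mul_one])
    · exact hg (mem_zpowers_of_inter T.order hz h1' ⟨i, rfl⟩ (by rw [orderOf_smul, T.order]))
  · intro r hr
    rw [hal, smul_mul', T.fix r hr, smul_zpow', h1 r hr]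
  · intro r hr
    rw [mul_smul (a * r) a⁻¹, mul_smul a r]
    obtain ⟨j, hj⟩ := T.conj_move (g := g) ((T.R : Subgroup A).inv_mem hr₁) T.l
    have hj' : a⁻¹ • T.l = T.l * (g • T.l) ^ j := by
      rw [show (g • T.l) ^ j = T.l⁻¹ * (g * r₁⁻¹ * g⁻¹) • T.l from hj, mul_inv_cancel_left]
      congr 1
      rw [ha]
      group
    rw [hj', smul_mul' r, T.fix r hr, smul_zpow', h1 r hr, ← hj', smul_inv_smul]

/-- Moving along `l`, as a homomorphism on `R`. -/
def evHom (z : E) : (T.R : Subgroup A) →* E :=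
  MonoidHom.mk' (fun r => z⁻¹ * (r : A) • z) fun a b => by
    show z⁻¹ * ((a : A) * b) • z = (z⁻¹ * (a : A) • z) * (z⁻¹ * (b : A) • z)
    have h : (b : A) • z = z * (z⁻¹ * (b : A) • z) := (mul_inv_cancel_left _ _).symm
    rw [mul_smul]
    conv_lhs => rw [h, smul_mul', T.fix_zpowers a.2 (T.move b b.2 z)]
    rw [mul_assoc]

theorem evHom_range_le (z : E) : (T.evHom z).range ≤ Subgroup.zpowers T.l := by
  rintro _ ⟨r, rfl⟩
  exact T.move r r.2 z

theorem card_range_le (z : E) : Nat.card (T.evHom z).range ≤ p := by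
  refine (Subgroup.card_le_of_le (T.evHom_range_le z)).trans ?_
  rw [Nat.card_zpowers, T.order]

theorem inv_smul_not_mem {g : A} (hg : g • T.l ∉ Subgroup.zpowers T.l) :
    g⁻¹ • T.l ∉ Subgroup.zpowers T.l := by
  intro h
  obtain ⟨i, hi⟩ := h
  have h1 : (g • T.l) ^ i = T.l := by
    rw [← smul_zpow', show T.l ^ i = g⁻¹ • T.l from hi, smul_inv_smul]
  refine hg (mem_zpowers_of_inter T.order (Subgroup.mem_zpowers T.l) (fun h => ?_) ⟨i, h1⟩
    (by rw [orderOf_smul, T.order]))
  have := T.order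
  rw [h, orderOf_one] at this
  exact (Fact.out : p.Prime).one_lt.ne this

theorem exists_outside : ∃ g : A, g ∉ T.M ∧ g • T.l ∉ Subgroup.zpowers T.l := by
  obtain ⟨g₀, hg₀⟩ : ∃ g₀ : A, g₀ ∉ T.M := by
    by_contra h
    push Not at h
    exact T.ne_top (eq_top_iff.mpr fun x _ => h x)
  by_cases h0 : g₀ • T.l ∈ Subgroup.zpowers T.l
  · by_cases h1 : T.g ∈ T.M
    · refine ⟨T.g * g₀, fun h => hg₀ ?_, fun h => T.hg ?_⟩
      · have := T.M.mul_mem (T.M.inv_mem h1) h
        rwa [inv_mul_cancel_left] at this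
      · rw [mul_smul] at h
        refine mem_zpowers_of_inter T.order h (fun h2 => ?_) (smul_zpowers h0)
          (by rw [orderOf_smul, T.order])
        have := T.order
        rw [← orderOf_smul (T.g * g₀), mul_smul, h2, orderOf_one] at this
        exact (Fact.out : p.Prime).one_lt.ne this
    · exact ⟨T.g, h1, T.hg⟩
  · exact ⟨g₀, hg₀, h0⟩

theorem card_R : Nat.card (T.R : Subgroup A) = p := by
  have hp := (Fact.out : p.Prime)
  obtain ⟨n, hn⟩ := IsPGroup.iff_card.mp T.R.isPGroup'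
  have hn0 : n ≠ 0 := fun h => T.ne (Subgroup.card_eq_one.mp (by rw [hn, h, pow_zero]))
  by_contra hne
  have hn2 : 2 ≤ n := by
    by_contra h
    obtain rfl : n = 1 := by omega
    exact hne (hn.trans (pow_one p))
  have hker : ∀ z : E, ∃ r ∈ (T.R : Subgroup A), r ≠ 1 ∧ r • z = z := by
    intro z
    obtain ⟨r, hr, hr1⟩ := (Subgroup.bot_or_exists_ne_one (T.evHom z).ker).resolve_left fun h => by
      have h1 := Subgroup.card_mul_index (T.evHom z).ker
      rw [Subgroup.index_ker, h, Subgroup.card_bot, one_mul, hn] at h1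
      exact absurd (h1 ▸ T.card_range_le z) (not_le.mpr (lt_self_pow₀ hp.one_lt hn2))
    exact ⟨r, r.2, fun h => hr1 (Subtype.ext h), (inv_mul_eq_one.mp (MonoidHom.mem_ker.mp hr)).symm⟩
  obtain ⟨g, hgM, hg⟩ := T.exists_outside
  obtain ⟨r, hr, hr1, hrz⟩ := hker (g • T.l)
  obtain ⟨r₁, hr₁, hr₁1, hr₁z⟩ := hker (g⁻¹ • T.l)
  set a := g * r₁ * g⁻¹ with ha
  have hal : a • T.l = T.l := by rw [ha, mul_smul, mul_smul, hr₁z, smul_inv_smul]
  have hcomm : a * r = r * a := by
    have h : ∀ x : E, (a * r) • x = (r * a) • x := fun x => by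
      rw [mul_smul a r, mul_smul r a]
      refine smul_comm_of_cross (A := A) (E := E) (r := a) (r' := r) (x := x) ?_ ?_
      · obtain ⟨i, hi⟩ := T.move r hr x
        rw [← hi]
        show a • T.l ^ i = T.l ^ i
        rw [smul_zpow', hal]
      · obtain ⟨i, hi⟩ := T.conj_move (g := g) hr₁ x
        rw [← hi]
        show r • (g • T.l) ^ i = (g • T.l) ^ i
        rw [smul_zpow', hrz]
    have := T.faith ((r * a)⁻¹ * (a * r)) fun x => by rw [mul_smul, h, inv_smul_smul]
    exact (inv_mul_eq_one.mp this).symm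
  have hQ : IsPGroup p (Subgroup.zpowers r) :=
    T.R.isPGroup'.to_le (Subgroup.zpowers_le.mpr hr)
  have haM : a ∈ T.M := T.emb _ (Subgroup.zpowers_le.mpr (T.le hr)) hQ
    (fun h => hr1 (Subgroup.zpowers_eq_bot.mp h)) (Subgroup.centralizer_le_normalizer _
      (Subgroup.mem_centralizer_iff.mpr fun x hx => by
        obtain ⟨i, rfl⟩ := hx
        exact ((show Commute a r from hcomm).zpow_right i).symm))
  refine LocalEven61.conjInterCoprime_of_normalizersLE T.emb g hgM ?_
  obtain ⟨k, hk⟩ := T.conj_pow (g := g) hr₁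
  obtain ⟨j, -, hj⟩ := (Nat.dvd_prime_pow hp).mp (orderOf_dvd_of_pow_eq_one hk)
  have hj0 : j ≠ 0 := by
    rintro rfl
    rw [pow_zero, orderOf_eq_one_iff, conj_eq_one_iff] at hj
    exact hr₁1 hj
  exact (hj ▸ dvd_pow_self p hj0).trans (Subgroup.orderOf_dvd_natCard _
    (⟨haM, r₁, T.le hr₁, rfl⟩ : a ∈ T.M ⊓ T.M.map (MulAut.conj g).toMonoidHom))

theorem exists_calibrated {z : E} (h : ¬ ∀ r ∈ (T.R : Subgroup A), r • z = z) {v : E}
    (hv : v ∈ Subgroup.zpowers T.l) : ∃ r ∈ (T.R : Subgroup A), z⁻¹ * r • z = v := by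
  have hp := (Fact.out : p.Prime)
  have hne : (T.evHom z).range ≠ ⊥ := fun hb => h fun r hr => by
    have h1 : T.evHom z ⟨r, hr⟩ = 1 := Subgroup.mem_bot.mp (hb ▸ ⟨_, rfl⟩)
    exact (inv_mul_eq_one.mp h1).symm
  have heq : (T.evHom z).range = Subgroup.zpowers T.l := by
    refine Subgroup.eq_of_le_of_card_ge (T.evHom_range_le z) ?_
    rw [Nat.card_zpowers, T.order]
    have hd := Subgroup.card_dvd_of_le (T.evHom_range_le z)
    rw [Nat.card_zpowers, T.order] at hd
    rcases (Nat.dvd_prime hp).mp hd with h | h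
    · exact absurd (Subgroup.card_eq_one.mp h) hne
    · exact h.ge
  obtain ⟨r, hr⟩ := heq.ge hv
  exact ⟨r, r.2, hr⟩

theorem R_eq_zpowers {r : A} (hr : r ∈ (T.R : Subgroup A)) (h : r ≠ 1) :
    (T.R : Subgroup A) = Subgroup.zpowers r := by
  refine (Subgroup.eq_of_le_of_card_ge (Subgroup.zpowers_le.mpr hr) ?_).symm
  have hd := Subgroup.orderOf_dvd_natCard _ hr
  rw [T.card_R] at hd ⊢
  rw [Nat.card_zpowers]
  rcases (Nat.dvd_prime (Fact.out : p.Prime)).mp hd with h' | h'
  · exact absurd (orderOf_eq_one_iff.mp h') h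
  · exact h'.ge

theorem l_mem_fixed : T.l ∈ T.fixed := (T.mem_fixed _).mpr fun r hr => T.fix r hr

/-- Each moved centre gives an involution-like element of the centralizer of `R`. -/
theorem exists_flip (hodd : p ≠ 2) (hcard : Nat.card T.fixed = p ^ 2) {g : A}
    (hg : g • T.l ∉ Subgroup.zpowers T.l) :
    ∃ t : A, t • T.l = T.l⁻¹ ∧ (∀ x ∈ T.fixed, x⁻¹ * t • x ∈ Subgroup.zpowers T.l) ∧
      (∀ r ∈ (T.R : Subgroup A), t * r = r * t) ∧ (∃ x ∈ T.fixed, x ≠ 1 ∧ t • x = x) ∧
      ∀ x ∈ T.fixed, (t • x = x ↔ ∀ r ∈ (T.R : Subgroup A), (g * r * g⁻¹) • x = x) := by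
  have hp := (Fact.out : p.Prime)
  have hl1 : T.l ≠ 1 := fun h => by
    have := T.order
    rw [h, orderOf_one] at this
    exact hp.one_lt.ne this
  have hlinv : T.l⁻¹ ∈ Subgroup.zpowers T.l := Subgroup.inv_mem _ (Subgroup.mem_zpowers _)
  obtain ⟨r, hr, hrz⟩ := T.exists_calibrated (fun h => T.not_fixed hg h) (Subgroup.mem_zpowers T.l)
  obtain ⟨r₁, hr₁, hr₁z⟩ := T.exists_calibrated (fun h => T.not_fixed (T.inv_smul_not_mem hg) h) hlinv
  set z := g • T.l with hzdef
  set a := g * r₁ * g⁻¹ with ha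
  have hrz' : r • z = z * T.l := by rw [← hrz, mul_inv_cancel_left]
  have hal : a • T.l = T.l * z⁻¹ := by
    have h : r₁ • g⁻¹ • T.l = (g⁻¹ • T.l) * T.l⁻¹ := by rw [← hr₁z, mul_inv_cancel_left]
    rw [ha, mul_smul, mul_smul, h, smul_mul', smul_inv_smul, smul_inv']
  have haz : a • z = z := T.conj_fix hr₁
  have hrl : r • T.l = T.l := T.fix r hr
  have hr1 : r ≠ 1 := fun h => hl1 (by rw [← hrz, h, one_smul, inv_mul_cancel])
  have hR : (T.R : Subgroup A) = Subgroup.zpowers r := T.R_eq_zpowers hr hr1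
  have hr₁1 : r₁ ≠ 1 := fun h => hl1 (inv_eq_one.mp (by rw [← hr₁z, h, one_smul, inv_mul_cancel]))
  have hR₁ : (T.R : Subgroup A) = Subgroup.zpowers r₁ := T.R_eq_zpowers hr₁ hr₁1
  set w := r * a * r with hw
  have hwl : w • T.l = z⁻¹ := by
    rw [hw, mul_smul, mul_smul, hrl, hal, smul_mul', smul_inv', hrl, hrz', mul_inv_rev, mul_comm T.l,
      mul_assoc, mul_comm z⁻¹, ← mul_assoc, inv_mul_cancel, one_mul]
  have hwz : w • z = T.l := by
    rw [hw, mul_smul, mul_smul, hrz', smul_mul' a, haz, hal, mul_comm T.l, mul_inv_cancel_left, hrl]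
  have htl : (w * w) • T.l = T.l⁻¹ := by rw [mul_smul, hwl, smul_inv', hwz]
  have htz : (w * w) • z = z⁻¹ := by rw [mul_smul, hwz, hwl]
  have htX : ∀ x : E, r • x = x → a • x = x → (w * w) • x = x := fun x h1 h2 => by
    have : w • x = x := by rw [hw, mul_smul, mul_smul, h1, h2, h1]
    rw [mul_smul, this, this]
  let X : Subgroup E :=
    { carrier := {x | r • x = x ∧ a • x = x}
      one_mem' := ⟨smul_one r, smul_one a⟩
      mul_mem' := fun {x y} hx hy => ⟨by rw [smul_mul', hx.1, hy.1], by rw [smul_mul', hx.2, hy.2]⟩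
      inv_mem' := fun {x} hx => ⟨by rw [smul_inv', hx.1], by rw [smul_inv', hx.2]⟩ }
  have hfixr : ∀ x : E, x ∈ T.fixed ↔ r • x = x := fun x => by
    rw [T.mem_fixed]
    refine ⟨fun h => h r hr, fun h s hs => ?_⟩
    rw [hR] at hs
    exact (Subgroup.zpowers_le.mpr (show r ∈ MulAction.stabilizer A x from h)) hs
  have hXle : X ≤ T.fixed := fun x hx => (hfixr x).mpr hx.1
  have hlX : T.l ∉ X := fun h => by
    have h2 := h.2
    rw [hal, mul_eq_left, inv_eq_one] at h2
    exact hg (h2.symm ▸ Subgroup.one_mem _)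
  let δ : T.fixed →* E := MonoidHom.mk' (fun x => (x : E)⁻¹ * a • (x : E)) fun x y => by
    push_cast
    rw [smul_mul', mul_inv, mul_mul_mul_comm]
  have hδ : ∀ x, δ x ∈ Subgroup.zpowers z := fun x => T.conj_move hr₁ x
  have hXcard : p ≤ Nat.card X := by
    have h1 := Subgroup.card_mul_index δ.ker
    rw [Subgroup.index_ker, hcard] at h1
    have h2 : Nat.card δ.range ≤ p := by
      refine (Subgroup.card_le_of_le (show δ.range ≤ Subgroup.zpowers z from ?_)).trans ?_
      · rintro _ ⟨x, rfl⟩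
        exact hδ x
      · rw [Nat.card_zpowers, hzdef, orderOf_smul, T.order]
    have h3 : Nat.card δ.ker ≤ Nat.card X := by
      refine Nat.card_le_card_of_injective (fun x => ⟨(x.1 : E), (hfixr _).mp x.1.2, ?_⟩) ?_
      · exact (inv_mul_eq_one.mp (MonoidHom.mem_ker.mp x.2)).symm
      · intro x y h
        exact Subtype.ext (Subtype.ext (congrArg Subtype.val h :))
    refine Nat.le_of_mul_le_mul_right (c := p) ?_ hp.pos
    rw [← sq, ← h1]
    exact Nat.mul_le_mul h3 h2
  have hLX : Subgroup.zpowers T.l ⊔ X = T.fixed := by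
    refine Subgroup.eq_of_le_of_card_ge (sup_le (Subgroup.zpowers_le.mpr T.l_mem_fixed) hXle) ?_
    have hE : IsPGroup p T.fixed := IsPGroup.of_card hcard
    have hlt : X < Subgroup.zpowers T.l ⊔ X := lt_of_le_of_ne le_sup_right fun h =>
      hlX (h.symm.le (Subgroup.mem_sup_left (Subgroup.mem_zpowers _)))
    have h4 : Nat.card X < Nat.card (Subgroup.zpowers T.l ⊔ X : Subgroup E) := by
      by_contra h
      exact hlt.ne (Subgroup.eq_of_le_of_card_ge hlt.le (not_lt.mp h))
    obtain ⟨m, -, hm⟩ := (Nat.dvd_prime_pow hp).mp (hcard ▸ Subgroup.card_dvd_of_le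
      (sup_le (Subgroup.zpowers_le.mpr T.l_mem_fixed) hXle))
    rw [hm] at h4 ⊢
    rw [hcard]
    refine Nat.pow_le_pow_right hp.pos ?_
    by_contra hm2
    have : p ^ m ≤ p := by simpa using Nat.pow_le_pow_right hp.pos (show m ≤ 1 by omega)
    omega
  have hdec : ∀ x ∈ T.fixed, ∃ i : ℤ, ∃ y ∈ X, x = T.l ^ i * y := fun x hx => by
    rw [← hLX, Subgroup.mem_sup] at hx
    obtain ⟨u, ⟨i, rfl⟩, y, hy, rfl⟩ := hx
    exact ⟨i, y, hy, rfl⟩
  have htfix : ∀ (i : ℤ) (y : E), y ∈ X → (w * w) • (T.l ^ i * y) = (T.l ^ i)⁻¹ * y := fun i y hy => by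
    rw [smul_mul', smul_zpow', htl, htX y hy.1 hy.2, inv_zpow]
  have hmove : ∀ x ∈ T.fixed, x⁻¹ * (w * w) • x ∈ Subgroup.zpowers T.l := fun x hx => by
    obtain ⟨i, y, hy, rfl⟩ := hdec x hx
    rw [htfix i y hy, mul_inv, mul_mul_mul_comm, inv_mul_cancel, mul_one]
    exact Subgroup.mul_mem _ (Subgroup.inv_mem _ ⟨i, rfl⟩) (Subgroup.inv_mem _ ⟨i, rfl⟩)
  have hcomm : ∀ s ∈ (T.R : Subgroup A), w * w * s = s * (w * w) := by
    suffices h : w * w * r = r * (w * w) by
      intro s hs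
      rw [hR] at hs
      obtain ⟨i, rfl⟩ := hs
      exact (show Commute (w * w) r from h).zpow_right i
    let K : Subgroup E :=
      { carrier := {x | (w * w * r) • x = (r * (w * w)) • x}
        one_mem' := by simp
        mul_mem' := fun {x y} hx hy => by
          show _ = _
          rw [smul_mul', hx, hy, smul_mul']
        inv_mem' := fun {x} hx => by
          show _ = _
          rw [smul_inv', hx, smul_inv'] }
    have hKf : T.fixed ≤ K := fun x hx => by
      show (w * w * r) • x = (r * (w * w)) • x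
      rw [mul_smul (w * w) r, mul_smul r (w * w), (hfixr x).mp hx]
      refine ((hfixr _).mp ?_).symm
      have := Subgroup.mul_mem _ hx (Subgroup.zpowers_le.mpr T.l_mem_fixed (hmove x hx))
      rwa [mul_inv_cancel_left] at this
    have hzK : z ∈ K := by
      show (w * w * r) • z = (r * (w * w)) • z
      rw [mul_smul (w * w) r, mul_smul r (w * w), hrz', smul_mul', htz, htl, smul_inv', hrz',
        mul_inv]
    let δr : E →* E := MonoidHom.mk' (fun x => x⁻¹ * r • x) fun x y => by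
      rw [smul_mul', mul_inv, mul_mul_mul_comm]
    have hK : K = ⊤ := by
      have h1 := Subgroup.card_mul_index δr.ker
      have h2 : δr.ker = T.fixed := by
        ext x
        rw [MonoidHom.mem_ker, hfixr x]
        exact ⟨fun h => (inv_mul_eq_one.mp h).symm, fun h => inv_mul_eq_one.mpr h.symm⟩
      have h3 : δr.range ≤ Subgroup.zpowers T.l := by
        rintro _ ⟨x, rfl⟩
        exact T.move r hr x
      rw [Subgroup.index_ker, h2, hcard] at h1
      have h4 := Subgroup.card_le_of_le h3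
      rw [Nat.card_zpowers, T.order] at h4
      obtain ⟨m, -, hm⟩ := (Nat.dvd_prime_pow hp).mp (show Nat.card δr.range ∣ p ^ 1 by
        rw [pow_one, ← T.order, ← Nat.card_zpowers]; exact Subgroup.card_dvd_of_le h3)
      rw [hm, ← pow_add] at h1
      exact eq_top_of_lt (IsPGroup.of_card h1.symm) (lt_of_le_of_ne hKf fun h => by
        have := (hfixr z).mp (h.symm ▸ hzK)
        rw [hrz', mul_eq_left] at this
        exact hl1 this) (by
          rw [← h1, hcard, ← pow_succ', pow_add]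
          calc p ^ 2 * p ^ m ≤ p ^ 2 * p := Nat.mul_le_mul_left _ (hm ▸ h4)
            _ = p ^ (2 + 1) := (pow_succ p 2).symm)
    have := T.faith ((r * (w * w))⁻¹ * (w * w * r)) fun x => by
      rw [mul_smul, show (w * w * r) • x = (r * (w * w)) • x from hK.ge (Subgroup.mem_top x), inv_smul_smul]
    exact (inv_mul_eq_one.mp this).symm
  refine ⟨w * w, htl, hmove, hcomm, ?_, fun x hx => ⟨fun h s hs => ?_, fun h => ?_⟩⟩
  · obtain ⟨x, hx, hx1⟩ := (Subgroup.bot_or_exists_ne_one X).resolve_left fun h => by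
      rw [h, Subgroup.card_bot] at hXcard
      exact absurd hXcard (not_le.mpr hp.one_lt)
    exact ⟨x, hXle hx, hx1, htX x hx.1 hx.2⟩
  · obtain ⟨i, y, hy, rfl⟩ := hdec x hx
    rw [htfix i y hy, mul_left_inj, inv_eq_iff_mul_eq_one, ← zpow_add] at h
    have h2 : T.l ^ i = 1 := by
      rw [← orderOf_dvd_iff_zpow_eq_one, T.order] at h ⊢
      rw [← two_mul] at h
      rcases Int.Prime.dvd_mul' hp h with h | h
      · exact absurd ((Nat.prime_dvd_prime_iff_eq hp Nat.prime_two).mp (by exact_mod_cast h)) hodd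
      · exact h
    rw [h2, one_mul]
    rw [hR₁] at hs
    obtain ⟨j, rfl⟩ := hs
    show (g * r₁ ^ j * g⁻¹) • y = y
    rw [← conj_zpow]
    exact (Subgroup.zpowers_le.mpr (show a ∈ MulAction.stabilizer A y from hy.2)) ⟨j, rfl⟩
  · exact htX x ((hfixr x).mp hx) (h r₁ hr₁)

theorem conj_fix_fixed {h : A} (hl : h • T.l ∈ Subgroup.zpowers T.l) {r : A}
    (hr : r ∈ (T.R : Subgroup A)) {x : E} (hx : x ∈ T.fixed) : (h * r * h⁻¹) • x = x := by
  set a := h * r * h⁻¹ with ha
  have hmv : ∀ y : E, y⁻¹ * a • y ∈ Subgroup.zpowers T.l := fun y =>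
    (Subgroup.zpowers_le.mpr hl) (T.conj_move hr y)
  have hal : a • T.l = T.l := by
    have hl' : h⁻¹ • T.l ∈ Subgroup.zpowers T.l := by
      by_contra hc
      exact T.inv_smul_not_mem (g := h⁻¹) hc (by rwa [inv_inv])
    rw [ha, mul_smul, mul_smul, T.fix_zpowers hr hl', smul_inv_smul]
  obtain ⟨k, hk⟩ := T.conj_pow (g := h) hr
  have haR := T.mem_of_centralizes hk fun s hs => by
    have h : ∀ y : E, (a * s) • y = (s * a) • y := fun y => by
      rw [mul_smul a s, mul_smul s a]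
      refine smul_comm_of_cross (A := A) (E := E) (r := a) (r' := s) (x := y) ?_ ?_
      · obtain ⟨i, hi⟩ := T.move s hs y
        rw [← hi]
        show a • T.l ^ i = T.l ^ i
        rw [smul_zpow', hal]
      · exact T.fix_zpowers hs (hmv y)
    have := T.faith ((s * a)⁻¹ * (a * s)) fun y => by rw [mul_smul, h, inv_smul_smul]
    exact (inv_mul_eq_one.mp this).symm
  exact (T.mem_fixed x).mp hx a haR

theorem smul_mem_fixed {t : A} (ht : ∀ x ∈ T.fixed, x⁻¹ * t • x ∈ Subgroup.zpowers T.l) {x : E}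
    (hx : x ∈ T.fixed) : t • x ∈ T.fixed := by
  have := Subgroup.mul_mem _ hx (Subgroup.zpowers_le.mpr T.l_mem_fixed (ht x hx))
  rwa [mul_inv_cancel_left] at this

/-- Two flips agree on the fixed subgroup of `R`. -/
theorem flip_agree {t₁ t₂ : A} (h₁ : t₁ • T.l = T.l⁻¹) (h₁' : ∀ x ∈ T.fixed, x⁻¹ * t₁ • x ∈ Subgroup.zpowers T.l)
    (c₁ : ∀ r ∈ (T.R : Subgroup A), t₁ * r = r * t₁) (h₂ : t₂ • T.l = T.l⁻¹)
    (h₂' : ∀ x ∈ T.fixed, x⁻¹ * t₂ • x ∈ Subgroup.zpowers T.l)
    (c₂ : ∀ r ∈ (T.R : Subgroup A), t₂ * r = r * t₂) {x : E} (hx : x ∈ T.fixed) : t₁ • x = t₂ • x := by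
  have hp := (Fact.out : p.Prime)
  have key : ∀ t : A, t • T.l = T.l⁻¹ → (∀ x ∈ T.fixed, x⁻¹ * t • x ∈ Subgroup.zpowers T.l) →
      (∀ r ∈ (T.R : Subgroup A), t * r = r * t) → ∀ y ∈ T.fixed, (t * t₂) • y = y := by
    intro t ht ht' ct y hy
    set u := t * t₂ with hu
    have hul : u • T.l = T.l := by rw [hu, mul_smul, h₂, smul_inv', ht, inv_inv]
    have huy : y⁻¹ * u • y ∈ Subgroup.zpowers T.l := by
      have h1 := Subgroup.mul_mem _ (h₂' y hy) (ht' _ (T.smul_mem_fixed h₂' hy))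
      rwa [mul_assoc, mul_inv_cancel_left, ← mul_smul] at h1
    have hiter : ∀ n : ℕ, (u ^ n) • y = y * (y⁻¹ * u • y) ^ n := by
      intro n
      induction n with
      | zero => simp
      | succ n ih =>
        obtain ⟨i, hi⟩ := huy
        have h3 : u • (y⁻¹ * u • y) = y⁻¹ * u • y := by
          rw [← hi]
          show u • T.l ^ i = T.l ^ i
          rw [smul_zpow', hul]
        rw [pow_succ', mul_smul, ih, smul_mul', smul_pow', h3, pow_succ', ← mul_assoc, ← mul_assoc,
          mul_inv_cancel, one_mul]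
    have hp' : u ^ p ∈ MulAction.stabilizer A y := by
      rw [MulAction.mem_stabilizer_iff, hiter]
      obtain ⟨i, hi⟩ := huy
      rw [← hi]
      show y * (T.l ^ i) ^ p = y
      rw [← zpow_natCast (T.l ^ i), ← zpow_mul, mul_comm i, zpow_mul, zpow_natCast,
        show T.l ^ p = 1 from orderOf_dvd_iff_pow_eq_one.mp T.order.dvd, one_zpow, mul_one]
    obtain ⟨k, m, hm, hkm⟩ := Nat.exists_eq_pow_mul_and_not_dvd (orderOf_pos u).ne' p hp.ne_one
    have hm' : u ^ m ∈ MulAction.stabilizer A y := by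
      refine (T.mem_fixed y).mp hy _ (T.mem_of_centralizes (k := k) ?_ fun r hr => ?_)
      · rw [← pow_mul, mul_comm, ← hkm, pow_orderOf_eq_one]
      · have hur : Commute u r :=
          (show Commute t r from ct r hr).mul_left (show Commute t₂ r from c₂ r hr)
        exact hur.pow_left m
    have hb : Int.gcdA p m * p + Int.gcdB p m * m = 1 := by
      have := Int.gcd_eq_gcd_ab (p : ℤ) m
      rw [Int.gcd_natCast_natCast, (hp.coprime_iff_not_dvd.mpr hm).gcd_eq_one] at this
      rw [mul_comm (Int.gcdA p m), mul_comm (Int.gcdB p m)]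
      exact_mod_cast this.symm
    have : u ^ (1 : ℤ) ∈ MulAction.stabilizer A y := by
      rw [← hb, zpow_add, mul_comm (Int.gcdA p m), mul_comm (Int.gcdB p m), zpow_mul, zpow_mul,
        zpow_natCast, zpow_natCast]
      exact Subgroup.mul_mem _ (Subgroup.zpow_mem _ hp' _) (Subgroup.zpow_mem _ hm' _)
    rwa [zpow_one] at this
  have e1 := key t₁ h₁ h₁' c₁ (t₂ • x) (T.smul_mem_fixed h₂' hx)
  have e2 := key t₂ h₂ h₂' c₂ x hx
  rw [mul_smul] at e2
  rw [mul_smul, e2] at e1
  exact e1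

/-- The common fixed subgroup of the flips is invariant. -/
theorem exists_invariant (hodd : p ≠ 2) (hcard : Nat.card T.fixed = p ^ 2) :
    ∃ t : A, t • T.l = T.l⁻¹ ∧ (∀ x ∈ T.fixed, x⁻¹ * t • x ∈ Subgroup.zpowers T.l) ∧
      (∀ r ∈ (T.R : Subgroup A), t * r = r * t) ∧ (∃ x ∈ T.fixed, x ≠ 1 ∧ t • x = x) ∧
      ∀ (β : A) (x : E), x ∈ T.fixed → t • x = x → β • x ∈ T.fixed ∧ t • β • x = β • x := by
  obtain ⟨t, ht, htm, htc, hne, hiff⟩ := T.exists_flip hodd hcard T.hg
  refine ⟨t, ht, htm, htc, hne, fun β x hx htx => ?_⟩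
  have hall : ∀ h : A, ∀ r ∈ (T.R : Subgroup A), (h * r * h⁻¹) • x = x := by
    intro h r hr
    by_cases hl : h • T.l ∈ Subgroup.zpowers T.l
    · exact T.conj_fix_fixed hl hr hx
    · obtain ⟨t', ht', htm', htc', -, hiff'⟩ := T.exists_flip hodd hcard hl
      exact (hiff' x hx).mp ((T.flip_agree ht' htm' htc' ht htm htc hx).trans htx) r hr
  have hall' : ∀ h : A, ∀ r ∈ (T.R : Subgroup A), (h * r * h⁻¹) • β • x = β • x := by
    intro h r hr
    calc (h * r * h⁻¹) • β • x = β • (β⁻¹ * h * r * (β⁻¹ * h)⁻¹) • x := by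
          simp only [← mul_smul]; group
      _ = β • x := by rw [hall (β⁻¹ * h) r hr]
  have hfix : β • x ∈ T.fixed := (T.mem_fixed _).mpr fun r hr => by
    have := hall' 1 r hr
    rwa [one_mul, inv_one, mul_one] at this
  exact ⟨hfix, (hiff _ hfix).mpr (hall' T.g)⟩

end Transvection

end Cfsg.Agent.Fusion91
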